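import Groth.Agent.S1469
import Groth.Agent.S2670
import Groth.Agent.H05EGA4.NormalTensor
import Groth.Prelude.Def_Pi1
import Mathlib.AlgebraicGeometry.Morphisms.Smooth
import Mathlib.AlgebraicGeometry.Noetherian

/-!
# Schemes smooth over normal schemes are normal
-/

set_option autoImplicit false
set_option linter.style.haveILetI false
universe u
open CategoryTheory AlgebraicGeometry
open scoped TensorProduct

namespace Groth.Agent.H28Neron

/-- The sections of a normal scheme over an affine open form a normal ring. -/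
theorem isNormalRing_sections {Y : Scheme.{u}} (h : Pi1.IsNormalScheme Y) {U : Y.Opens}
    (hU : IsAffineOpen U) : EGA4.IsNormalRing Γ(Y, U) := by
  intro p hp
  let q : PrimeSpectrum Γ(Y, U) := ⟨p, hp⟩
  have hq : hU.fromSpec q ∈ U := by
    have : hU.fromSpec q ∈ Set.range hU.fromSpec := ⟨q, rfl⟩
    rwa [hU.range_fromSpec] at this
  letI : Algebra Γ(Y, U) (Y.presheaf.stalk (hU.fromSpec q)) :=
    TopCat.Presheaf.algebra_section_stalk Y.presheaf ⟨hU.fromSpec q, hq⟩
  haveI : IsLocalization p.primeCompl (Y.presheaf.stalk (hU.fromSpec q)) := hU.isLocalization_stalk' q hq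
  let e := IsLocalization.algEquiv p.primeCompl (Localization.AtPrime p) (Y.presheaf.stalk (hU.fromSpec q))
  obtain ⟨h1, h2⟩ := h (hU.fromSpec q)
  exact ⟨e.toMulEquiv.isDomain _, IsIntegrallyClosed.of_equiv e.symm.toRingEquiv⟩

/-- A scheme smooth over a locally Noetherian normal scheme is normal. -/
theorem isNormalScheme_of_smooth {X Y : Scheme.{u}} (f : X ⟶ Y) [Smooth f] [IsLocallyNoetherian Y]
    (h : Pi1.IsNormalScheme Y) : Pi1.IsNormalScheme X := by
  haveI : IsLocallyNoetherian X := LocallyOfFiniteType.isLocallyNoetherian f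
  intro x
  obtain ⟨U, hU, hxU, -⟩ := exists_isAffineOpen_mem_and_subset (x := f x) (U := ⊤) trivial
  obtain ⟨V, hV, hxV, hVU⟩ := exists_isAffineOpen_mem_and_subset (x := x) (U := f ⁻¹ᵁ U) hxU
  letI : Algebra Γ(Y, U) Γ(X, V) := (f.appLE U V hVU).hom.toAlgebra
  have hN : EGA4.IsNormalHom Γ(Y, U) Γ(X, V) := Groth.Agent.S1469.result f V U hV hU hVU
  haveI : IsNoetherianRing Γ(Y, U) := IsLocallyNoetherian.component_noetherian ⟨U, hU⟩
  haveI : IsNoetherianRing Γ(X, V) := IsLocallyNoetherian.component_noetherian ⟨V, hV⟩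
  have h2 := H05EGA4.isNormalRing_of_ringEquiv
    (Algebra.TensorProduct.rid Γ(Y, U) Γ(X, V) Γ(X, V)).toRingEquiv
    (Groth.Agent.S2670.result Γ(Y, U) Γ(X, V) hN Γ(Y, U) (isNormalRing_sections h hU))
  let q := (hV.primeIdealOf ⟨x, hxV⟩).asIdeal
  letI : Algebra Γ(X, V) (X.presheaf.stalk x) := X.presheaf.algebra_section_stalk ⟨x, hxV⟩
  haveI : IsLocalization q.primeCompl (X.presheaf.stalk x) := hV.isLocalization_stalk ⟨x, hxV⟩
  let e := IsLocalization.algEquiv q.primeCompl (Localization.AtPrime q) (X.presheaf.stalk x)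
  obtain ⟨g1, g2⟩ := h2 q
  exact ⟨haveI := g1; e.symm.toMulEquiv.isDomain _, haveI := g2; IsIntegrallyClosed.of_equiv e.toRingEquiv⟩

end Groth.Agent.H28Neron
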