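import Groth.Agent.H17.TwoGlue
import Groth.Agent.H8Props.J2Scheme
import Groth.Agent.H02CA.SmoothRegular
import Groth.Agent.H4Depth.Regular
import Mathlib.AlgebraicGeometry.ValuativeCriterion
import Mathlib.AlgebraicGeometry.Morphisms.Smooth
import Mathlib.RingTheory.DiscreteValuationRing.TFAE

/-!
# Extending morphisms defined on dense opens of regular schemes in codimension one
-/

set_option autoImplicit false
universe u
open CategoryTheory CategoryTheory.Limits AlgebraicGeometry TopologicalSpace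

namespace Groth.Agent.H28Neron

/-- Local rings of a scheme smooth over a regular ring are regular. -/
theorem isRegularLocalRing_stalk_of_smooth {R : Type u} [CommRing R] [IsRegularRing R] {X : Scheme.{u}}
    (pX : X ⟶ Spec (CommRingCat.of R)) [Smooth pX] (x : X) :
    IsRegularLocalRing (X.presheaf.stalk x) := by
  obtain ⟨_, ⟨(V : X.Opens), (hV : IsAffineOpen V), rfl⟩, hxV, -⟩ :=
    X.isBasis_affineOpens.exists_subset_of_mem_open (Set.mem_univ x) isOpen_univ
  obtain ⟨φ, hφ⟩ := Spec.map_surjective (hV.fromSpec ≫ pX)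
  letI := φ.hom.toAlgebra
  have hsm : φ.hom.Smooth := by
    have : Smooth (Spec.map φ) := by rw [hφ]; infer_instance
    exact (HasRingHomProperty.Spec_iff (P := @Smooth)).1 this
  have : Algebra.Smooth R Γ(X, V) := hsm
  have : IsRegularRing Γ(X, V) := Groth.Agent.H02CA.isRegularRing_of_smooth R Γ(X, V)
  have hp : hV.primeIdealOf ⟨x, hxV⟩ ∈ hV.fromSpec ⁻¹' H8Props.J2Scheme.regSet X := by
    rw [H8Props.J2Scheme.preimage_regSet hV]
    exact isRegularRing_iff.mp inferInstance _
  have h := Set.mem_preimage.mp hp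
  rwa [hV.fromSpec_primeIdealOf] at h

theorem isReduced_of_smooth {R : Type u} [CommRing R] [IsRegularRing R] {X : Scheme.{u}}
    (pX : X ⟶ Spec (CommRingCat.of R)) [Smooth pX] : IsReduced X := by
  have : ∀ x : X, _root_.IsReduced (X.presheaf.stalk x) := fun x => by
    have := isRegularLocalRing_stalk_of_smooth pX x
    have := H4Depth.isDomain_of_isRegularLocalRing (X.presheaf.stalk x)
    infer_instance
  exact isReduced_of_isReduced_stalk X

/-- A regular local ring of dimension at most one is a valuation ring. -/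
theorem valuationRing_of_regular (A : Type u) [CommRing A] [IsRegularLocalRing A] [IsDomain A]
    (hA : ringKrullDim A ≤ 1) : ValuationRing A := by
  have h1 : (IsLocalRing.maximalIdeal A).spanFinrank ≤ 1 := by
    have h := (isRegularLocalRing_iff A).mp inferInstance
    rw [← h] at hA
    exact_mod_cast hA
  have hp : (IsLocalRing.maximalIdeal A).IsPrincipal := by
    rcases Nat.le_one_iff_eq_zero_or_eq_one.mp h1 with h0 | h0
    · refine ⟨0, ?_⟩
      rw [Submodule.span_zero_singleton]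
      exact (Submodule.spanFinrank_eq_zero_iff_eq_bot (IsNoetherian.noetherian _)).mp h0
    · exact ((Submodule.spanFinrank_eq_one_iff _).mp h0).1
  exact ((tfae_of_isNoetherianRing_of_isLocalRing_of_isDomain A).out 1 4 rfl rfl).mpr hp

theorem isDominant_of_specializes {P V : Scheme.{u}} (j : P ⟶ V) (p : P) (h : ∀ v : V, j p ⤳ v) :
    IsDominant j :=
  ⟨fun v => closure_mono (Set.singleton_subset_iff.mpr (Set.mem_range_self p)) (h v).mem_closure⟩

/-- The morphism from the spectrum of the fraction field of a local ring. -/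
noncomputable def genStalk (X : Scheme.{u}) (x : X) [IsDomain (X.presheaf.stalk x)] :
    Spec (CommRingCat.of (FractionRing (X.presheaf.stalk x))) ⟶ X :=
  Spec.map (CommRingCat.ofHom (algebraMap (X.presheaf.stalk x) _)) ≫ X.fromSpecStalk x

/-- The point of the spectrum of the fraction field of a local ring. -/
noncomputable def fracPt (X : Scheme.{u}) (x : X) [IsDomain (X.presheaf.stalk x)] :
    Spec (CommRingCat.of (FractionRing (X.presheaf.stalk x))) :=
  IsLocalRing.closedPoint (FractionRing (X.presheaf.stalk x))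

/-- The generic point below a point with a domain as local ring. -/
noncomputable def genPoint (X : Scheme.{u}) (x : X) [IsDomain (X.presheaf.stalk x)] : X :=
  genStalk X x (fracPt X x)

theorem genPoint_specializes_of_mem_range {X : Scheme.{u}} (x : X) [IsDomain (X.presheaf.stalk x)]
    {y : X} (hy : y ⤳ x) : genPoint X x ⤳ y := by
  obtain ⟨q, rfl⟩ : y ∈ Set.range (X.fromSpecStalk x) := by
    rw [Scheme.range_fromSpecStalk]; exact hy
  rw [genPoint, genStalk, Scheme.Hom.comp_apply]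
  refine Specializes.map ((PrimeSpectrum.le_iff_specializes _ _).mp ?_) (X.fromSpecStalk x).continuous
  intro a ha
  change algebraMap (X.presheaf.stalk x) (FractionRing (X.presheaf.stalk x)) a ∈
    IsLocalRing.maximalIdeal (FractionRing (X.presheaf.stalk x)) at ha
  rw [IsLocalRing.maximalIdeal_eq_bot, Submodule.mem_bot,
    map_eq_zero_iff _ (IsFractionRing.injective _ _)] at ha
  rw [ha]
  exact zero_mem _

theorem genPoint_specializes {X : Scheme.{u}} (x : X) [IsDomain (X.presheaf.stalk x)] :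
    genPoint X x ⤳ x :=
  genPoint_specializes_of_mem_range x le_rfl

theorem range_genStalk_subset {X : Scheme.{u}} (x : X) [IsDomain (X.presheaf.stalk x)] {U : X.Opens}
    (hU : genPoint X x ∈ U) : Set.range (genStalk X x) ⊆ Set.range U.ι := by
  rintro _ ⟨w, rfl⟩
  rw [Subsingleton.elim (α := PrimeSpectrum (FractionRing (X.presheaf.stalk x))) w (fracPt X x), Scheme.Opens.range_ι]
  exact hU

theorem genPoint_mem_of_dense {X : Scheme.{u}} [IsLocallyNoetherian X] (x : X)
    [IsDomain (X.presheaf.stalk x)] {U : X.Opens} (hU : Dense (U : Set X)) : genPoint X x ∈ U := by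
  obtain ⟨W₀, hxW₀, -, hW₀⟩ := H17.exists_isIntegral_nhd x (Or.inl inferInstance)
  let η : W₀.toScheme := genericPoint W₀.toScheme
  have hall : ∀ y : W₀.toScheme, W₀.ι η ⤳ W₀.ι y := fun y =>
    ((genericPoint_spec W₀.toScheme).specializes (Set.mem_univ y)).map W₀.ι.continuous
  obtain ⟨y, hyW, hyU⟩ := hU.inter_open_nonempty W₀ W₀.2 ⟨x, hxW₀⟩
  exact ((genPoint_specializes_of_mem_range x (hall ⟨x, hxW₀⟩)).trans (hall ⟨y, hyW⟩)).mem_open U.2 hyU

/-- An extension over the local ring at `x` of a morphism on a dense open spreads out near `x`. -/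
theorem exists_nhd_of_stalk_lift {X Y S : Scheme.{u}} (sX : X ⟶ S) (sY : Y ⟶ S) [IsSeparated sY]
    [LocallyOfFiniteType sY] [IsReduced X] [IsLocallyNoetherian X] (U : X.Opens)
    (f : U.toScheme ⟶ Y) (hf : f ≫ sY = U.ι ≫ sX) (x : X) [IsDomain (X.presheaf.stalk x)]
    (hxU : genPoint X x ∈ U) (l : Spec (X.presheaf.stalk x) ⟶ Y)
    (hl : l ≫ sY = X.fromSpecStalk x ≫ sX)
    (hlf : IsOpenImmersion.lift U.ι (genStalk X x) (range_genStalk_subset x hxU) ≫ f =
      Spec.map (CommRingCat.ofHom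
        (algebraMap (X.presheaf.stalk x) (FractionRing (X.presheaf.stalk x)))) ≫ l) :
    ∃ (W : X.Opens) (g : W.toScheme ⟶ Y), x ∈ W ∧ g ≫ sY = W.ι ≫ sX ∧
      X.homOfLE (inf_le_left : U ⊓ W ≤ U) ≫ f = X.homOfLE inf_le_right ≫ g := by
  obtain ⟨W₀, hxW₀, -, hW₀⟩ := H17.exists_isIntegral_nhd x (Or.inl inferInstance)
  obtain ⟨W₁, hxW₁, g, hg₁, hg₂⟩ := spread_out_of_isGermInjective' sX sY (x := x) l hl
  refine ⟨W₁ ⊓ W₀, X.homOfLE inf_le_left ≫ g, ⟨hxW₁, hxW₀⟩, by
    rw [Category.assoc, hg₂, Scheme.homOfLE_ι_assoc], ?_⟩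
  let V := U ⊓ (W₁ ⊓ W₀)
  let η : W₀.toScheme := genericPoint W₀.toScheme
  have hall : ∀ y : W₀.toScheme, W₀.ι η ⤳ W₀.ι y := fun y =>
    ((genericPoint_spec W₀.toScheme).specializes (Set.mem_univ y)).map W₀.ι.continuous
  have hx'V : genPoint X x ∈ V :=
    ⟨hxU, (genPoint_specializes x).mem_open W₁.2 hxW₁, (genPoint_specializes x).mem_open W₀.2 hxW₀⟩
  let lV := IsOpenImmersion.lift V.ι (genStalk X x) (range_genStalk_subset x hx'V)
  have hlV : lV ≫ V.ι = genStalk X x := IsOpenImmersion.lift_fac _ _ _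
  have : IsDominant lV := by
    refine isDominant_of_specializes lV (fracPt X x) fun v => ?_
    refine V.ι.isOpenEmbedding.isInducing.specializes_iff.mp ?_
    rw [← Scheme.Hom.comp_apply, hlV]
    exact (genPoint_specializes_of_mem_range x (hall ⟨x, hxW₀⟩)).trans (hall ⟨V.ι v, v.2.2.2⟩)
  refine ext_of_isDominant_of_isSeparated sY ?_ lV ?_
  · simp only [Category.assoc, hf, hg₂, Scheme.homOfLE_ι_assoc]
  · have h1 : lV ≫ X.homOfLE (inf_le_left : V ≤ U) =
        IsOpenImmersion.lift U.ι (genStalk X x) (range_genStalk_subset x hxU) := by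
      rw [← cancel_mono U.ι, Category.assoc, Scheme.homOfLE_ι, hlV, IsOpenImmersion.lift_fac]
    have h2 : lV ≫ X.homOfLE ((inf_le_right : V ≤ W₁ ⊓ W₀).trans inf_le_left) =
        Spec.map (CommRingCat.ofHom (algebraMap (X.presheaf.stalk x) _)) ≫
          W₁.fromSpecStalkOfMem x hxW₁ := by
      rw [← cancel_mono W₁.ι, Category.assoc, Category.assoc, Scheme.homOfLE_ι, hlV,
        Scheme.Opens.fromSpecStalkOfMem_ι]
      rfl
    rw [reassoc_of% h1, Scheme.homOfLE_homOfLE_assoc, reassoc_of% h2, ← hg₁, hlf]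

/-- The valuative criterion gives an extension of a morphism on a dense open near any point whose
local ring is a valuation ring. -/
theorem exists_nhd_extension {X Y S : Scheme.{u}} (sX : X ⟶ S) (sY : Y ⟶ S) [IsProper sY]
    [IsReduced X] [IsLocallyNoetherian X] (U : X.Opens) (hU : Dense (U : Set X))
    (f : U.toScheme ⟶ Y) (hf : f ≫ sY = U.ι ≫ sX) (x : X) [IsDomain (X.presheaf.stalk x)]
    [ValuationRing (X.presheaf.stalk x)] :
    ∃ (W : X.Opens) (g : W.toScheme ⟶ Y), x ∈ W ∧ g ≫ sY = W.ι ≫ sX ∧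
      X.homOfLE (inf_le_left : U ⊓ W ≤ U) ≫ f = X.homOfLE inf_le_right ≫ g := by
  have hxU := genPoint_mem_of_dense x hU
  let lU := IsOpenImmersion.lift U.ι (genStalk X x) (range_genStalk_subset x hxU)
  have hlU : lU ≫ U.ι = genStalk X x := IsOpenImmersion.lift_fac _ _ _
  let sq : ValuativeCommSq sY :=
    { R := X.presheaf.stalk x
      domain := ‹IsDomain (X.presheaf.stalk x)›
      valuationRing := ‹ValuationRing (X.presheaf.stalk x)›
      K := FractionRing (X.presheaf.stalk x)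
      i₁ := lU ≫ f
      i₂ := X.fromSpecStalk x ≫ sX
      commSq := ⟨by rw [Category.assoc, hf, reassoc_of% hlU, genStalk, Category.assoc]⟩ }
  have hex : ValuativeCriterion.Existence sY := by
    have h : (ValuativeCriterion ⊓ @QuasiCompact ⊓ @QuasiSeparated ⊓ @LocallyOfFiniteType) sY := by
      rw [← IsProper.eq_valuativeCriterion]; infer_instance
    exact h.1.1.1.existence
  obtain ⟨⟨l, hl₁, hl₂⟩⟩ := (hex sq).exists_lift
  exact exists_nhd_of_stalk_lift sX sY U f hf x hxU l hl₂ hl₁.symm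

/-- Morphisms to a separated scheme extending a morphism on a dense open glue to a largest one. -/
theorem exists_maximal_extension {X Y S : Scheme.{u}} (sX : X ⟶ S) (sY : Y ⟶ S) [IsSeparated sY]
    [IsReduced X] (U : X.Opens) (hU : Dense (U : Set X)) (f : U.toScheme ⟶ Y) (hf : f ≫ sY = U.ι ≫ sX) :
    ∃ (V : X.Opens) (hUV : U ≤ V) (g : V.toScheme ⟶ Y), g ≫ sY = V.ι ≫ sX ∧ X.homOfLE hUV ≫ g = f ∧
      ∀ (W : X.Opens) (g' : W.toScheme ⟶ Y), g' ≫ sY = W.ι ≫ sX →
        X.homOfLE (inf_le_left : U ⊓ W ≤ U) ≫ f = X.homOfLE inf_le_right ≫ g' → W ≤ V := by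
  let I := Σ W : X.Opens, {g : W.toScheme ⟶ Y //
    g ≫ sY = W.ι ≫ sX ∧ X.homOfLE (inf_le_left : U ⊓ W ≤ U) ≫ f = X.homOfLE inf_le_right ≫ g}
  let W : I → X.Opens := fun i => i.1
  have hcomp : ∀ i j : I, X.homOfLE inf_le_left ≫ i.2.1 =
      X.homOfLE (inf_le_right : W i ⊓ W j ≤ W j) ≫ j.2.1 := by
    intro i j
    let Q : X.Opens := U ⊓ (W i ⊓ W j)
    have : IsDominant (X.homOfLE (inf_le_right : Q ≤ W i ⊓ W j)) := by
      refine ⟨dense_iff_inter_open.mpr fun O hO hne => ?_⟩
      obtain ⟨y, hy⟩ := hne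
      obtain ⟨w, ⟨⟨p, hp, rfl⟩, hwU⟩⟩ := hU.inter_open_nonempty _
        ((W i ⊓ W j).ι.isOpenEmbedding.isOpenMap O hO) ⟨_, y, hy, rfl⟩
      refine ⟨p, hp, ⟨(W i ⊓ W j).ι p, hwU, p.2⟩, ?_⟩
      apply (W i ⊓ W j).ι.isOpenEmbedding.injective
      exact (Scheme.Hom.comp_apply _ _ _).symm.trans (by rw [Scheme.homOfLE_ι]; rfl)
    refine ext_of_isDominant_of_isSeparated sY ?_ (X.homOfLE (inf_le_right : Q ≤ W i ⊓ W j)) ?_
    · simp only [Category.assoc, i.2.2.1, j.2.2.1, Scheme.homOfLE_ι_assoc, W]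
    · have h1 := congrArg (X.homOfLE (le_inf inf_le_left (inf_le_right.trans inf_le_left) :
        Q ≤ U ⊓ W i) ≫ ·) i.2.2.2
      have h2 := congrArg (X.homOfLE (le_inf inf_le_left (inf_le_right.trans inf_le_right) :
        Q ≤ U ⊓ W j) ≫ ·) j.2.2.2
      simp only [Scheme.homOfLE_homOfLE_assoc, W] at h1 h2 ⊢
      exact h1.symm.trans h2
  let 𝒰 := Scheme.Opens.iSupOpenCover W
  let c := 𝒰.glueMorphisms (Y := Y) (fun i => i.2.1) (fun i j => by
    have h1 := isPullback_opens_inf_le (le_iSup W i) (le_iSup W j)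
    refine (cancel_epi h1.isoPullback.hom).mp ?_
    show h1.isoPullback.hom ≫ pullback.fst _ _ ≫ i.2.1 = h1.isoPullback.hom ≫ pullback.snd _ _ ≫ j.2.1
    rw [h1.isoPullback_hom_fst_assoc, h1.isoPullback_hom_snd_assoc]
    exact hcomp i j)
  have hc : ∀ i, X.homOfLE (le_iSup W i) ≫ c = i.2.1 := fun i => 𝒰.ι_glueMorphisms _ _ i
  let i₀ : I := ⟨U, f, hf, rfl⟩
  refine ⟨⨆ i, W i, le_iSup W i₀, c, ?_, hc i₀, fun W' g' h1 h2 => le_iSup W ⟨W', g', h1, h2⟩⟩
  refine 𝒰.hom_ext _ _ fun i => ?_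
  show X.homOfLE (le_iSup W i) ≫ _ = X.homOfLE (le_iSup W i) ≫ _
  rw [reassoc_of% (hc i), Scheme.homOfLE_ι_assoc]
  exact i.2.2.1

/-- A rational map from a smooth scheme over a regular ring to a proper scheme is defined away from
codimension two. -/
theorem exists_extension_off_codim_two {R : Type u} [CommRing R] [IsRegularRing R] {X Y : Scheme.{u}}
    (pX : X ⟶ Spec (CommRingCat.of R)) (pY : Y ⟶ Spec (CommRingCat.of R)) [Smooth pX] [IsProper pY]
    (U : X.Opens) (hU : Dense (U : Set X)) (f : U.toScheme ⟶ Y) (hf : f ≫ pY = U.ι ≫ pX) :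
    ∃ (V : X.Opens) (hUV : U ≤ V) (g : V.toScheme ⟶ Y),
      g ≫ pY = V.ι ≫ pX ∧ X.homOfLE hUV ≫ g = f ∧
      ∀ x : X, x ∉ V → (2 : WithBot ℕ∞) ≤ ringKrullDim (X.presheaf.stalk x) := by
  have : IsLocallyNoetherian X := LocallyOfFiniteType.isLocallyNoetherian pX
  have := isReduced_of_smooth pX
  obtain ⟨V, hUV, g, hg, hres, hmax⟩ := exists_maximal_extension pX pY U hU f hf
  refine ⟨V, hUV, g, hg, hres, fun x hx => ?_⟩
  by_contra hlt
  have := isRegularLocalRing_stalk_of_smooth pX x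
  have := H4Depth.isDomain_of_isRegularLocalRing (X.presheaf.stalk x)
  have hle : ringKrullDim (X.presheaf.stalk x) ≤ 1 := by
    obtain ⟨n, hn⟩ : ∃ n : ℕ, ringKrullDim (X.presheaf.stalk x) = n :=
      ⟨_, ((isRegularLocalRing_iff _).mp inferInstance).symm⟩
    rw [hn, not_le] at hlt
    rw [hn]
    exact_mod_cast Nat.lt_succ_iff.mp (show n < 2 by exact_mod_cast hlt)
  have := valuationRing_of_regular _ hle
  obtain ⟨W, g', hxW, h1, h2⟩ := exists_nhd_extension pX pY U hU f hf x
  exact hx (hmax W g' h1 h2 hxW)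

end Groth.Agent.H28Neron
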