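import Mathlib.AlgebraicGeometry.Morphisms.SchemeTheoreticallyDominant
import Mathlib.AlgebraicGeometry.Morphisms.ClosedImmersion
import Mathlib.AlgebraicGeometry.Morphisms.Separated
import Mathlib.RingTheory.Localization.FractionRing
import Groth.Prelude.Def_Neron

/-!
# Morphisms agreeing on a scheme-theoretically dense part
-/

namespace Groth.Agent.H28Neron

open CategoryTheory CategoryTheory.Limits AlgebraicGeometry

universe u

theorem ext_of_schDominant {W X Y S : Scheme.{u}} (f g : X ⟶ Y) (s : Y ⟶ S) [IsSeparated s]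
    (h : f ≫ s = g ≫ s) (j : W ⟶ X) [IsSchemeTheoreticallyDominant j] (hj : j ≫ f = j ≫ g) : f = g := by
  let Δ : Y ⟶ pullback s s := pullback.diagonal s
  let l : X ⟶ pullback s s := pullback.lift f g h
  let e := pullback.fst l Δ
  let u : W ⟶ pullback l Δ := pullback.lift j (j ≫ f) (by
    apply pullback.hom_ext <;> rw [Category.assoc] <;> dsimp only [l]
    · rw [pullback.lift_fst]; simp [Δ]
    · rw [pullback.lift_snd]; simp [Δ, hj])
  have hue : u ≫ e = j := pullback.lift_fst _ _ _
  have hker : e.ker = ⊥ := le_bot_iff.1 (by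
    calc e.ker ≤ (u ≫ e).ker := Scheme.Hom.le_ker_comp u e
      _ = j.ker := by rw [hue]
      _ = ⊥ := j.ker_eq_bot)
  have : IsIso e := IsClosedImmersion.isIso_iff_ker_eq_bot.2 hker
  have hc : e ≫ l = pullback.snd l Δ ≫ Δ := pullback.condition
  have h1 : e ≫ f = pullback.snd l Δ := by
    have := hc =≫ pullback.fst s s
    rw [Category.assoc, Category.assoc, pullback.lift_fst] at this
    simpa [Δ] using this
  have h2 : e ≫ g = pullback.snd l Δ := by
    have := hc =≫ pullback.snd s s
    rw [Category.assoc, Category.assoc, pullback.lift_snd] at this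
    simpa [Δ] using this
  rw [← cancel_epi e, h1, h2]

variable (R : Type u) [CommRing R] [IsDomain R]

instance : IsDominant (Neron.genPt R) := by
  refine ⟨?_⟩
  exact PrimeSpectrum.denseRange_comap_iff_ker_le_nilRadical (algebraMap R (FractionRing R)) |>.2
    (((RingHom.injective_iff_ker_eq_bot _).1 (IsFractionRing.injective R (FractionRing R))).trans_le bot_le)

instance : IsSchemeTheoreticallyDominant (Neron.genPt R) :=
  .of_isDominant _

theorem hom_ext_genericFibre (X Y : Over (Spec (CommRingCat.of R))) [Flat X.hom] [IsSeparated Y.hom]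
    (f g : X ⟶ Y) (h : (Neron.genericFibre R).map f = (Neron.genericFibre R).map g) : f = g := by
  refine Over.OverMorphism.ext (ext_of_schDominant f.left g.left Y.hom (by rw [Over.w f, Over.w g])
    (pullback.fst X.hom (Neron.genPt R)) ?_)
  have h1 := congrArg (fun m => m.left ≫ pullback.fst Y.hom (Neron.genPt R)) h
  change pullback.lift _ _ _ ≫ pullback.fst _ _ = pullback.lift _ _ _ ≫ pullback.fst _ _ at h1
  rw [pullback.lift_fst, pullback.lift_fst] at h1
  exact h1

end Groth.Agent.H28Neron
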