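import Groth.Agent.H28Neron.Weil
import Groth.Agent.H28Neron.Ext

/-!
# Morphisms from the generic fibre of a smooth scheme to a proper scheme
-/

set_option autoImplicit false
universe u
open CategoryTheory CategoryTheory.Limits AlgebraicGeometry TopologicalSpace

namespace Groth.Agent.H28Neron

/-- A morphism from the generic fibre extends to an open subscheme containing the generic fibre. -/
theorem exists_spread_generic {R : Type u} [CommRing R] [IsDomain R] [IsRegularRing R] {X Y : Scheme.{u}}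
    (pX : X ⟶ Spec (CommRingCat.of R)) (pY : Y ⟶ Spec (CommRingCat.of R)) [Smooth pX] [IsSeparated pY]
    [LocallyOfFiniteType pY] (u : pullback pX (Neron.genPt R) ⟶ Y)
    (hu : u ≫ pY = pullback.fst pX (Neron.genPt R) ≫ pX) :
    ∃ (U : X.Opens) (hU : Set.range (pullback.fst pX (Neron.genPt R)) ⊆ Set.range U.ι)
      (f : U.toScheme ⟶ Y), Dense (U : Set X) ∧ f ≫ pY = U.ι ≫ pX ∧
      IsOpenImmersion.lift U.ι (pullback.fst pX (Neron.genPt R)) hU ≫ f = u := by
  let j := pullback.fst pX (Neron.genPt R)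
  let sK := pullback.snd pX (Neron.genPt R)
  have hsK : Smooth sK := MorphismProperty.of_isPullback (IsPullback.of_hasPullback pX (Neron.genPt R)) ‹_›
  have : IsLocallyNoetherian X := LocallyOfFiniteType.isLocallyNoetherian pX
  have : IsReduced (pullback pX (Neron.genPt R)) := isReduced_of_smooth sK
  have hXred := isReduced_of_smooth pX
  let I := Σ W : X.Opens, {g : W.toScheme ⟶ Y // g ≫ pY = W.ι ≫ pX ∧ (j ∣_ W) ≫ g = (j ⁻¹ᵁ W).ι ≫ u}
  let W : I → X.Opens := fun i => i.1
  have hcomp : ∀ i k : I, X.homOfLE inf_le_left ≫ i.2.1 =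
      X.homOfLE (inf_le_right : W i ⊓ W k ≤ W k) ≫ k.2.1 := by
    intro i k
    let Q := W i ⊓ W k
    have : IsSchemeTheoreticallyDominant (j ∣_ Q) :=
      .of_isPullback (((isPullback_morphismRestrict j Q).paste_vert
        (IsPullback.of_hasPullback pX (Neron.genPt R))).flip)
    refine ext_of_schDominant _ _ pY ?_ (j ∣_ Q) ?_
    · simp only [Category.assoc, i.2.2.1, k.2.2.1, Scheme.homOfLE_ι_assoc, W]
    · have hres : ∀ {W' : X.Opens} (h : Q ≤ W'), (j ∣_ Q) ≫ X.homOfLE h =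
          (pullback pX (Neron.genPt R)).homOfLE (j.preimage_mono h) ≫ (j ∣_ W') := fun h => by
        rw [← cancel_mono (Scheme.Opens.ι _), Category.assoc, Category.assoc, Scheme.homOfLE_ι,
          morphismRestrict_ι, morphismRestrict_ι, Scheme.homOfLE_ι_assoc]
      rw [reassoc_of% (hres inf_le_left), reassoc_of% (hres inf_le_right)]
      erw [i.2.2.2, k.2.2.2]
      rw [Scheme.homOfLE_ι_assoc, Scheme.homOfLE_ι_assoc]
  have hcover : ∀ y : (pullback pX (Neron.genPt R) : Scheme), j y ∈ ⨆ i, W i := by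
    intro y
    let x := j y
    have := isRegularLocalRing_stalk_of_smooth pX x
    have := H4Depth.isDomain_of_isRegularLocalRing (X.presheaf.stalk x)
    obtain ⟨φ, hφ⟩ := Spec.map_surjective (X.fromSpecStalk x ≫ pX)
    let O := X.presheaf.stalk x
    have hunit : ∀ r : nonZeroDivisors R, IsUnit (φ.hom r) := fun r => by
      by_contra hr
      have hmem : φ.hom r ∈ IsLocalRing.maximalIdeal O := (IsLocalRing.mem_maximalIdeal _).mpr hr
      let z : Spec (X.presheaf.stalk x) := IsLocalRing.closedPoint O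
      have h1 : (Spec.map φ) z = Neron.genPt R (sK y) := by
        rw [hφ, Scheme.Hom.comp_apply, show X.fromSpecStalk x z = x from Scheme.fromSpecStalk_closedPoint,
          ← Scheme.Hom.comp_apply, pullback.condition, Scheme.Hom.comp_apply]
      have h2 : (r : R) ∈ (Neron.genPt R (sK y) : PrimeSpectrum R).asIdeal := by
        rw [← h1]; exact hmem
      change algebraMap R (FractionRing R) r ∈ (sK y : PrimeSpectrum (FractionRing R)).asIdeal at h2
      rw [(Ideal.eq_bot_or_top (sK y : PrimeSpectrum (FractionRing R)).asIdeal).resolve_right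
        (sK y : PrimeSpectrum (FractionRing R)).2.ne_top, Submodule.mem_bot,
        map_eq_zero_iff _ (IsFractionRing.injective R (FractionRing R))] at h2
      exact nonZeroDivisors.coe_ne_zero r h2
    let κ : FractionRing R →+* O := IsLocalization.lift hunit
    have hκ : Spec.map (CommRingCat.ofHom κ) ≫ Neron.genPt R = X.fromSpecStalk x ≫ pX := by
      rw [← hφ, ← Spec.map_comp, ← CommRingCat.ofHom_comp, IsLocalization.lift_comp]
      rfl
    let c : Spec O ⟶ pullback pX (Neron.genPt R) :=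
      pullback.lift (X.fromSpecStalk x) (Spec.map (CommRingCat.ofHom κ)) hκ.symm
    have hc : c ≫ j = X.fromSpecStalk x := pullback.lift_fst _ _ _
    have hl : (c ≫ u) ≫ pY = X.fromSpecStalk x ≫ pX := by rw [Category.assoc, hu, reassoc_of% hc]
    obtain ⟨W₀, hxW₀, -, hW₀⟩ := H17.exists_isIntegral_nhd x (Or.inl inferInstance)
    obtain ⟨W₁, hxW₁, g, hg₁, hg₂⟩ := spread_out_of_isGermInjective' pX pY (x := x) (c ≫ u) hl
    let V := W₁ ⊓ W₀
    refine Opens.mem_iSup.mpr ⟨⟨V, X.homOfLE inf_le_left ≫ g, by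
      rw [Category.assoc, hg₂, Scheme.homOfLE_ι_assoc], ?_⟩, hxW₁, hxW₀⟩
    let σ : Spec (CommRingCat.of (FractionRing O)) ⟶ Spec O :=
      Spec.map (CommRingCat.ofHom (algebraMap O (FractionRing O)))
    have hgen : genPoint X x ∈ V :=
      ⟨(genPoint_specializes x).mem_open W₁.2 hxW₁, (genPoint_specializes x).mem_open W₀.2 hxW₀⟩
    have hrange : Set.range (σ ≫ c) ⊆ Set.range (j ⁻¹ᵁ V).ι := by
      rintro _ ⟨w, rfl⟩
      rw [Scheme.Opens.range_ι]
      show j ((σ ≫ c) w) ∈ V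
      rw [← Scheme.Hom.comp_apply, Category.assoc, hc]
      exact (Scheme.Opens.range_ι V).le (range_genStalk_subset x hgen ⟨w, rfl⟩)
    let lV := IsOpenImmersion.lift (j ⁻¹ᵁ V).ι (σ ≫ c) hrange
    have hlV : lV ≫ (j ⁻¹ᵁ V).ι = σ ≫ c := IsOpenImmersion.lift_fac _ _ _
    have : IsPreimmersion (Neron.genPt R) :=
      IsPreimmersion.of_isLocalization (nonZeroDivisors R)
    have : IsPreimmersion j := MorphismProperty.of_isPullback (IsPullback.of_hasPullback pX (Neron.genPt R)).flip ‹_›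
    have : IsDominant lV := by
      refine isDominant_of_specializes lV (fracPt X x) fun v => ?_
      refine ((j ⁻¹ᵁ V).ι ≫ j).isEmbedding.isInducing.specializes_iff.mp ?_
      rw [← Scheme.Hom.comp_apply, reassoc_of% hlV, hc]
      let η : W₀.toScheme := genericPoint W₀.toScheme
      have hall : ∀ t : W₀.toScheme, W₀.ι η ⤳ W₀.ι t := fun t =>
        ((genericPoint_spec W₀.toScheme).specializes (Set.mem_univ t)).map W₀.ι.continuous
      exact (genPoint_specializes_of_mem_range x (hall ⟨x, hxW₀⟩)).trans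
        (hall ⟨((j ⁻¹ᵁ V).ι ≫ j) v, v.2.2⟩)
    refine ext_of_isDominant_of_isSeparated pY ?_ lV ?_
    · simp only [Category.assoc, hg₂, Scheme.homOfLE_ι_assoc, hu]
      rw [reassoc_of% (morphismRestrict_ι j V)]
    · have h2 : lV ≫ (j ∣_ V) ≫ X.homOfLE (inf_le_left : V ≤ W₁) =
          σ ≫ W₁.fromSpecStalkOfMem x hxW₁ := by
        rw [← cancel_mono W₁.ι]
        simp only [Category.assoc, Scheme.homOfLE_ι, morphismRestrict_ι,
          Scheme.Opens.fromSpecStalkOfMem_ι]
        rw [reassoc_of% hlV, hc]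
      rw [reassoc_of% h2, ← hg₁, reassoc_of% hlV]
  have hU : Set.range j ⊆ Set.range (⨆ i, W i).ι := by
    rintro _ ⟨y, rfl⟩
    rw [Scheme.Opens.range_ι]
    exact hcover y
  let 𝒰 := Scheme.Opens.iSupOpenCover W
  let f := 𝒰.glueMorphisms (Y := Y) (fun i => i.2.1) (fun i k => by
    have h1 := isPullback_opens_inf_le (le_iSup W i) (le_iSup W k)
    refine (cancel_epi h1.isoPullback.hom).mp ?_
    show h1.isoPullback.hom ≫ pullback.fst _ _ ≫ i.2.1 = h1.isoPullback.hom ≫ pullback.snd _ _ ≫ k.2.1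
    rw [h1.isoPullback_hom_fst_assoc, h1.isoPullback_hom_snd_assoc]
    exact hcomp i k)
  have hf : ∀ i, X.homOfLE (le_iSup W i) ≫ f = i.2.1 := fun i => 𝒰.ι_glueMorphisms _ _ i
  refine ⟨⨆ i, W i, hU, f, ?_, ?_, ?_⟩
  · have : IsDominant j := inferInstance
    refine Dense.mono ?_ this.1
    rw [← Scheme.Opens.range_ι]
    exact hU
  · refine 𝒰.hom_ext _ _ fun i => ?_
    show X.homOfLE (le_iSup W i) ≫ _ = X.homOfLE (le_iSup W i) ≫ _
    rw [reassoc_of% (hf i), Scheme.homOfLE_ι_assoc]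
    exact i.2.2.1
  · refine Scheme.Cover.hom_ext (Scheme.openCoverOfIsOpenCover _ (fun i => j ⁻¹ᵁ W i) ?_) _ _ fun i => ?_
    · exact eq_top_iff.mpr fun y _ => by
        obtain ⟨i, hi⟩ := Opens.mem_iSup.mp (hcover y); exact Opens.mem_iSup.mpr ⟨i, hi⟩
    · show (j ⁻¹ᵁ W i).ι ≫ _ = (j ⁻¹ᵁ W i).ι ≫ _
      have h3 : (j ⁻¹ᵁ W i).ι ≫ IsOpenImmersion.lift (⨆ i, W i).ι j hU =
          (j ∣_ W i) ≫ X.homOfLE (le_iSup W i) := by
        rw [← cancel_mono (⨆ i, W i).ι, Category.assoc, Category.assoc, IsOpenImmersion.lift_fac,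
          Scheme.homOfLE_ι, morphismRestrict_ι]
      rw [reassoc_of% h3, hf i]
      exact i.2.2.2

/-- An open of a smooth scheme over a Dedekind domain containing the generic fibre and all points with
local ring of dimension at most one is dense in every fibre. -/
theorem fibrewise_dense_of_codim {R : Type u} [CommRing R] [IsDedekindDomain R] {X : Scheme.{u}}
    (pX : X ⟶ Spec (CommRingCat.of R)) [LocallyOfFiniteType pX] (U : X.Opens)
    (hcodim : ∀ x : X, x ∉ U → (2 : WithBot ℕ∞) ≤ ringKrullDim (X.presheaf.stalk x)) (x : X) :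
    x ∈ closure ((U : Set X) ∩ {y | pX y = pX x}) := by
  have : IsLocallyNoetherian X := LocallyOfFiniteType.isLocallyNoetherian pX
  obtain ⟨φ, hφ⟩ := Spec.map_surjective (X.fromSpecStalk x ≫ pX)
  let O := X.presheaf.stalk x
  let p : PrimeSpectrum R := pX x
  let z : Spec (X.presheaf.stalk x) := IsLocalRing.closedPoint O
  have hp : (Spec.map φ) z = p := by
    rw [hφ, Scheme.Hom.comp_apply, show X.fromSpecStalk x z = x from Scheme.fromSpecStalk_closedPoint]
  have hpm : ∀ r, r ∈ p.asIdeal ↔ φ.hom r ∈ IsLocalRing.maximalIdeal O := fun r => by rw [← hp]; rfl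
  obtain ⟨π, hπ, s, hs, hspan⟩ : ∃ π ∈ p.asIdeal, ∃ s ∉ p.asIdeal, ∀ r ∈ p.asIdeal, π ∣ s * r := by
    by_cases h0 : p.asIdeal = ⊥
    · exact ⟨0, zero_mem _, 1, fun h => p.2.ne_top ((Ideal.eq_top_iff_one _).mpr h), fun r hr => by
        rw [h0] at hr; simp [(Submodule.mem_bot R).mp hr]⟩
    · obtain ⟨π, hπ1, hπ2⟩ := Ideal.exists_mem_pow_notMem_pow_succ p.asIdeal h0 p.2.ne_top 1
      rw [pow_one] at hπ1
      obtain ⟨Q, hQ⟩ := Ideal.dvd_iff_le.mpr ((Ideal.span_singleton_le_iff_mem _).mpr hπ1)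
      have hQp : ¬ Q ≤ p.asIdeal := fun h => hπ2 (by
        rw [← Ideal.span_singleton_le_iff_mem, hQ, show (1 + 1 : ℕ) = 2 from rfl, pow_two]
        exact Ideal.mul_mono le_rfl h)
      obtain ⟨s, hsQ, hs⟩ := SetLike.not_le_iff_exists.mp hQp
      refine ⟨π, hπ1, s, hs, fun r hr => ?_⟩
      rw [← Ideal.mem_span_singleton, hQ, mul_comm s r]
      exact Ideal.mul_mem_mul hr hsQ
  obtain ⟨q, hq, -⟩ := Ideal.exists_minimalPrimes_le
    ((Ideal.span_singleton_le_iff_mem _).2 ((hpm π).mp hπ))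
  have hqp : q.IsPrime := hq.1.1
  let qq : Spec O := ⟨q, hqp⟩
  let η := X.fromSpecStalk x qq
  have hηx : η ⤳ x := by
    have : η ∈ Set.range (X.fromSpecStalk x) := ⟨qq, rfl⟩
    rwa [Scheme.range_fromSpecStalk] at this
  have hfib : pX η = pX x := by
    have : (Spec.map φ) qq = p := by
      refine PrimeSpectrum.ext (le_antisymm (fun r hr => (hpm r).mpr
        (IsLocalRing.le_maximalIdeal hqp.ne_top hr)) fun r hr => ?_)
      show φ.hom r ∈ q
      have hu : IsUnit (φ.hom s) := by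
        by_contra h
        exact hs ((hpm s).mpr ((IsLocalRing.mem_maximalIdeal _).mpr h))
      obtain ⟨b, hb⟩ := hspan r hr
      have hπq : φ.hom π ∈ q := hq.1.2 (Ideal.mem_span_singleton_self _)
      have : φ.hom s * φ.hom r ∈ q := by
        rw [← map_mul, hb, map_mul]; exact Ideal.mul_mem_right _ _ hπq
      exact (hqp.mem_or_mem this).resolve_left fun h => hqp.ne_top (Ideal.eq_top_of_isUnit_mem _ h hu)
    show pX (X.fromSpecStalk x qq) = p
    rw [← this, ← Scheme.Hom.comp_apply, ← hφ]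
  have hηU : η ∈ U := by
    by_contra hn
    have h2 := hcodim η hn
    rw [ringKrullDim_stalk_fromSpecStalk x qq] at h2
    exact absurd ((WithBot.coe_le_coe.mp h2 : (2 : ℕ∞) ≤ q.height).trans
      (@Ideal.height_le_one_of_isPrincipal_of_mem_minimalPrimes _ _ _ (Ideal.span {φ.hom π}) _ q hq))
      (by decide)
  exact mem_closure_iff.mpr fun O' hO' hxO' => ⟨η, hηx.mem_open hO' hxO', hηU, hfib⟩

/-- Rational maps into proper group schemes defined on every fibre extend. -/
theorem extension_to_proper_group {R : Type u} [CommRing R] [IsRegularRing R] {X G : Scheme.{u}}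
    (pX : X ⟶ Spec (CommRingCat.of R)) (pG : G ⟶ Spec (CommRingCat.of R)) [Smooth pX]
    [GrpObj (Over.mk pG)] [IsProper pG] (U : X.Opens)
    (hdense : ∀ x : X, x ∈ closure ((U : Set X) ∩ {y | pX y = pX x}))
    (f : U.toScheme ⟶ G) (hf : f ≫ pG = U.ι ≫ pX) :
    ∃! g : X ⟶ G, g ≫ pG = pX ∧ U.ι ≫ g = f := by
  obtain ⟨V, hUV, g, hg, hres, hV⟩ :=
    exists_extension_off_codim_two pX pG U (dense_of_fibrewise pX U hdense) f hf
  obtain ⟨h, ⟨hh1, hh2⟩, -⟩ := weil_extension pX pG V g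
    (fun x => closure_mono (Set.inter_subset_inter_left _ hUV) (hdense x)) hV hg
  refine ⟨h, ⟨hh1, by rw [← hres, ← hh2, Scheme.homOfLE_ι_assoc]⟩, fun g' hg' => ?_⟩
  have := isReduced_of_smooth pX
  have := isDominant_opens_of_dense (dense_of_fibrewise pX U hdense)
  exact ext_of_isDominant_of_isSeparated pG (hg'.1.trans hh1.symm) U.ι
    (by rw [hg'.2, ← hres, ← hh2, Scheme.homOfLE_ι_assoc])

/-- Morphisms of generic fibres into a proper group scheme extend. -/
theorem existsUnique_extension_generic {R : Type u} [CommRing R] [IsDedekindDomain R] {X G : Scheme.{u}}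
    (pX : X ⟶ Spec (CommRingCat.of R)) (pG : G ⟶ Spec (CommRingCat.of R)) [Smooth pX]
    [GrpObj (Over.mk pG)] [IsProper pG] (u : pullback pX (Neron.genPt R) ⟶ G)
    (hu : u ≫ pG = pullback.fst pX (Neron.genPt R) ≫ pX) :
    ∃! g : X ⟶ G, g ≫ pG = pX ∧ pullback.fst pX (Neron.genPt R) ≫ g = u := by
  obtain ⟨U, hU, f, hUd, hf, hfu⟩ := exists_spread_generic pX pG u hu
  obtain ⟨V, hUV, f', hf', hres, hV⟩ := exists_extension_off_codim_two pX pG U hUd f hf
  obtain ⟨g, ⟨hg1, hg2⟩, -⟩ :=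
    weil_extension pX pG V f' (fibrewise_dense_of_codim pX V hV) hV hf'
  have hgu : pullback.fst pX (Neron.genPt R) ≫ g = u := by
    rw [← hfu, ← hres, ← hg2, Scheme.homOfLE_ι_assoc, ← Category.assoc, IsOpenImmersion.lift_fac]
  exact ⟨g, ⟨hg1, hgu⟩, fun g' hg' => ext_of_schDominant g' g pG (hg'.1.trans hg1.symm)
    (pullback.fst pX (Neron.genPt R)) (hg'.2.trans hgu.symm)⟩

end Groth.Agent.H28Neron
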