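import Groth.Agent.H28Neron.FiniteNormal
import Groth.Agent.H28Neron.Spread
import Groth.Agent.H05EGA4.NormalUnion
import Groth.Agent.S6279
import Groth.Agent.S4997
import Groth.Agent.S9829
import Groth.Prelude.Def_Neron
import Mathlib.RingTheory.Etale.Field
import Mathlib.RingTheory.DedekindDomain.IntegralClosure
import Mathlib.Algebra.Category.Ring.Constructions

/-!
# Neron models of finite etale schemes over the fraction field of a Dedekind domain
-/

set_option autoImplicit false
set_option linter.style.haveILetI false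
universe u
open CategoryTheory CategoryTheory.Limits AlgebraicGeometry
open scoped nonZeroDivisors

namespace Groth.Agent.H28Neron.EtaleNeron

/-- A finite product of fields has splitting idempotents. -/
theorem hasSplittingIdempotents_pi {ι : Type u} (A : ι → Type u) [∀ i, Field (A i)] :
    H05EGA4.HasSplittingIdempotents (∀ i, A i) := by
  classical
  intro a b hab
  refine ⟨fun i => if a i = 0 then 0 else 1, ?_, ?_, ?_⟩ <;> funext i <;>
    by_cases h : a i = 0 <;> simp [h]
  have := congrFun hab i
  simp only [Pi.mul_apply, Pi.zero_apply, mul_eq_zero] at this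
  exact this.resolve_left h

variable (R : Type u) [CommRing R] [IsDedekindDomain R] (E : Type u) [CommRing E]
  [Algebra (FractionRing R) E] [Algebra R E] [IsScalarTower R (FractionRing R) E]
  [Algebra.EssFiniteType (FractionRing R) E] [Algebra.FormallyEtale (FractionRing R) E]

/-- The integral closure of a Dedekind domain in an etale algebra over its fraction field is finite
and normal, and spans the algebra. -/
theorem finite_and_normal_integralClosure :
    Module.Finite R (integralClosure R E) ∧ EGA4.IsNormalRing (integralClosure R E) ∧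
      IsLocalization (Algebra.algebraMapSubmonoid (integralClosure R E) R⁰) E := by
  obtain ⟨I, _, Ai, _, _, e, hsep⟩ :=
    (Algebra.FormallyEtale.iff_exists_algEquiv_prod (FractionRing R) E).1 inferInstance
  haveI := Algebra.FormallyUnramified.finite_of_free (FractionRing R) E
  let _ : ∀ i, Algebra R (Ai i) := fun i =>
    ((algebraMap (FractionRing R) (Ai i)).comp (algebraMap R (FractionRing R))).toAlgebra
  haveI : ∀ i, IsScalarTower R (FractionRing R) (Ai i) := fun i => .of_algebraMap_eq fun _ => rfl
  let e' : E →ₐ[R] Π i, Ai i := (e : E →ₐ[FractionRing R] Π i, Ai i).restrictScalars R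
  let π : ∀ i, E →ₐ[R] Ai i := fun i => (Pi.evalAlgHom R Ai i).comp e'
  haveI : ∀ i, FiniteDimensional (FractionRing R) (Ai i) := fun i =>
    Module.Finite.of_surjective ((Pi.evalAlgHom (FractionRing R) Ai i).comp
      (e : E →ₐ[FractionRing R] Π i, Ai i)).toLinearMap
      ((Function.surjective_eval i).comp e.surjective)
  haveI : ∀ i, Module.Finite R (integralClosure R (Ai i)) := fun i =>
    haveI := hsep i
    IsIntegralClosure.finite R (FractionRing R) (Ai i) (integralClosure R (Ai i))
  let ψ : integralClosure R E →ₗ[R] Π i, integralClosure R (Ai i) :=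
    { toFun := fun b i => ⟨π i b.1, b.2.map (π i)⟩
      map_add' := fun b c => by ext i; simp
      map_smul' := fun r b => by ext i; simp }
  have hψ : Function.Injective ψ := fun b c h => by
    refine Subtype.ext (e.injective (funext fun i => ?_))
    exact congrArg Subtype.val (congrFun h i)
  have hfin : Module.Finite R (integralClosure R E) := Module.Finite.of_injective ψ hψ
  have hloc : IsLocalization (Algebra.algebraMapSubmonoid (integralClosure R E) R⁰) E := by
    refine ⟨?_, ?_, ?_⟩
    · rintro ⟨_, r, hr, rfl⟩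
      show IsUnit (algebraMap R E r)
      rw [IsScalarTower.algebraMap_apply R (FractionRing R) E]
      exact (IsLocalization.map_units (FractionRing R) ⟨r, hr⟩).map _
    · intro z
      have hz : IsIntegral (FractionRing R) z := IsIntegral.of_finite _ _
      obtain ⟨m, hm⟩ := hz.exists_multiple_integral_of_isLocalization R⁰ z
      refine ⟨⟨⟨(m : R) • z, hm⟩, ⟨_, m.1, m.2, rfl⟩⟩, ?_⟩
      show z * algebraMap R E m = (m : R) • z
      rw [Algebra.smul_def, mul_comm]
    · intro b c h
      exact ⟨1, congrArg ((1 : Algebra.algebraMapSubmonoid (integralClosure R E) R⁰).1 * ·) (Subtype.ext h)⟩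
  refine ⟨hfin, ?_, hloc⟩
  refine H05EGA4.isNormalRing_of_integrallyClosed_in
    (Algebra.algebraMapSubmonoid (integralClosure R E) R⁰) (S := E) Subtype.val_injective
    (fun x hx => ⟨⟨x, isIntegral_trans x hx⟩, rfl⟩) ?_ ?_
  · refine H05EGA4.isNormalRing_of_ringEquiv e.symm.toRingEquiv (Groth.Agent.S6279.result Ai fun i => ?_)
    intro p hp
    haveI : IsRegularLocalRing (Localization.AtPrime p) :=
      IsRegularRing.isRegularLocalRing_localization p
    haveI := H4Depth.isDomain_of_isRegularLocalRing (Localization.AtPrime p)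
    exact ⟨inferInstance, Groth.Agent.S9829.result _⟩
  · exact H05EGA4.HasSplittingIdempotents.of_ringEquiv e.symm.toRingEquiv (hasSplittingIdempotents_pi Ai)

omit [Algebra (FractionRing R) E] [Algebra R E] [IsScalarTower R (FractionRing R) E]
  [Algebra.EssFiniteType (FractionRing R) E] [Algebra.FormallyEtale (FractionRing R) E] in
/-- The spectrum of a normal ring is a normal scheme. -/
theorem isNormalScheme_Spec (h : EGA4.IsNormalRing E) : Pi1.IsNormalScheme (Spec (CommRingCat.of E)) := by
  intro x
  let p : PrimeSpectrum E := x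
  letI : Algebra E ((Spec (CommRingCat.of E)).presheaf.stalk x) := StructureSheaf.stalkAlgebra E p
  haveI : IsLocalization p.asIdeal.primeCompl ((Spec (CommRingCat.of E)).presheaf.stalk x) :=
    StructureSheaf.IsLocalization.to_stalk E p
  let e := IsLocalization.algEquiv p.asIdeal.primeCompl (Localization.AtPrime p.asIdeal)
    ((Spec (CommRingCat.of E)).presheaf.stalk x)
  obtain ⟨g1, g2⟩ := h p.asIdeal
  exact ⟨haveI := g1; e.symm.toMulEquiv.isDomain _, haveI := g2; IsIntegrallyClosed.of_equiv e.toRingEquiv⟩

omit [Algebra (FractionRing R) E] [Algebra R E] [IsScalarTower R (FractionRing R) E]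
  [Algebra.EssFiniteType (FractionRing R) E] [Algebra.FormallyEtale (FractionRing R) E] in
/-- A finite etale scheme over the fraction field has an etale Neron model. -/
theorem exists_neronModel (G : Over (Spec (CommRingCat.of (FractionRing R)))) [IsFinite G.hom] [Etale G.hom] :
    ∃ (N : Over (Spec (CommRingCat.of R))) (e : (Neron.genericFibre R).obj N ≅ G),
      Neron.IsNeronModelOf R N G e ∧ Etale N.hom ∧ LocallyQuasiFinite N.hom := by
  haveI : IsAffine G.left := isAffine_of_isAffineHom G.hom
  obtain ⟨φ, hφ⟩ := Spec.map_surjective (G.left.isoSpec.inv ≫ G.hom)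
  let E₀ : Type u := Γ(G.left, ⊤)
  letI : Algebra (FractionRing R) E₀ := φ.hom.toAlgebra
  letI : Algebra R E₀ := (φ.hom.comp (algebraMap R (FractionRing R))).toAlgebra
  haveI : IsScalarTower R (FractionRing R) E₀ := .of_algebraMap_eq fun _ => rfl
  haveI hetb : Etale (Spec.map φ) := by rw [hφ]; infer_instance
  have het : φ.hom.Etale := (HasRingHomProperty.Spec_iff (P := @Etale)).1 hetb
  haveI : Algebra.Etale (FractionRing R) E₀ := het
  obtain ⟨hfin, hnor, hloc⟩ := finite_and_normal_integralClosure R E₀
  let B : Type u := integralClosure R E₀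
  let π : Spec (CommRingCat.of B) ⟶ Spec (CommRingCat.of R) := Spec.map (CommRingCat.ofHom (algebraMap R B))
  haveI : IsFinite π := (IsFinite.SpecMap_iff _).2 (RingHom.finite_algebraMap.2 hfin)
  haveI : LocallyOfFinitePresentation π := LocallyOfFinitePresentation.iff_locallyOfFiniteType.2 inferInstance
  have hTn := isNormalScheme_Spec B hnor
  have hSn : Pi1.IsNormalScheme (Spec (CommRingCat.of R)) := isNormalScheme_Spec R fun p hp => by
    haveI : IsRegularLocalRing (Localization.AtPrime p) := IsRegularRing.isRegularLocalRing_localization p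
    haveI := H4Depth.isDomain_of_isRegularLocalRing (Localization.AtPrime p)
    exact ⟨inferInstance, Groth.Agent.S9829.result _⟩
  let a : Spec (CommRingCat.of E₀) ⟶ Spec (CommRingCat.of B) :=
    Spec.map (CommRingCat.ofHom (algebraMap B E₀))
  have hpb : IsPullback a (Spec.map φ) π (Neron.genPt R) := by
    haveI : IsLocalization (R⁰.map (algebraMap R B)) E₀ := hloc
    exact isPullback_SpecMap_of_isPushout _ _ _ _
      (CommRingCat.isPushout_of_isLocalization (algebraMap R B) φ.hom rfl R⁰)
  haveI : Flat (Neron.genPt R) := (HasRingHomProperty.Spec_iff (P := @Flat)).2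
    (RingHom.flat_algebraMap_iff.2 (IsLocalization.flat _ R⁰))
  have hmem : Set.range a ⊆ Set.range π.smoothLocus.ι := by
    rintro _ ⟨z, rfl⟩
    rw [Scheme.Opens.range_ι]
    refine H17.LocusBC.mem_smoothLocus_of_flat_baseChange hpb z ?_
    rw [Scheme.Hom.smoothLocus_eq_top]
    trivial
  let a₀ := IsOpenImmersion.lift π.smoothLocus.ι a hmem
  have ha₀ : a₀ ≫ π.smoothLocus.ι = a := IsOpenImmersion.lift_fac _ _ _
  have hsq : IsPullback a₀ (𝟙 _) π.smoothLocus.ι a :=
    .of_vert_isIso_mono ⟨by rw [Category.id_comp, ha₀]⟩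
  let N : Over (Spec (CommRingCat.of R)) := Over.mk (π.smoothLocus.ι ≫ π)
  have hN : IsPullback a₀ (Spec.map φ) N.hom (Neron.genPt R) := by
    have h := hsq.paste_vert hpb
    rw [Category.id_comp] at h
    exact h
  let e : (Neron.genericFibre R).obj N ≅ G := Over.isoMk (hN.isoPullback.symm ≪≫ G.left.isoSpec.symm) (by
    show (hN.isoPullback.inv ≫ G.left.isoSpec.inv) ≫ G.hom = pullback.snd N.hom (Neron.genPt R)
    rw [Category.assoc, ← hφ, hN.isoPullback_inv_snd])
  haveI : Smooth N.hom := H17.LocusBC.smooth_restrict_smoothLocus π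
  haveI : LocallyQuasiFinite N.hom := inferInstanceAs (LocallyQuasiFinite (π.smoothLocus.ι ≫ π))
  haveI : IsSeparated N.hom := inferInstanceAs (IsSeparated (π.smoothLocus.ι ≫ π))
  haveI : IsNoetherianRing B := IsNoetherianRing.of_finite R B
  haveI : IsLocallyNoetherian (Spec (CommRingCat.of B)) := inferInstance
  haveI : QuasiCompact π.smoothLocus.ι := inferInstance
  haveI : QuasiCompact N.hom := inferInstanceAs (QuasiCompact (π.smoothLocus.ι ≫ π))
  refine ⟨N, e, ⟨inferInstance, inferInstance, inferInstance, inferInstance, fun Z hZ => ?_⟩,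
    (Groth.Agent.S4997.result N.hom).2 ⟨inferInstance, inferInstance⟩, inferInstance⟩
  haveI : IsLocallyNoetherian Z.left := LocallyOfFiniteType.isLocallyNoetherian Z.hom
  have hZn := isNormalScheme_of_smooth Z.hom hSn
  refine ⟨fun g g' hgg => H28Neron.hom_ext_genericFibre R Z N g g'
    ((cancel_mono e.hom).1 hgg), fun w => ?_⟩
  let v := w ≫ e.inv
  let u := v.left ≫ pullback.fst N.hom (Neron.genPt R) ≫ π.smoothLocus.ι
  have hu : u ≫ π = pullback.fst Z.hom (Neron.genPt R) ≫ Z.hom := by
    have hw : v.left ≫ pullback.snd N.hom (Neron.genPt R) = pullback.snd Z.hom (Neron.genPt R) := Over.w v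
    calc u ≫ π = v.left ≫ pullback.fst N.hom (Neron.genPt R) ≫ N.hom := by simp [u, N]
      _ = pullback.snd Z.hom (Neron.genPt R) ≫ Neron.genPt R := by
        rw [pullback.condition]
        exact (Category.assoc _ _ _).symm.trans (congrArg (· ≫ Neron.genPt R) hw)
      _ = _ := pullback.condition.symm
  obtain ⟨U, hU, f, hUd, hf, hfu⟩ := exists_spread_generic Z.hom π u hu
  obtain ⟨g, hg₁, hg₂⟩ := FiniteNormal.exists_extension hZn Z.hom π U hUd f hf
  let g₀ : Z.left ⟶ π.smoothLocus.toScheme := IsOpenImmersion.lift π.smoothLocus.ι g (by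
    rintro _ ⟨z, rfl⟩
    rw [Scheme.Opens.range_ι]
    exact FiniteNormal.mem_smoothLocus_of_hom hZn hTn Z.hom π g hg₁ z)
  have hg₀ : g₀ ≫ π.smoothLocus.ι = g := IsOpenImmersion.lift_fac _ _ _
  let g' : Z ⟶ N := Over.homMk g₀ (by
    show g₀ ≫ π.smoothLocus.ι ≫ π = _
    rw [reassoc_of% hg₀, hg₁])
  have key : (Neron.genericFibre R).map g' = v := by
    refine Over.OverMorphism.ext (pullback.hom_ext ?_ ((Over.w _).trans (Over.w v).symm))
    refine (pullback.lift_fst _ _ _).trans ?_
    rw [← cancel_mono π.smoothLocus.ι]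
    show (pullback.fst Z.hom (Neron.genPt R) ≫ g₀) ≫ π.smoothLocus.ι = _
    rw [Category.assoc, hg₀, ← IsOpenImmersion.lift_fac U.ι (pullback.fst Z.hom (Neron.genPt R)) hU,
      Category.assoc, hg₂, hfu]
    exact (Category.assoc _ _ _).symm
  exact ⟨g', (congrArg (· ≫ e.hom) key).trans (by simp only [v, Category.assoc, Iso.inv_hom_id, Category.comp_id])⟩

end Groth.Agent.H28Neron.EtaleNeron
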