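import Groth.Agent.H19Grp.QuasiFiniteHom
import Mathlib.AlgebraicGeometry.ZariskisMainTheorem
import Mathlib.AlgebraicGeometry.AlgClosed.Basic

/-!
# A homomorphism quasi-finite at the unit is quasi-finite
-/

set_option autoImplicit false
universe u

open CategoryTheory CategoryTheory.Limits AlgebraicGeometry IsLocalRing MonoidalCategory
open CartesianMonoidalCategory MonObj

namespace Groth.Agent.H28Neron.HomQuasiFinite

/-- A discrete fibre consists of quasi-finite points. -/
theorem quasiFiniteAt_of_isDiscrete {X Y : Scheme.{u}} (f : X ⟶ Y) [LocallyOfFiniteType f] (x : X)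
    (h : _root_.IsDiscrete (f ⁻¹' {f x})) : f.QuasiFiniteAt x := by
  rw [Scheme.Hom.quasiFiniteAt_iff_isOpen_singleton_asFiber, ← (f.fiberHomeo (f x)).isOpen_image]
  have := isDiscrete_iff_discreteTopology.1 h
  exact isOpen_discrete _

/-- Quasi-finite points pull back to quasi-finite points. -/
theorem quasiFiniteAt_of_isPullback {X' X Y' Y : Scheme.{u}} {f' : X' ⟶ Y'} {p : X' ⟶ X} {p' : Y' ⟶ Y}
    {f : X ⟶ Y} [LocallyOfFiniteType f] (hp : IsPullback f' p p' f) (z : X') (hz : f.QuasiFiniteAt (p z)) :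
    f'.QuasiFiniteAt z := by
  have h1 := isPullback_morphismRestrict p f.quasiFiniteLocus
  have h3 : LocallyQuasiFinite (f.quasiFiniteLocus.ι ≫ f) := inferInstance
  have h2 : IsPullback (p ∣_ f.quasiFiniteLocus) ((p ⁻¹ᵁ f.quasiFiniteLocus).ι ≫ f') (f.quasiFiniteLocus.ι ≫ f) p' := h1.paste_vert hp.flip
  haveI : LocallyQuasiFinite ((p ⁻¹ᵁ f.quasiFiniteLocus).ι ≫ f') := MorphismProperty.of_isPullback h2 h3
  have hz' : z ∈ p ⁻¹ᵁ f.quasiFiniteLocus := hz
  let w : (p ⁻¹ᵁ f.quasiFiniteLocus).toScheme := ⟨z, hz'⟩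
  have h4 := Scheme.Hom.quasiFiniteAt ((p ⁻¹ᵁ f.quasiFiniteLocus).ι ≫ f') w
  rw [Scheme.Hom.quasiFiniteAt_comp_iff_of_isOpenImmersion] at h4
  exact h4

attribute [local instance] Functor.grpObjObj

/-- The unit of a base change lies over the unit. -/
theorem η_left_fst {S T : Scheme.{u}} (φ : T ⟶ S) (G : Over S) [GrpObj G] :
    η[(Over.pullback φ).obj G].left ≫ pullback.fst G.hom φ = φ ≫ η[G].left := by
  show (Functor.LaxMonoidal.ε (Over.pullback φ) ≫ (Over.pullback φ).map η[G]).left ≫ pullback.fst G.hom φ = _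
  have h1 : ((Over.pullback φ).map η[G]).left ≫ pullback.fst G.hom φ = pullback.fst _ φ ≫ η[G].left :=
    pullback.lift_fst _ _ _
  rw [Over.comp_left, Category.assoc]
  erw [h1]
  rw [← Category.assoc]
  congr 1
  have h2 : (Functor.LaxMonoidal.ε (Over.pullback φ)).left ≫ pullback.snd _ φ = 𝟙 _ :=
    Over.w (Functor.LaxMonoidal.ε (Over.pullback φ))
  have h3 := pullback.condition (f := (𝟙_ (Over S)).hom) (g := φ)
  refine (Category.comp_id _).symm.trans ?_
  refine (Category.assoc _ _ _).trans ((congrArg ((Functor.LaxMonoidal.ε (Over.pullback φ)).left ≫ ·) h3).trans ?_)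
  rw [← Category.assoc]
  erw [h2]
  exact Category.id_comp _

variable {k : Type u} [Field k]

theorem quasiFiniteAt_all_of_isAlgClosed [IsAlgClosed k] {G H : Over (Spec (CommRingCat.of k))} [GrpObj G]
    [GrpObj H] [LocallyOfFiniteType G.hom] (f : G ⟶ H) [IsMonHom f] [LocallyOfFiniteType f.left]
    (h : f.left.QuasiFiniteAt (η[G].left (closedPoint k))) : LocallyQuasiFinite f.left := by
  haveI : JacobsonSpace G.left := LocallyOfFiniteType.jacobsonSpace G.hom
  rw [← Scheme.Hom.quasiFiniteLocus_eq_top_iff]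
  by_contra hne
  have hc : ((f.left.quasiFiniteLocus : Set G.left)ᶜ).Nonempty := by
    rw [Set.nonempty_compl]
    exact fun hu => hne (TopologicalSpace.Opens.coe_eq_univ.1 hu)
  obtain ⟨q, hq, hqc⟩ := nonempty_inter_closedPoints hc
    f.left.quasiFiniteLocus.isOpen.isClosed_compl.isLocallyClosed
  let a : 𝟙_ (Over (Spec (CommRingCat.of k))) ⟶ G :=
    Over.homMk ((pointEquivClosedPoint G.hom).symm ⟨q, hqc⟩).1 ((pointEquivClosedPoint G.hom).symm ⟨q, hqc⟩).2
  have ha : a.left (closedPoint k) = q := pointOfClosedPoint_apply G.hom q hqc _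
  let r : G ⟶ G := 𝟙 G * (toUnit G ≫ a)
  let s : H ⟶ H := 𝟙 H * (toUnit H ≫ (a ≫ f))
  have hrs : r ≫ f = f ≫ s := by
    simp only [r, s, MonObj.mul_comp, MonObj.comp_mul, Category.id_comp, Category.comp_id, ← Category.assoc,
      toUnit_unique (f ≫ toUnit H) (toUnit G)]
  have isoT : ∀ {M : Over (Spec (CommRingCat.of k))} [GrpObj M] (b : 𝟙_ (Over (Spec (CommRingCat.of k))) ⟶ M),
      IsIso (𝟙 M * (toUnit M ≫ b)).left := by
    intro M _ b
    have key : ∀ b c : 𝟙_ (Over (Spec (CommRingCat.of k))) ⟶ M,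
        (𝟙 M * (toUnit M ≫ b)) ≫ (𝟙 M * (toUnit M ≫ c)) = 𝟙 M * (toUnit M ≫ (b * c)) := fun b c => by
      simp only [MonObj.comp_mul, Category.comp_id, ← Category.assoc, toUnit_unique (_ ≫ toUnit M) (toUnit M),
        _root_.mul_assoc]
    haveI : IsIso (𝟙 M * (toUnit M ≫ b)) := ⟨𝟙 M * (toUnit M ≫ b⁻¹),
      by rw [key, mul_inv_cancel, MonObj.comp_one, _root_.mul_one],
      by rw [key, inv_mul_cancel, MonObj.comp_one, _root_.mul_one]⟩
    exact inferInstanceAs (IsIso ((Over.forget _).map (𝟙 M * (toUnit M ≫ b))))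
  haveI : IsIso r.left := isoT a
  haveI : IsIso s.left := isoT (a ≫ f)
  have hre : r.left (η[G].left (closedPoint k)) = q := by
    have : η[G] ≫ r = a := by
      simp only [r, MonObj.comp_mul, Category.comp_id, ← Category.assoc, toUnit_unique (η[G] ≫ toUnit G) (𝟙 _),
        Category.id_comp]
      rw [← Category.id_comp η[G], ← toUnit_unique (toUnit (𝟙_ _)) (𝟙 _), ← Hom.one_def, _root_.one_mul]
    rw [← ha, ← this]
    exact (Scheme.Hom.comp_apply η[G].left r.left (closedPoint k)).symm
  have h2 : (f.left ≫ s.left).QuasiFiniteAt (η[G].left (closedPoint k)) :=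
    Scheme.Hom.quasiFiniteAt_comp_iff.2 h
  rw [← Over.comp_left, ← hrs, Over.comp_left, Scheme.Hom.quasiFiniteAt_comp_iff_of_isOpenImmersion, hre] at h2
  exact hq h2

/-- A homomorphism to a separated group scheme, quasi-finite at the unit of a proper group scheme,
is finite. -/
theorem isFinite_of_quasiFiniteAt {G H : Over (Spec (CommRingCat.of k))} [GrpObj G]
    [GrpObj H] [IsProper G.hom] [IsSeparated H.hom] [LocallyOfFiniteType H.hom] (f : G ⟶ H) [IsMonHom f]
    (h : ∀ [LocallyOfFiniteType f.left], f.left.QuasiFiniteAt (η[G].left (closedPoint k))) :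
    IsFinite f.left := by
  haveI : IsProper (f.left ≫ H.hom) := by rw [Over.w]; infer_instance
  haveI : IsProper f.left := IsProper.of_comp f.left H.hom
  let φ := Spec.map (CommRingCat.ofHom (algebraMap k (AlgebraicClosure k)))
  let F := Over.pullback φ
  letI : GrpObj (F.obj G) := Functor.grpObjObj
  letI : GrpObj (F.obj H) := Functor.grpObjObj
  haveI : LocallyOfFiniteType (F.obj G).hom :=
    inferInstanceAs (LocallyOfFiniteType (pullback.snd G.hom φ))
  let p : (F.obj G).left ⟶ G.left := pullback.fst G.hom φ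
  have hp : IsPullback (F.map f).left p (pullback.fst H.hom φ) f.left := by
    refine (IsPullback.of_bot (v₂₁ := pullback.snd H.hom φ) (v₂₂ := H.hom) (h₃₁ := φ) ?_ ?_
      (IsPullback.of_hasPullback H.hom φ)).flip
    · rw [show (F.map f).left ≫ pullback.snd H.hom φ = pullback.snd G.hom φ from Over.w (F.map f), Over.w f]
      exact IsPullback.of_hasPullback G.hom φ
    · exact (pullback.lift_fst _ _ _).symm
  haveI : IsProper (F.map f).left := MorphismProperty.of_isPullback hp.flip ‹_›
  haveI : IsMonHom (F.map f) := inferInstance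
  haveI : LocallyQuasiFinite (F.map f).left := by
    refine quasiFiniteAt_all_of_isAlgClosed (F.map f) (quasiFiniteAt_of_isPullback hp _ ?_)
    have hη : η[F.obj G].left ≫ p = φ ≫ η[G].left := η_left_fst φ G
    have heq : p (η[F.obj G].left (closedPoint (AlgebraicClosure k))) = η[G].left (closedPoint k) := by
      refine ((Scheme.Hom.comp_apply η[F.obj G].left p _).symm.trans
        (congrArg (fun ψ => ψ.base (closedPoint (AlgebraicClosure k))) hη)).trans ?_
      refine (Scheme.Hom.comp_apply φ η[G].left _).trans ?_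
      exact congrArg η[G].left (Subsingleton.elim (α := PrimeSpectrum k) _ _)
    exact heq.symm ▸ h
  haveI : IsFinite (F.map f).left := IsFinite.of_isProper_of_locallyQuasiFinite _
  exact MorphismProperty.of_isPullback_of_descendsAlong (P := @IsFinite)
    (Q := @Surjective ⊓ @Flat ⊓ @QuasiCompact) hp ⟨⟨inferInstance, inferInstance⟩, inferInstance⟩ ‹_›

end Groth.Agent.H28Neron.HomQuasiFinite
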