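import Groth.Agent.H8Props.FlatFibreConst
import Groth.Agent.H8Props.FieldDimSmooth
import Groth.Agent.H8Props.FieldDimFibre
import Groth.Agent.H8Props.FieldDimEquidim
import Groth.Agent.H8Props.FibreStalk
import Groth.Agent.H12AlgSp.Homogeneous
import Groth.Agent.H19Grp.RegularSmooth
import Groth.Agent.H22Alg.FibreDimBound
import Groth.Agent.H4Depth.Regular

/-!
# Relative dimension of smooth schemes over domains; quasi-finite and flat morphisms between them
-/

set_option autoImplicit false
universe u

open CategoryTheory CategoryTheory.Limits AlgebraicGeometry IsLocalRing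
open Groth.Agent.H8Props

namespace Groth.Agent.H28Neron.SmoothDim

/-- The fibre dimension of a smooth scheme over a domain with irreducible generic fibre. -/
theorem fibreDimAt_eq_generic {R K : Type u} [CommRing R] [IsDomain R] [Field K] [Algebra R K]
    [IsFractionRing R K] {X : Scheme.{u}} (q : X ⟶ Spec (CommRingCat.of R)) [Smooth q]
    [IrreducibleSpace ↥(pullback q (Spec.map (CommRingCat.ofHom (algebraMap R K))))] (x : X) :
    FlatMor.fibreDimAt q x =
      topologicalKrullDim ↥(pullback q (Spec.map (CommRingCat.ofHom (algebraMap R K)))) := by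
  let φ := Spec.map (CommRingCat.ofHom (algebraMap R K))
  have hgen : φ (closedPoint K) ⤳ q x := by
    refine (PrimeSpectrum.le_iff_specializes (φ (closedPoint K)) (q x)).1 ?_
    intro a ha
    change algebraMap R K a ∈ maximalIdeal K at ha
    rw [maximalIdeal_eq_bot, Ideal.mem_bot, IsFractionRing.to_map_eq_zero_iff] at ha
    rw [ha]
    exact Ideal.zero_mem _
  obtain ⟨x', hx', hqx'⟩ := Flat.generalizingMap q hgen
  have hcm : LocCoh.IsCohenMacaulayLocalRing ((q.fiber (q x)).presheaf.stalk (q.asFiber x)) := by
    haveI : Smooth (q.fiberToSpecResidueField (q x)) := inferInstanceAs (Smooth (pullback.snd _ _))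
    haveI := H19Grp.isRegularLocalRing_stalk_of_smooth (k := (Spec (CommRingCat.of R)).residueField (q x))
      (q.fiberToSpecResidueField (q x)) (q.asFiber x)
    exact H4Depth.isCohenMacaulayLocalRing_of_regular _
  obtain ⟨U, hU, hUo, hxU⟩ := eventually_nhds_iff.1 (FieldDim.eventually_fibreDimAt_eq q x hcm)
  rw [← hU x' (hx'.mem_open hUo hxU)]
  obtain ⟨z, hz⟩ : x' ∈ Set.range (pullback.fst q φ) := by
    rw [Scheme.Pullback.range_fst]
    exact ⟨closedPoint K, hqx'.symm⟩
  rw [← hz, ← FieldDim.fibreDimAt_baseChange q (IsPullback.of_hasPullback q φ) z,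
    H12AlgSp.fibreDimAt_of_subsingleton]
  exact FieldDim.localDim_eq_dim_of_irreducible (pullback.snd q φ) z

/-- A morphism between smooth schemes of the same relative dimension is flat iff it is locally
quasi-finite. -/
theorem flat_iff_lqf {X Y W : Scheme.{u}} (g : X ⟶ Y) (h : Y ⟶ W) [IsLocallyNoetherian W]
    [Smooth h] [Smooth (g ≫ h)] [LocallyOfFiniteType g] (d : ℕ)
    (hX : ∀ x, FlatMor.fibreDimAt (g ≫ h) x = (d : WithBot ℕ∞))
    (hY : ∀ y, FlatMor.fibreDimAt h y = (d : WithBot ℕ∞)) : LocallyQuasiFinite g ↔ Flat g := by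
  refine ⟨fun _ => (Flat.iff_flat_stalkMap g).2 fun x => ?_, fun _ => ?_⟩
  · refine FieldDim.flat_stalkMap_of_fibreDimAt_ge g h x (Flat.stalkMap _ x) ?_ ?_ ?_
    · haveI : Smooth (h.fiberToSpecResidueField (h (g x))) := inferInstanceAs (Smooth (pullback.snd _ _))
      haveI := H19Grp.isRegularLocalRing_stalk_of_smooth (k := W.residueField (h (g x)))
        (h.fiberToSpecResidueField (h (g x))) (h.asFiber (g x))
      exact IsRegularLocalRing.of_ringEquiv (FibreStalk.asFiberStalkEquiv h (g x)).symm
    · haveI : Smooth ((g ≫ h).fiberToSpecResidueField ((g ≫ h) x)) :=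
        inferInstanceAs (Smooth (pullback.snd _ _))
      haveI := H19Grp.isRegularLocalRing_stalk_of_smooth (k := W.residueField ((g ≫ h) x))
        ((g ≫ h).fiberToSpecResidueField ((g ≫ h) x)) ((g ≫ h).asFiber x)
      haveI := H4Depth.isCohenMacaulayLocalRing_of_regular
        (((g ≫ h).fiber ((g ≫ h) x)).presheaf.stalk ((g ≫ h).asFiber x))
      exact CMAt.isCohenMacaulayLocalRing_of_ringEquiv (FibreStalk.asFiberStalkEquiv (g ≫ h) x).symm
    · rw [FieldDim.fibreDimAt_eq_zero_of_lqf g x, hX, hY, zero_add]
  · rw [← Scheme.Hom.quasiFiniteLocus_eq_top_iff]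
    refine top_le_iff.1 fun x _ => ?_
    refine H22Alg.quasiFiniteAt_of_fibreDimAt_le_zero g x (le_of_eq ?_)
    have he := (FieldDim.fibreDimAt_comp_le g h x).2 (Flat.stalkMap g x)
    rw [hX, hY] at he
    generalize FlatMor.fibreDimAt g x = e at he ⊢
    cases e with
    | bot => simp at he
    | coe e =>
      induction e using ENat.recTopCoe with
      | top =>
        rw [← WithBot.coe_natCast, ← WithBot.coe_add, top_add, WithBot.coe_inj] at he
        exact absurd he (ENat.natCast_ne_top d)
      | coe e =>
        have : d = e + d := by exact_mod_cast he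
        exact_mod_cast (by omega : e = 0)

end Groth.Agent.H28Neron.SmoothDim
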