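import Groth.Agent.H19Grp.IdentityComponent
import Groth.Agent.H19Grp.SubgrpClosed
import Groth.Agent.H19Grp.HomFlat
import Groth.Agent.H28Neron.HomQuasiFinite
import Groth.Agent.H28Neron.SmoothDim
import Mathlib.AlgebraicGeometry.Morphisms.FlatMono

/-!
# Homomorphisms of smooth group schemes and the identity component of a fibre
-/

set_option autoImplicit false
universe u

open CategoryTheory CategoryTheory.Limits AlgebraicGeometry IsLocalRing MonoidalCategory
open CartesianMonoidalCategory MonObj

namespace Groth.Agent.H28Neron.SpecialFibreImage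

attribute [local instance] Functor.grpObjObj

variable {k : Type u} [Field k] {G H : Over (Spec (CommRingCat.of k))} [GrpObj G] [GrpObj H]

theorem map_unit {A B : Over (Spec (CommRingCat.of k))} [GrpObj A] [GrpObj B] (f : A ⟶ B) [IsMonHom f] :
    f.left (η[A].left (closedPoint k)) = η[B].left (closedPoint k) :=
  (Scheme.Hom.comp_apply η[A].left f.left _).symm.trans
    (congrArg (fun φ : 𝟙_ (Over (Spec (CommRingCat.of k))) ⟶ B => φ.left.base (closedPoint k)) (IsMonHom.one_hom f))

theorem image_subset (f : G ⟶ H) [IsMonHom f] :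
    f.left '' connectedComponent (η[G].left (closedPoint k)) ⊆ connectedComponent (η[H].left (closedPoint k)) := by
  have h := f.left.continuous.image_connectedComponent_subset (η[G].left (closedPoint k))
  exact h.trans (congrArg connectedComponent (map_unit f)).le

instance isOpenImmersion_idCompι [LocallyOfFiniteType G.hom] : IsOpenImmersion (H19Grp.idCompι G).left := by
  haveI := LocallyOfFiniteType.isLocallyNoetherian G.hom
  haveI : Flat (H19Grp.idCompι G).left := H19Grp.flat_clopenIdeal_subschemeι _
  exact IsOpenImmersion.of_flat_of_mono _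

/-- A flat homomorphism maps the identity component onto the identity component. -/
theorem image_eq_of_flat [LocallyOfFiniteType G.hom] [LocallyOfFiniteType H.hom] (f : G ⟶ H) [IsMonHom f]
    [Flat f.left] :
    f.left '' connectedComponent (η[G].left (closedPoint k)) = connectedComponent (η[H].left (closedPoint k)) := by
  refine (image_subset f).antisymm ?_
  obtain ⟨instG, hm⟩ := H19Grp.exists_grpObj_idComp G
  haveI := hm
  haveI : IsLocallyNoetherian H.left := LocallyOfFiniteType.isLocallyNoetherian H.hom
  haveI : LocallyOfFiniteType (f.left ≫ H.hom) := by rw [Over.w f]; infer_instance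
  haveI : LocallyOfFiniteType f.left := locallyOfFiniteType_of_comp f.left H.hom
  let g : H19Grp.idComp G ⟶ H := H19Grp.idCompι G ≫ f
  haveI : IsMonHom g := inferInstanceAs (IsMonHom (H19Grp.idCompι G ≫ f))
  have hrange : Set.range g.left = f.left '' connectedComponent (η[G].left (closedPoint k)) := by
    show Set.range ((H19Grp.idCompι G).left ≫ f.left) = _
    rw [Scheme.Hom.comp_base, TopCat.coe_comp, Set.range_comp, H19Grp.range_idCompι]
    rfl
  haveI : Flat g.left := inferInstanceAs (Flat ((H19Grp.idCompι G).left ≫ f.left))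
  haveI : LocallyOfFinitePresentation g.left :=
    inferInstanceAs (LocallyOfFinitePresentation ((H19Grp.idCompι G).left ≫ f.left))
  haveI : IsIntegral (H19Grp.grpToGrpd H).U := H19Grp.isIntegral_U (H19Grp.grpToGrpd H) (Iso.refl _)
  haveI : Subsingleton (H19Grp.grpToGrpd H).U := H19Grp.subsingleton_U (H19Grp.grpToGrpd H) (Iso.refl _)
  haveI : IsIso (H19Grp.grpHomToGrpd g).fU := inferInstanceAs (IsIso (𝟙 (Spec (CommRingCat.of k))))
  have hopen : IsOpen (Set.range g.left) := g.left.isOpenMap.isOpen_range
  have hclosed : IsClosed (Set.range g.left) :=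
    H19Grp.isClosed_range_hom (H19Grp.grpHomToGrpd g) hopen.isLocallyClosed
  rw [← hrange]
  refine IsClopen.connectedComponent_subset ⟨hclosed, hopen⟩ ⟨η[H19Grp.idComp G].left (closedPoint k), map_unit g⟩

/-- A homomorphism of smooth groups of the same dimension surjective on identity components has
zero-dimensional fibre at the unit. -/
theorem fibreDimAt_eq_zero_of_image_eq [Smooth G.hom] [Smooth H.hom] [QuasiCompact G.hom]
    [IsSeparated H.hom] (f : G ⟶ H) [IsMonHom f] [LocallyOfFiniteType f.left] (d : ℕ)
    (hG : ∀ x, FlatMor.fibreDimAt G.hom x = (d : WithBot ℕ∞))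
    (hH : ∀ y, FlatMor.fibreDimAt H.hom y = (d : WithBot ℕ∞))
    (h : f.left '' connectedComponent (η[G].left (closedPoint k)) = connectedComponent (η[H].left (closedPoint k))) :
    FlatMor.fibreDimAt f.left (η[G].left (closedPoint k)) = 0 := by
  obtain ⟨instG, hmG⟩ := H19Grp.exists_grpObj_idComp G
  obtain ⟨instH, hmH⟩ := H19Grp.exists_grpObj_idComp H
  haveI := hmG
  haveI := hmH
  let iG := H19Grp.idCompι G
  let iH := H19Grp.idCompι H
  obtain ⟨g, hg⟩ := H19Grp.idComp_lift H (iG ≫ f) (by
    refine subset_trans ?_ h.subset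
    rintro _ ⟨z, rfl⟩
    refine ⟨iG.left z, ?_, (Scheme.Hom.comp_apply iG.left f.left z).symm⟩
    exact (H19Grp.range_idCompι G).subset ⟨z, rfl⟩)
  haveI : Smooth (H19Grp.idComp H).hom := inferInstanceAs (Smooth (iH.left ≫ H.hom))
  haveI : Smooth (H19Grp.idComp G).hom := inferInstanceAs (Smooth (iG.left ≫ G.hom))
  haveI : QuasiCompact (H19Grp.idComp G).hom := inferInstanceAs (QuasiCompact (iG.left ≫ G.hom))
  haveI : IsSeparated (H19Grp.idComp H).hom := inferInstanceAs (IsSeparated (iH.left ≫ H.hom))
  haveI : Mono iH := inferInstanceAs (Mono (H19Grp.idCompι H))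
  haveI : IsMonHom g := by
    have h1 : IsMonHom (g ≫ iH) := by rw [hg]; infer_instance
    constructor
    · rw [← cancel_mono iH, Category.assoc, IsMonHom.one_hom (g ≫ iH), IsMonHom.one_hom iH]
    · rw [← cancel_mono iH, Category.assoc, IsMonHom.mul_hom (g ≫ iH), Category.assoc,
        IsMonHom.mul_hom iH, ← Category.assoc, ← tensorHom_comp_tensorHom, Category.assoc]
  haveI : QuasiCompact (g.left ≫ (H19Grp.idComp H).hom) := by rw [Over.w g]; infer_instance
  haveI : QuasiCompact g.left := QuasiCompact.of_comp g.left (H19Grp.idComp H).hom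
  haveI : Surjective g.left := ⟨fun y => by
    obtain ⟨x, hx, hxy⟩ := h.symm.subset ((H19Grp.range_idCompι H).subset ⟨y, rfl⟩)
    obtain ⟨z, rfl⟩ := (H19Grp.range_idCompι G).symm.subset hx
    refine ⟨z, iH.left.isOpenEmbedding.injective ?_⟩
    rw [← Scheme.Hom.comp_apply, ← Over.comp_left, hg, Over.comp_left, Scheme.Hom.comp_apply]
    exact hxy⟩
  haveI : Flat g.left := H19Grp.flat_of_surjective g
  haveI : Flat (iG.left ≫ f.left) := by rw [← Over.comp_left, ← hg, Over.comp_left]; infer_instance
  let z := η[H19Grp.idComp G].left (closedPoint k)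
  have hz : iG.left z = η[G].left (closedPoint k) := map_unit iG
  have he := (H8Props.FieldDim.fibreDimAt_comp_le (iG.left ≫ f.left) H.hom z).2 (Flat.stalkMap _ z)
  rw [Category.assoc, Over.w f, H8Props.FieldDim.fibreDimAt_openImmersion_comp, hG,
    H8Props.FieldDim.fibreDimAt_openImmersion_comp, hz, hH] at he
  generalize FlatMor.fibreDimAt f.left (η[G].left (closedPoint k)) = e at he ⊢
  cases e with
  | bot => simp at he
  | coe e =>
    induction e using ENat.recTopCoe with
    | top =>
      rw [← WithBot.coe_natCast, ← WithBot.coe_add, top_add, WithBot.coe_inj] at he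
      exact absurd he (ENat.natCast_ne_top d)
    | coe e =>
      have : d = e + d := by exact_mod_cast he
      exact_mod_cast (by omega : e = 0)

end Groth.Agent.H28Neron.SpecialFibreImage
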