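import Groth.Agent.H28Neron.Ext
import Groth.Agent.H8Props.ImageTorsionFree
import Groth.Agent.H17.SchDense
import Groth.Prelude.Def_Neron

/-!
# The schematic closure of a subgroup of the generic fibre
-/

set_option autoImplicit false
set_option linter.style.haveILetI false
universe u
open CategoryTheory CategoryTheory.Limits MonoidalCategory CartesianMonoidalCategory MonObj AlgebraicGeometry

namespace Groth.Agent.H28Neron.Closure

variable {S : Scheme.{u}} {G H : Over S} [GrpObj G] (j : H ⟶ G) [Mono j]

/-- A subobject closed under the group operations is a subgroup. -/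
theorem exists_grpObj (h1 : ∃ e : 𝟙_ (Over S) ⟶ H, e ≫ j = η[G])
    (hm : ∃ m : H ⊗ H ⟶ H, m ≫ j = (fst H H ≫ j) * (snd H H ≫ j))
    (hi : ∃ i : H ⟶ H, i ≫ j = j⁻¹) :
    ∃ (inst : GrpObj H), @IsMonHom _ _ _ H G inst.toMonObj _ j := by
  obtain ⟨e, he⟩ := h1
  obtain ⟨m, hm⟩ := hm
  obtain ⟨i, hi⟩ := hi
  have hmc : ∀ {T : Over S} (a b : T ⟶ H), lift a b ≫ m ≫ j = (a ≫ j) * (b ≫ j) := fun a b => by
    rw [hm, comp_mul, lift_fst_assoc, lift_snd_assoc]
  have he' : ∀ {T : Over S}, (toUnit T ≫ e) ≫ j = 1 := by
    intro T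
    rw [Category.assoc, he, Hom.one_def]
  letI : MonObj H :=
    { one := e
      mul := m
      one_mul := by
        rw [← cancel_mono j, Category.assoc,
          show e ▷ H = lift (toUnit (𝟙_ (Over S) ⊗ H) ≫ e) (snd _ _) from
            CartesianMonoidalCategory.hom_ext _ _
              (by rw [whiskerRight_fst, lift_fst, toUnit_unique (fst (𝟙_ (Over S)) H) (toUnit _)])
              (by rw [whiskerRight_snd, lift_snd]),
          hmc, he', _root_.one_mul, leftUnitor_hom]
      mul_one := by
        rw [← cancel_mono j, Category.assoc,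
          show H ◁ e = lift (fst _ _) (toUnit (H ⊗ 𝟙_ (Over S)) ≫ e) from
            CartesianMonoidalCategory.hom_ext _ _ (by rw [whiskerLeft_fst, lift_fst])
              (by rw [whiskerLeft_snd, lift_snd, toUnit_unique (snd H (𝟙_ (Over S))) (toUnit _)]),
          hmc, he', _root_.mul_one, rightUnitor_hom]
      mul_assoc := by
        rw [← cancel_mono j, Category.assoc, Category.assoc, Category.assoc,
          show m ▷ H = lift (fst _ _ ≫ m) (snd _ _) from CartesianMonoidalCategory.hom_ext _ _
            (by rw [whiskerRight_fst, lift_fst]) (by rw [whiskerRight_snd, lift_snd]),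
          show H ◁ m = lift (fst _ _) (snd _ _ ≫ m) from CartesianMonoidalCategory.hom_ext _ _
            (by rw [whiskerLeft_fst, lift_fst]) (by rw [whiskerLeft_snd, lift_snd]),
          hmc, hmc, Category.assoc, Category.assoc, hm, comp_mul, comp_mul, comp_mul, comp_mul, _root_.mul_assoc]
        simp }
  refine ⟨{ inv := i, left_inv := ?_, right_inv := ?_ }, ?_⟩
  · rw [← cancel_mono j, Category.assoc]
    show lift i (𝟙 H) ≫ m ≫ j = (toUnit H ≫ e) ≫ j
    rw [hmc, hi, he', Category.id_comp, inv_mul_cancel]
  · rw [← cancel_mono j, Category.assoc]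
    show lift (𝟙 H) i ≫ m ≫ j = (toUnit H ≫ e) ≫ j
    rw [hmc, hi, he', Category.id_comp, mul_inv_cancel]
  · exact { one_hom := he
            mul_hom := by
              show m ≫ j = (j ⊗ₘ j) ≫ μ[G]
              rw [hm, Hom.mul_def]
              rfl }

variable {R : Type u} [CommRing R] [IsDomain R]

/-- A closed subscheme containing the generic fibre of a flat scheme is everything. -/
theorem exists_factor {T G H : Over (Spec (CommRingCat.of R))} [Flat T.hom] (j : H ⟶ G)
    [IsClosedImmersion j.left] (a : T ⟶ G) (b : pullback T.hom (Neron.genPt R) ⟶ H.left)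
    (hb : b ≫ j.left = pullback.fst T.hom (Neron.genPt R) ≫ a.left) :
    ∃ c : T ⟶ H, c ≫ j = a := by
  let t := pullback.fst T.hom (Neron.genPt R)
  let u := pullback.fst a.left j.left
  let v : pullback T.hom (Neron.genPt R) ⟶ pullback a.left j.left := pullback.lift t b hb.symm
  have hv : v ≫ u = t := pullback.lift_fst _ _ _
  haveI : IsIso u := IsClosedImmersion.isIso_iff_ker_eq_bot.2 (le_bot_iff.1
    ((Scheme.Hom.le_ker_comp v u).trans (by rw [hv, Scheme.Hom.ker_eq_bot])))
  have hc : (inv u ≫ pullback.snd a.left j.left) ≫ j.left = a.left := by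
    rw [Category.assoc, ← pullback.condition, IsIso.inv_hom_id_assoc]
  exact ⟨Over.homMk (inv u ≫ pullback.snd a.left j.left)
    (by rw [← Over.w j, ← Category.assoc, hc, Over.w a]), Over.OverMorphism.ext hc⟩

end Groth.Agent.H28Neron.Closure
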