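import Groth.Agent.H19Grp.SepPoints
import Groth.Agent.S0536
import Groth.Prelude.Def_SGA7IX
import Mathlib.Topology.NoetherianSpace
import Mathlib.Topology.Homeomorph.Lemmas

/-!
# Sections of smooth schemes over strictly henselian local rings meet every component
-/

set_option autoImplicit false
set_option linter.style.haveILetI false
universe u
open CategoryTheory CategoryTheory.Limits AlgebraicGeometry IsLocalRing TopologicalSpace

namespace Groth.Agent.H28Neron.ComponentSections

/-- Connected components of a Noetherian space are open. -/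
theorem isOpen_connectedComponent_of_noetherian {α : Type*} [TopologicalSpace α] [NoetherianSpace α] (x : α) :
    IsOpen (connectedComponent x) := by
  rw [← isClosed_compl_iff]
  have : (connectedComponent x)ᶜ = ⋃ Z ∈ {Z ∈ irreducibleComponents α | Disjoint Z (connectedComponent x)}, Z := by
    ext y
    simp only [Set.mem_compl_iff, Set.mem_iUnion, Set.mem_ofPred_eq, exists_prop]
    constructor
    · intro hy
      refine ⟨irreducibleComponent y, ⟨irreducibleComponent_mem_irreducibleComponents y, ?_⟩, mem_irreducibleComponent⟩
      rw [Set.disjoint_left]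
      intro z hz hzx
      apply hy
      have h1 : irreducibleComponent y ⊆ connectedComponent z :=
        isIrreducible_irreducibleComponent.isConnected.subset_connectedComponent hz
      rw [← connectedComponent_eq hzx] at h1
      exact h1 mem_irreducibleComponent
    · rintro ⟨Z, ⟨-, hZ⟩, hyZ⟩
      exact Set.disjoint_left.1 hZ hyZ
  rw [this]
  exact Set.Finite.isClosed_biUnion
    ((NoetherianSpace.finite_irreducibleComponents (α := α)).subset fun Z hZ => hZ.1)
    fun Z hZ => isClosed_of_mem_irreducibleComponents Z hZ.1

/-- A Noetherian space has finitely many connected components. -/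
theorem finite_range_connectedComponent {α : Type*} [TopologicalSpace α] [NoetherianSpace α] :
    (Set.range (connectedComponent : α → Set α)).Finite := by
  classical
  haveI : Finite (irreducibleComponents α) := (NoetherianSpace.finite_irreducibleComponents (α := α)).to_subtype
  choose pt hpt using fun Z : irreducibleComponents α => Z.2.1.1
  refine (Set.finite_range fun Z : irreducibleComponents α => connectedComponent (pt Z)).subset ?_
  rintro _ ⟨x, rfl⟩
  refine ⟨⟨_, irreducibleComponent_mem_irreducibleComponents x⟩, ?_⟩
  exact connectedComponent_eq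
    (isIrreducible_irreducibleComponent.isConnected.subset_connectedComponent (hpt ⟨_, irreducibleComponent_mem_irreducibleComponents x⟩) mem_irreducibleComponent)

variable {R : Type u} [CommRing R] [HenselianLocalRing R] [IsSepClosed (ResidueField R)]

/-- Sections of a smooth scheme over a strictly henselian local ring meet every nonempty open of the
closed fibre. -/
theorem exists_section_mem {X : Scheme.{u}} (g : X ⟶ Spec (CommRingCat.of R)) [Smooth g]
    (O : X.Opens) {z : X} (hz : z ∈ O) (hzs : g z = closedPoint R) :
    ∃ σ : Spec (CommRingCat.of R) ⟶ X, σ ≫ g = 𝟙 _ ∧ σ (closedPoint R) ∈ O := by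
  obtain ⟨V, hV, hzV, hVO⟩ := exists_isAffineOpen_mem_and_subset (x := z) (U := O) hz
  let r : Spec (CommRingCat.of (ResidueField R)) ⟶ Spec (CommRingCat.of R) :=
    Spec.map (CommRingCat.ofHom (residue R))
  let c : Spec (CommRingCat.of (ResidueField R)) := closedPoint (ResidueField R)
  have hr : ∀ p, r p = closedPoint R := fun p => by
    rw [Subsingleton.elim (α := PrimeSpectrum (ResidueField R)) p c]
    exact IsLocalRing.comap_closedPoint (residue R)
  haveI : Smooth (pullback.snd g r) := MorphismProperty.of_isPullback (IsPullback.of_hasPullback g r) ‹_›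
  obtain ⟨w, hw, -⟩ := Scheme.Pullback.exists_preimage_pullback (f := g) (g := r) z c (hzs.trans (hr c).symm)
  obtain ⟨τ, hτ, hτV⟩ := H19Grp.exists_section_mem (pullback.snd g r) (pullback.fst g r ⁻¹ᵁ V)
    (x := w) (show pullback.fst g r w ∈ V by rw [hw]; exact hzV)
  let a := τ ≫ pullback.fst g r
  have ha : a ≫ g = r := by
    rw [Category.assoc, pullback.condition, ← Category.assoc, hτ, Category.id_comp]
  obtain ⟨φ, hφ⟩ := Spec.map_surjective (hV.fromSpec ≫ g)
  haveI : Smooth (Spec.map φ) := by rw [hφ]; infer_instance
  have hsm : φ.hom.Smooth := HasRingHomProperty.Spec_iff.mp this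
  algebraize [φ.hom]
  let a₀ : Spec (CommRingCat.of (ResidueField R)) ⟶ Spec Γ(X, V) := IsOpenImmersion.lift hV.fromSpec a (by
    rw [hV.range_fromSpec]; rintro _ ⟨p, rfl⟩; exact hτV p)
  obtain ⟨ψ, hψ⟩ := Spec.map_surjective a₀
  have hψφ : φ ≫ ψ = CommRingCat.ofHom (residue R) := by
    apply Spec.map_injective
    rw [Spec.map_comp, hψ, hφ, ← Category.assoc, IsOpenImmersion.lift_fac, ha]
  let σ₀ : Γ(X, V) →ₐ[R] R ⧸ maximalIdeal R :=
    { ψ.hom with commutes' := fun x => congr($(hψφ).hom x) }
  obtain ⟨t, ht⟩ := Groth.Agent.S0536.result R Γ(X, V) R (maximalIdeal R) σ₀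
  refine ⟨Spec.map (CommRingCat.ofHom t.toRingHom) ≫ hV.fromSpec, ?_, hVO ?_⟩
  · rw [Category.assoc, ← hφ, ← Spec.map_comp, ← Spec.map_id]
    congr 1
    ext x
    exact t.commutes x
  · show hV.fromSpec _ ∈ (V : Set X)
    rw [← hV.range_fromSpec]
    exact ⟨_, rfl⟩

end Groth.Agent.H28Neron.ComponentSections
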