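import Groth.Agent.H17.LocusBC
import Groth.Agent.H8Props.FibreStalk
import Groth.Agent.H02CA.RegularQuotient
import Groth.Agent.S9442
import Mathlib.AlgebraicGeometry.Morphisms.Flat

/-!
# Sections of regular schemes pass through the smooth locus
-/

universe u

open CategoryTheory CategoryTheory.Limits AlgebraicGeometry IsLocalRing

namespace Groth.Agent.H28Neron

set_option backward.isDefEq.respectTransparency false in
/-- A regular rational point of a scheme locally of finite type over a field is smooth. -/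
theorem mem_smoothLocus_of_regular_rational {k : Type u} [Field k] {X : Scheme.{u}}
    (f : X ⟶ Spec (CommRingCat.of k)) [LocallyOfFinitePresentation f]
    (σ : Spec (CommRingCat.of k) ⟶ X) (hσ : σ ≫ f = 𝟙 _) (z : Spec (CommRingCat.of k))
    (hreg : IsRegularLocalRing (X.presheaf.stalk (σ z))) : σ z ∈ f.smoothLocus := by
  obtain rfl : z = closedPoint k := Subsingleton.elim (α := PrimeSpectrum k) _ _
  obtain ⟨_, ⟨(V : X.Opens), (hV : IsAffineOpen V), rfl⟩, hxV, -⟩ :=
    X.isBasis_affineOpens.exists_subset_of_mem_open (Set.mem_univ (σ (closedPoint k))) isOpen_univ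
  obtain ⟨φ, hφ⟩ := Spec.map_surjective (hV.fromSpec ≫ f)
  let σ₀ : Spec (CommRingCat.of k) ⟶ Spec Γ(X, V) := IsOpenImmersion.lift hV.fromSpec σ (by
    rw [hV.range_fromSpec]
    rintro _ ⟨w, rfl⟩
    rw [Subsingleton.elim (α := PrimeSpectrum k) w (closedPoint k)]
    exact hxV)
  have hσ₀ : σ₀ ≫ hV.fromSpec = σ := IsOpenImmersion.lift_fac _ _ _
  obtain ⟨ψ₀, hψ₀⟩ := Spec.map_surjective σ₀
  have hψφ : φ ≫ ψ₀ = 𝟙 _ := by
    apply Spec.map_injective
    rw [Spec.map_comp, Spec.map_id, hψ₀, hφ, reassoc_of% hσ₀, hσ]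
  letI := φ.hom.toAlgebra
  have hft : φ.hom.FiniteType := by
    have : LocallyOfFiniteType (Spec.map φ) := by rw [hφ]; infer_instance
    exact (HasRingHomProperty.Spec_iff (P := @LocallyOfFiniteType)).1 this
  have : Algebra.FiniteType k Γ(X, V) := hft
  let ψ : Γ(X, V) →ₐ[k] k :=
    { ψ₀.hom with commutes' := fun r => congr($(hψφ).hom r) }
  set p : Spec Γ(X, V) := σ₀ (closedPoint k) with hpdef
  have hxeq : hV.fromSpec p = σ (closedPoint k) := by
    rw [hpdef, ← Scheme.Hom.comp_apply, hσ₀]
  have hp : p.asIdeal = RingHom.ker ψ := by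
    rw [hpdef, ← hψ₀]
    show Ideal.comap ψ₀.hom (maximalIdeal k) = _
    rw [maximalIdeal_eq_bot, ← RingHom.ker_eq_comap_bot]
    rfl
  have : IsRegularLocalRing (Localization.AtPrime p.asIdeal) := by
    letI : Algebra Γ(X, V) ((Spec Γ(X, V)).presheaf.stalk p) :=
      StructureSheaf.stalkAlgebra Γ(X, V) p
    haveI : IsLocalization.AtPrime ((Spec Γ(X, V)).presheaf.stalk p) p.asIdeal :=
      StructureSheaf.IsLocalization.to_stalk Γ(X, V) p
    exact IsRegularLocalRing.of_ringEquiv
      ((IsLocalization.algEquiv p.asIdeal.primeCompl (Localization.AtPrime p.asIdeal)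
      ((Spec Γ(X, V)).presheaf.stalk p)).toRingEquiv.trans
      ((asIso (hV.fromSpec.stalkMap p)).commRingCatIsoToRingEquiv.symm.trans
        (X.presheaf.stalkCongr (.of_eq hxeq)).commRingCatIsoToRingEquiv)).symm
  have hs : Function.Surjective (algebraMap k p.asIdeal.ResidueField) := by
    intro y
    obtain ⟨a, b, -, rfl⟩ := IsFractionRing.div_surjective (Γ(X, V) ⧸ p.asIdeal) y
    obtain ⟨a, rfl⟩ := Ideal.Quotient.mk_surjective a
    obtain ⟨b, rfl⟩ := Ideal.Quotient.mk_surjective b
    have key : ∀ a : Γ(X, V), algebraMap (Γ(X, V) ⧸ p.asIdeal) p.asIdeal.ResidueField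
        (Ideal.Quotient.mk p.asIdeal a) = algebraMap k p.asIdeal.ResidueField (ψ a) := by
      intro a
      have : a - algebraMap k Γ(X, V) (ψ a) ∈ p.asIdeal := by
        rw [hp, RingHom.mem_ker, map_sub]
        exact sub_eq_zero.2 (ψ.commutes (ψ a)).symm
      rw [Ideal.Quotient.eq.2 this, IsScalarTower.algebraMap_apply k Γ(X, V) p.asIdeal.ResidueField,
        IsScalarTower.algebraMap_apply Γ(X, V) (Γ(X, V) ⧸ p.asIdeal) p.asIdeal.ResidueField]
      rfl
    exact ⟨ψ a / ψ b, by simp only [map_div₀, key]⟩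
  let e : k ≃ₐ[k] p.asIdeal.ResidueField :=
    AlgEquiv.ofBijective (Algebra.ofId k _) ⟨(algebraMap k p.asIdeal.ResidueField).injective, hs⟩
  have : Algebra.IsGeometricallyReduced k k := by
    rw [Algebra.isGeometricallyReduced_field_iff]
    exact isReduced_of_injective (Algebra.TensorProduct.rid k k (AlgebraicClosure k))
      (Algebra.TensorProduct.rid k k (AlgebraicClosure k)).injective
  have : Algebra.IsGeometricallyReduced k p.asIdeal.ResidueField :=
    Algebra.IsGeometricallyReduced.of_injective e.symm.toAlgHom e.symm.injective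
  have hsm := (Groth.Agent.S9442.result k Γ(X, V) p.asIdeal).2 inferInstance
  rw [← hxeq, Scheme.Hom.mem_smoothLocus,
    ← H17.LocusBC.formallySmooth_stalkMap_comp_iff hV.fromSpec f (𝟙 _)
      (Spec.map (CommRingCat.ofHom (algebraMap k Γ(X, V)))) (by rw [Category.comp_id, ← hφ]; rfl),
    H17.LocusBC.formallySmooth_stalkMap_Spec_iff]
  exact hsm

/-- If the local ring of the base at `t` is a domain with principal maximal ideal and `X` is flat
and regular at `s t` then `X` is smooth at `s t`. -/
theorem mem_smoothLocus_of_section {X S : Scheme.{u}} (f : X ⟶ S) [Flat f]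
    [LocallyOfFinitePresentation f] (s : S ⟶ X) (hs : s ≫ f = 𝟙 S) (t : S)
    [IsDomain (S.presheaf.stalk (f (s t)))] [IsPrincipalIdealRing (S.presheaf.stalk (f (s t)))]
    (hreg : IsRegularLocalRing (X.presheaf.stalk (s t))) : s t ∈ f.smoothLocus := by
  set x := s t with hx
  obtain ⟨π, hπ⟩ := (IsPrincipalIdealRing.principal (maximalIdeal (S.presheaf.stalk (f x)))).1
  rw [Ideal.submodule_span_eq] at hπ
  have hiso : IsIso ((s ≫ f).stalkMap t) := by
    have : IsOpenImmersion (s ≫ f) := by rw [hs]; infer_instance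
    infer_instance
  -- the fibre is regular at `x`
  have hfib : IsRegularLocalRing ((f.fiber (f x)).presheaf.stalk (f.asFiber x)) := by
    refine @IsRegularLocalRing.of_ringEquiv _ _ ?_ _ _ (H8Props.FibreStalk.asFiberStalkEquiv f x)
    rw [hπ, Ideal.map_span, Set.image_singleton]
    by_cases h0 : π = 0
    · rw [h0, map_zero, show Ideal.span ({0} : Set (X.presheaf.stalk x)) = ⊥ by simp]
      exact IsRegularLocalRing.of_ringEquiv (RingEquiv.quotientBot _).symm
    set π' := (f.stalkMap x).hom π
    have hπmem : π ∈ maximalIdeal (S.presheaf.stalk (f x)) := hπ ▸ Ideal.mem_span_singleton_self π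
    have hmem : π' ∈ maximalIdeal (X.presheaf.stalk x) := map_nonunit (f.stalkMap x).hom π hπmem
    have hind : ∀ a : Fin 1 → X.presheaf.stalk x, ∑ j, a j * (fun _ => π') j ∈
        maximalIdeal (X.presheaf.stalk x) ^ 2 → ∀ j, a j ∈ maximalIdeal (X.presheaf.stalk x) := by
      intro a ha j
      fin_cases j
      by_contra hu
      have hau : IsUnit (a 0) := by simpa [mem_nonunits_iff] using hu
      simp only [Fin.sum_univ_one, Ideal.unit_mul_mem_iff_mem _ hau] at ha
      -- push forward along the retraction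
      let ρ := (s.stalkMap t).hom
      let e := (asIso ((s ≫ f).stalkMap t)).commRingCatIsoToRingEquiv
      have he : ∀ r, e r = ρ ((f.stalkMap x).hom r) := fun r => by
        change ((s ≫ f).stalkMap t).hom r = _
        rw [Scheme.Hom.stalkMap_comp]
        rfl
      have hρ : (maximalIdeal (X.presheaf.stalk (s t))).map ρ ≤ maximalIdeal (S.presheaf.stalk t) :=
        Ideal.map_le_iff_le_comap.2 fun r hr => map_nonunit ρ r hr
      have hρ' : ((maximalIdeal (X.presheaf.stalk (s t))) ^ 2).map ρ ≤
          maximalIdeal (S.presheaf.stalk t) ^ 2 :=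
        (Ideal.map_pow ρ _ 2).trans_le (Ideal.pow_right_mono hρ 2)
      have h1 : ρ π' ∈ maximalIdeal (S.presheaf.stalk t) ^ 2 := hρ' (Ideal.mem_map_of_mem ρ ha)
      have he' : e.symm (ρ π') = π := (congrArg e.symm (he π)).symm.trans (e.symm_apply_apply π)
      let ε : S.presheaf.stalk t →+* S.presheaf.stalk (f x) := e.symm.toRingHom
      have hε : (maximalIdeal (S.presheaf.stalk t)).map ε ≤ maximalIdeal (S.presheaf.stalk (f x)) :=
        Ideal.map_le_iff_le_comap.2 fun r hr h =>
          hr ((isUnit_map_iff e.symm r).mp h)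
      have hε' : ((maximalIdeal (S.presheaf.stalk t)) ^ 2).map ε ≤
          maximalIdeal (S.presheaf.stalk (f x)) ^ 2 :=
        (Ideal.map_pow ε _ 2).trans_le (Ideal.pow_right_mono hε 2)
      have h2 : π ∈ maximalIdeal (S.presheaf.stalk (f x)) ^ 2 :=
        he' ▸ hε' (Ideal.mem_map_of_mem ε h1)
      rw [hπ, Ideal.span_singleton_pow, Ideal.mem_span_singleton'] at h2
      obtain ⟨c, hc⟩ := h2
      have : (c * π - 1) * π = 0 := by linear_combination hc
      rcases mul_eq_zero.1 this with h | h
      · exact hπmem (IsUnit.of_mul_eq_one_right c (sub_eq_zero.1 h))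
      · exact h0 h
    have := (H02CA.regular_quotient_of_independent (fun _ : Fin 1 => π') (fun _ => hmem) hind).1
    rwa [Set.range_const] at this
  have : LocallyOfFinitePresentation (f.fiberToSpecResidueField (f x)) :=
    MorphismProperty.of_isPullback (P := (@LocallyOfFinitePresentation : MorphismProperty Scheme.{u}))
      (IsPullback.of_hasPullback f (S.fromSpecResidueField (f x))) ‹LocallyOfFinitePresentation f›
  refine H17.LocusBC.mem_smoothLocus_of_flat_of_fiber f x (Flat.stalkMap f x) ?_
  let σ : Spec (S.residueField (f x)) ⟶ f.fiber (f x) :=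
    pullback.lift (S.fromSpecResidueField (f x) ≫ s) (𝟙 _) (by rw [Category.assoc, hs]; simp)
  have hσ : σ ≫ f.fiberToSpecResidueField (f x) = 𝟙 _ := pullback.lift_snd _ _ _
  let z : Spec (S.residueField (f x)) := closedPoint (S.residueField (f x))
  have hz : σ z = f.asFiber x := by
    apply (f.fiberι (f x)).isEmbedding.injective
    rw [Scheme.Hom.fiberι_asFiber, ← Scheme.Hom.comp_apply,
      show σ ≫ f.fiberι (f x) = _ from pullback.lift_fst _ _ _, Scheme.Hom.comp_apply,
      Scheme.fromSpecResidueField_apply]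
    change s (f (s t)) = s t
    rw [← Scheme.Hom.comp_apply s f, hs]
    rfl
  rw [← hz]
  exact mem_smoothLocus_of_regular_rational (k := S.residueField (f x)) (f.fiberToSpecResidueField (f x)) σ hσ z (hz ▸ hfib)

end Groth.Agent.H28Neron
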