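import Groth.Agent.H28Neron.Torsor
import Mathlib.AlgebraicGeometry.Morphisms.FlatDescent
import Mathlib.AlgebraicGeometry.Morphisms.LocalFlatDescent

/-!
# Representable fppf torsors inherit the properties of the group
-/

set_option autoImplicit false
set_option linter.style.haveILetI false
universe u
open CategoryTheory MonoidalCategory CartesianMonoidalCategory AlgebraicGeometry
open Limits (pullback Sigma.desc)

namespace Groth.Agent.H28Neron.Torsor

set_option backward.isDefEq.respectTransparency false in
/-- An fppf covering of an affine scheme on which `X` has sections may be taken to be one fpqc map. -/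
lemma exists_section_cover {S : Scheme.{u}} [IsAffine S] (X : Over S)
    (h : NonAbH1.IsLocallyTrivialFor Scheme.fppfPrecoverage X) :
    ∃ (T : Scheme.{u}) (g : T ⟶ S), Flat g ∧ Surjective g ∧ QuasiCompact g ∧
      ∃ s : T ⟶ X.left, s ≫ X.hom = g := by
  obtain ⟨R, hR, hsec⟩ := h
  obtain ⟨ι, Z, q, rfl⟩ := R.exists_eq_ofArrows
  rw [Scheme.fppfPrecoverage, Scheme.ofArrows_mem_precoverage_iff] at hR
  obtain ⟨hsurj, hP⟩ := hR
  have key : ∀ s : S, ∃ (V : Scheme.{u}) (f : V ⟶ S) (σ : V ⟶ X.left), IsAffine V ∧ Flat f ∧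
      LocallyOfFinitePresentation f ∧ s ∈ Set.range f ∧ σ ≫ X.hom = f := by
    intro s
    obtain ⟨i, y, hy⟩ := hsurj s
    obtain ⟨hfl, hfp⟩ := hP i
    obtain ⟨W, hW, hyW, -⟩ := exists_isAffineOpen_mem_and_subset (X := Z i) (x := y) (U := ⊤) trivial
    obtain ⟨σ, hσ⟩ := hsec (q i) ⟨i⟩
    exact ⟨W, W.ι ≫ q i, W.ι ≫ σ, hW, inferInstance, inferInstance, ⟨⟨y, hyW⟩, hy⟩, by rw [Category.assoc, hσ]⟩
  choose V f σ hV hfl hfp hmem hσ using key
  have hopen : ∀ s, IsOpen (Set.range (f s)) := fun s => (f s).isOpenMap.isOpen_range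
  obtain ⟨t, ht⟩ := isCompact_univ.elim_finite_subcover (fun s => Set.range (f s)) hopen
    fun s _ => Set.mem_iUnion.mpr ⟨s, hmem s⟩
  let T := ∐ fun i : t => V i
  let g : T ⟶ S := Sigma.desc fun i : t => f i
  haveI : Flat g := IsZariskiLocalAtSource.sigmaDesc (P := @Flat.{u}) fun i => hfl i
  haveI : ∀ i : t, IsAffine (V i) := fun i => hV i
  haveI : IsAffine T := inferInstanceAs (IsAffine (∐ fun i : t => V i))
  refine ⟨T, g, inferInstance, ⟨fun s => ?_⟩, inferInstance, Sigma.desc fun i : t => σ i, ?_⟩
  · obtain ⟨i, hi, v, hv⟩ := Set.mem_iUnion₂.mp (ht (Set.mem_univ s))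
    refine ⟨(Limits.Sigma.ι (fun i : t => V i) ⟨i, hi⟩) v, ?_⟩
    rw [← Scheme.Hom.comp_apply, Limits.Sigma.ι_desc]
    exact hv
  · ext i
    simp [g, hσ]

variable {S : Scheme.{u}} {G N : Over S} [GrpObj G] (a : AlgGrp.Action G N)
  [IsIso (lift a.act (snd G N))]

/-- A section over `T` trivialises a pseudo-torsor over `T`. -/
noncomputable def trivialize (T : Over S) (σ : T ⟶ N) : G ⊗ T ≅ N ⊗ T where
  hom := lift (lift (fst G T) (snd G T ≫ σ) ≫ a.act) (snd G T)
  inv := lift (div a (fst N T) (snd N T ≫ σ)) (snd N T)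
  hom_inv_id := by
    let h := lift (lift (fst G T) (snd G T ≫ σ) ≫ a.act) (snd G T)
    have h1 : h ≫ fst N T = lift (fst G T) (snd G T ≫ σ) ≫ a.act := lift_fst _ _
    have h2 : h ≫ snd N T = snd G T := lift_snd _ _
    have e := congrArg (h ≫ ·) (div_smul a (fst N T) (snd N T ≫ σ))
    simp only [← Category.assoc, comp_lift, h1, h2] at e
    apply CartesianMonoidalCategory.hom_ext
    · rw [Category.id_comp, Category.assoc, lift_fst]
      exact smul_cancel a e
    · rw [Category.assoc, lift_snd, h2, Category.id_comp]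
  inv_hom_id := by
    apply CartesianMonoidalCategory.hom_ext
    · rw [Category.assoc, lift_fst, ← Category.assoc, comp_lift, lift_fst, lift_snd_assoc, div_smul,
        Category.id_comp]
    · rw [Category.assoc, lift_snd, lift_snd, Category.id_comp]

set_option backward.isDefEq.respectTransparency false in
/-- A locally trivial pseudo-torsor over an affine base under a smooth separated quasi-compact group is
smooth, separated, quasi-compact and surjective. -/
theorem properties_of_locallyTrivial [IsAffine S] [Smooth G.hom] [IsSeparated G.hom] [QuasiCompact G.hom]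
    (a : AlgGrp.Action G N) [IsIso (lift a.act (snd G N))]
    (h : NonAbH1.IsLocallyTrivialFor Scheme.fppfPrecoverage N) :
    Smooth N.hom ∧ IsSeparated N.hom ∧ QuasiCompact N.hom ∧ Surjective N.hom := by
  obtain ⟨T, g, hg₁, hg₂, hg₃, s, hs⟩ := exists_section_cover N h
  have hsur : Surjective N.hom := ⟨fun x => by
    obtain ⟨t, rfl⟩ := g.surjective x
    exact ⟨s t, by rw [← Scheme.Hom.comp_apply, hs]⟩⟩
  let e := trivialize a (Over.mk g) (Over.homMk s hs)
  let ψ : Limits.pullback G.hom g ⟶ Limits.pullback N.hom g := e.hom.left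
  haveI : IsIso ψ := ((Over.forget S).mapIso e).isIso_hom
  have hψ : ψ ≫ Limits.pullback.snd N.hom g = Limits.pullback.snd G.hom g := by
    have : e.hom ≫ snd N (Over.mk g) = snd G (Over.mk g) := lift_snd _ _
    exact congrArg (fun m => m.left) this
  have tr : ∀ (P : MorphismProperty Scheme.{u}) [P.RespectsIso] [P.IsStableUnderBaseChange],
      P G.hom → P (Limits.pullback.snd N.hom g) := fun P _ _ hP => by
    rw [← P.cancel_left_of_respectsIso ψ, hψ]
    exact MorphismProperty.pullback_snd _ _ hP
  have hQ : (@Surjective ⊓ @Flat ⊓ @QuasiCompact : MorphismProperty Scheme.{u}) g := ⟨⟨hg₂, hg₁⟩, hg₃⟩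
  have hsm : Smooth N.hom :=
    MorphismProperty.of_pullback_snd_of_descendsAlong (P := @Smooth) hQ (tr @Smooth ‹_›)
  have hqc : QuasiCompact N.hom := by
    have : QuasiCompact (Limits.pullback.snd N.hom g) := tr @QuasiCompact ‹_›
    have : CompactSpace T := QuasiCompact.compactSpace_of_compactSpace g
    have : CompactSpace ↥(Limits.pullback N.hom g) :=
      QuasiCompact.compactSpace_of_compactSpace (Limits.pullback.snd N.hom g)
    have hp : Surjective (Limits.pullback.fst N.hom g) := MorphismProperty.pullback_fst _ _ hg₂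
    have : CompactSpace N.left := ⟨by
      rw [← Set.range_eq_univ.mpr (Limits.pullback.fst N.hom g).surjective]
      exact isCompact_range (Limits.pullback.fst N.hom g).continuous⟩
    exact (quasiCompact_iff_compactSpace N.hom).mpr ‹_›
  have hsep : IsSeparated N.hom := by
    have h1 : MorphismProperty.diagonal @UniversallyClosed (Limits.pullback.snd N.hom g) := by
      have : IsSeparated (Limits.pullback.snd N.hom g) := tr @IsSeparated ‹_›
      exact inferInstanceAs (UniversallyClosed (Limits.pullback.diagonal (Limits.pullback.snd N.hom g)))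
    have h2 : UniversallyClosed (Limits.pullback.diagonal N.hom) :=
      MorphismProperty.of_pullback_snd_of_descendsAlong (P := MorphismProperty.diagonal @UniversallyClosed) hQ h1
    exact ⟨.of_isPreimmersion _ (Limits.pullback.diagonal N.hom).isClosedMap.isClosed_range⟩
  exact ⟨hsm, hsep, hqc, hsur⟩

end Groth.Agent.H28Neron.Torsor
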