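import Mathlib.AlgebraicGeometry.Morphisms.Etale
import Mathlib.CategoryTheory.Comma.Over.Pullback

/-!
# Formal properties of the Néron mapping property
-/

namespace Groth.Agent.H28Neron

open CategoryTheory CategoryTheory.Limits

universe v w

section

variable {C : Type w} [Category.{v} C] [HasPullbacks C] {S₀ S : C} {j : S₀ ⟶ S}

theorem map_eq_iff {Z N : Over S} {g g' : Z ⟶ N} :
    (Over.pullback j).map g = (Over.pullback j).map g' ↔
      pullback.fst Z.hom j ≫ g.left = pullback.fst Z.hom j ≫ g'.left := by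
  constructor
  · intro h
    have := congrArg (fun m => m.left ≫ pullback.fst N.hom j) h
    dsimp [Over.pullback] at this
    erw [pullback.lift_fst, pullback.lift_fst] at this
    exact this
  · intro h
    ext
    apply pullback.hom_ext
    · exact (pullback.lift_fst _ _ _).trans (h.trans (pullback.lift_fst _ _ _).symm)
    · exact (pullback.lift_snd _ _ _).trans (pullback.lift_snd _ _ _).symm

theorem injective_iff {Z N : Over S} :
    Function.Injective (fun g : Z ⟶ N => (Over.pullback j).map g) ↔
      ∀ g g' : Z ⟶ N, pullback.fst Z.hom j ≫ g.left = pullback.fst Z.hom j ≫ g'.left → g = g' :=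
  ⟨fun h g g' e => h (map_eq_iff.2 e), fun h g g' e => h g g' (map_eq_iff.1 e)⟩

theorem surjective_iff {Z N : Over S} :
    Function.Surjective (fun g : Z ⟶ N => (Over.pullback j).map g) ↔
      ∀ h : pullback Z.hom j ⟶ N.left, h ≫ N.hom = pullback.fst Z.hom j ≫ Z.hom →
        ∃ g : Z ⟶ N, pullback.fst Z.hom j ≫ g.left = h := by
  constructor
  · intro hs h hh
    obtain ⟨g, hg⟩ := hs (Over.homMk (U := (Over.pullback j).obj Z) (V := (Over.pullback j).obj N)
      (pullback.lift h (pullback.snd _ _) (by rw [hh, pullback.condition])) (pullback.lift_snd _ _ _))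
    refine ⟨g, ?_⟩
    have := congrArg (fun m => m.left ≫ pullback.fst N.hom j) hg
    dsimp [Over.pullback] at this
    erw [pullback.lift_fst, pullback.lift_fst] at this
    exact this
  · intro hs m
    have w : m.left ≫ pullback.snd N.hom j = pullback.snd Z.hom j := Over.w m
    obtain ⟨g, hg⟩ := hs (m.left ≫ pullback.fst N.hom j) (by
      rw [Category.assoc, pullback.condition]
      exact (reassoc_of% w) j |>.trans pullback.condition.symm)
    refine ⟨g, ?_⟩
    ext
    apply pullback.hom_ext
    · exact (pullback.lift_fst _ _ _).trans hg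
    · exact (pullback.lift_snd _ _ _).trans w.symm

/-- The restriction map along `j` is bijective. -/
abbrev HasNMP (j : S₀ ⟶ S) (Z N : Over S) : Prop :=
  Function.Bijective (fun g : Z ⟶ N => (Over.pullback j).map g)

/-- Maps of pullbacks induced by a map over the base. -/
noncomputable abbrev pbMap {Z Z' : Over S} (φ : Z' ⟶ Z) : pullback Z'.hom j ⟶ pullback Z.hom j :=
  pullback.map Z'.hom j Z.hom j φ.left (𝟙 _) (𝟙 _) (by simp) (by simp)

theorem bijective_prod {Z N M : Over S} (hN : HasNMP j Z N) (hM : HasNMP j Z M) :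
    HasNMP j Z (Over.mk (pullback.fst N.hom M.hom ≫ N.hom)) := by
  let P := Over.mk (pullback.fst N.hom M.hom ≫ N.hom)
  let p₁ : P ⟶ N := Over.homMk (pullback.fst _ _) rfl
  let p₂ : P ⟶ M := Over.homMk (pullback.snd _ _) pullback.condition.symm
  constructor
  · refine injective_iff.2 fun g g' h => ?_
    have h1 := injective_iff.1 hN.1 (g ≫ p₁) (g' ≫ p₁) (by simp [reassoc_of% h])
    have h2 := injective_iff.1 hM.1 (g ≫ p₂) (g' ≫ p₂) (by simp [reassoc_of% h])
    ext
    exact pullback.hom_ext (congrArg (fun m => m.left) h1) (congrArg (fun m => m.left) h2)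
  · refine surjective_iff.2 fun h hh => ?_
    dsimp at hh
    obtain ⟨a, ha⟩ := surjective_iff.1 hN.2 (h ≫ pullback.fst _ _) (by simpa using hh)
    obtain ⟨b, hb⟩ := surjective_iff.1 hM.2 (h ≫ pullback.snd _ _) (by
      rw [Category.assoc, ← pullback.condition]; exact hh)
    refine ⟨Over.homMk (pullback.lift a.left b.left ((Over.w a).trans (Over.w b).symm))
      ((pullback.lift_fst_assoc _ _ _ _).trans (Over.w a)), ?_⟩
    apply pullback.hom_ext
    · exact (Category.assoc _ _ _).trans ((congrArg (_ ≫ ·) (pullback.lift_fst _ _ _)).trans ha)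
    · exact (Category.assoc _ _ _).trans ((congrArg (_ ≫ ·) (pullback.lift_snd _ _ _)).trans hb)

/-- Composition: `N → S' → S` where both have the mapping property. -/
theorem bijective_comp {S' S₀' : C} {j' : S₀' ⟶ S'} {f : S' ⟶ S} {N : C} {g : N ⟶ S'}
    (hj : ∀ {W : C} (a : W ⟶ S₀') , ∃ b : W ⟶ S₀, b ≫ j = a ≫ j' ≫ f)
    (hj' : ∀ {W : C} (a : W ⟶ S') (b : W ⟶ S₀), a ≫ f = b ≫ j → ∃ c : W ⟶ S₀', c ≫ j' = a)
    [Mono j] {Z : Over S} (hS : HasNMP j Z (Over.mk f))
    (hN : ∀ u : Z.left ⟶ S', u ≫ f = Z.hom → HasNMP j' (Over.mk u) (Over.mk g)) :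
    HasNMP j Z (Over.mk (g ≫ f)) := by
  let p : Over.mk (g ≫ f) ⟶ Over.mk f := Over.homMk g rfl
  constructor
  · refine injective_iff.2 fun a b hab => ?_
    have h1 : a ≫ p = b ≫ p := injective_iff.1 hS.1 _ _ (by simp [p, reassoc_of% hab])
    let u : Z.left ⟶ S' := (a ≫ p).left
    have hu : u ≫ f = Z.hom := Over.w (a ≫ p)
    let a' : Over.mk u ⟶ Over.mk g := Over.homMk a.left rfl
    let b' : Over.mk u ⟶ Over.mk g := Over.homMk b.left (congrArg (fun m => m.left) h1).symm
    obtain ⟨c, hc⟩ := hj (pullback.snd (Over.mk u).hom j')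
    have : pullback.fst (Over.mk u).hom j' =
        pullback.lift (pullback.fst (Over.mk u).hom j') c (by
          rw [hc, ← pullback.condition_assoc]; exact congrArg (_ ≫ ·) hu.symm) ≫ pullback.fst Z.hom j :=
      (pullback.lift_fst _ _ _).symm
    have h2 : a' = b' := injective_iff.1 (hN u hu).1 a' b' (by
      rw [this]; simp only [Category.assoc]; exact congrArg _ hab)
    ext
    exact congrArg (fun m => m.left) h2
  · refine surjective_iff.2 fun h hh => ?_
    dsimp at hh
    obtain ⟨v, hv⟩ := surjective_iff.1 hS.2 (h ≫ g) (by simpa using hh)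
    let u : Z.left ⟶ S' := v.left
    have hu : u ≫ f = Z.hom := Over.w v
    obtain ⟨c, hc⟩ := hj (pullback.snd (Over.mk u).hom j')
    let l : pullback (Over.mk u).hom j' ⟶ pullback Z.hom j :=
      pullback.lift (pullback.fst (Over.mk u).hom j') c (by
        rw [hc, ← pullback.condition_assoc]; exact congrArg (_ ≫ ·) hu.symm)
    obtain ⟨w, hw⟩ := surjective_iff.1 (hN u hu).2 (l ≫ h) (by
      simp only [Over.mk_hom, Category.assoc, ← hv, l, pullback.lift_fst_assoc]; rfl)
    obtain ⟨d, hd⟩ := hj' (pullback.fst Z.hom j ≫ u) (pullback.snd Z.hom j) (by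
      rw [Category.assoc, hu, pullback.condition])
    refine ⟨Over.homMk w.left (by simp [← hu]; rw [reassoc_of% (show w.left ≫ g = u from Over.w w)]), ?_⟩
    let l' : pullback Z.hom j ⟶ pullback (Over.mk u).hom j' :=
      pullback.lift (pullback.fst Z.hom j) d (by rw [hd]; rfl)
    have e : l' ≫ pullback.fst (Over.mk u).hom j' = pullback.fst Z.hom j := pullback.lift_fst _ _ _
    change pullback.fst Z.hom j ≫ w.left = h
    rw [← e, Category.assoc, hw, ← Category.assoc]
    have hl : l ≫ pullback.fst Z.hom j = pullback.fst (Over.mk u).hom j' := pullback.lift_fst _ _ _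
    have : l' ≫ l = 𝟙 _ := by
      have e1 : (l' ≫ l) ≫ pullback.fst Z.hom j = pullback.fst Z.hom j := by
        rw [Category.assoc, hl, e]
      apply pullback.hom_ext
      · rw [e1, Category.id_comp]
      · rw [← cancel_mono j, Category.id_comp, Category.assoc, ← pullback.condition,
          ← Category.assoc, e1]
    rw [this, Category.id_comp]

end

open AlgebraicGeometry in
/-- Smoothness cancels along étale morphisms. -/
theorem smooth_of_comp_etale.{u} {X Y Z : Scheme.{u}} (f : X ⟶ Y) (g : Y ⟶ Z) [Etale g]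
    [Smooth (f ≫ g)] : Smooth f := by
  -- factor through the graph, an open immersion
  let s : X ⟶ pullback (f ≫ g) g := pullback.lift (𝟙 X) f (by simp)
  have hs : s ≫ pullback.fst (f ≫ g) g = 𝟙 X := pullback.lift_fst _ _ _
  have : Etale (s ≫ pullback.fst (f ≫ g) g) := by rw [hs]; infer_instance
  have : Etale s := Etale.of_comp s (pullback.fst (f ≫ g) g)
  have : f = s ≫ pullback.snd (f ≫ g) g := (pullback.lift_snd _ _ _).symm
  rw [this]
  infer_instance

end Groth.Agent.H28Neron
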