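import Groth.Prelude.Def_NonAbH2
import Groth.Agent.H28Neron.Mapping
import Mathlib.AlgebraicGeometry.Sites.Fpqc

/-!
# The Néron mapping property and pseudo-torsors
-/

set_option autoImplicit false
set_option linter.style.haveILetI false
universe u
open CategoryTheory MonoidalCategory CartesianMonoidalCategory MonObj AlgebraicGeometry

namespace Groth.Agent.H28Neron.Torsor

section Division

variable {S : Scheme.{u}} {G N : Over S} [GrpObj G] (a : AlgGrp.Action G N)

lemma one_smul' {T : Over S} (q : T ⟶ N) : lift (toUnit T ≫ η[G]) q ≫ a.act = q := by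
  have : lift (toUnit T ≫ η[G]) q = lift (toUnit T) q ≫ (η[G] ▷ N) := (lift_whiskerRight _ _ _).symm
  rw [this, Category.assoc, a.one_act, lift_leftUnitor_hom]

variable [IsIso (lift a.act (snd G N))]

/-- The element carrying `q` to `p`. -/
noncomputable def div {T : Over S} (p q : T ⟶ N) : T ⟶ G :=
  lift p q ≫ inv (lift a.act (snd G N)) ≫ fst G N

lemma lift_comp_shear {T : Over S} (t : T ⟶ G) (q : T ⟶ N) :
    lift t q ≫ lift a.act (snd G N) = lift (lift t q ≫ a.act) q := by
  rw [comp_lift, lift_snd]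

lemma div_smul {T : Over S} (p q : T ⟶ N) : lift (div a p q) q ≫ a.act = p := by
  let x := lift p q ≫ inv (lift a.act (snd G N))
  have hx : x ≫ lift a.act (snd G N) = lift p q := by
    simp only [x, Category.assoc, IsIso.inv_hom_id, Category.comp_id]
  have h1 : x ≫ a.act = p := by simpa using congrArg (· ≫ fst N N) hx
  have h2 : x ≫ snd G N = q := by simpa using congrArg (· ≫ snd N N) hx
  have : lift (div a p q) q = x := by
    apply CartesianMonoidalCategory.hom_ext
    · simp [div, x]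
    · simp [h2]
  rw [this, h1]

lemma smul_cancel {T : Over S} {t t' : T ⟶ G} {q : T ⟶ N}
    (h : lift t q ≫ a.act = lift t' q ≫ a.act) : t = t' := by
  have : lift t q = lift t' q := by
    rw [← cancel_mono (lift a.act (snd G N)), lift_comp_shear, lift_comp_shear, h]
  simpa using congrArg (· ≫ fst G N) this

end Division

section Restrict

variable {S S₀ : Scheme.{u}} (j : S₀ ⟶ S) [Mono j]

/-- The part of an `S`-scheme over `S₀`, as an `S`-scheme. -/
noncomputable def J (Z : Over S) : Over S := Over.mk (Limits.pullback.fst Z.hom j ≫ Z.hom)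

/-- The inclusion of the part over `S₀`. -/
noncomputable def jm (Z : Over S) : J j Z ⟶ Z := Over.homMk (Limits.pullback.fst Z.hom j) rfl

/-- Functoriality of the part over `S₀`. -/
noncomputable def Jmap {Z' Z : Over S} (φ : Z' ⟶ Z) : J j Z' ⟶ J j Z :=
  Over.homMk (pbMap φ) (by
    show pbMap φ ≫ Limits.pullback.fst Z.hom j ≫ Z.hom = Limits.pullback.fst Z'.hom j ≫ Z'.hom
    erw [Limits.pullback.lift_fst_assoc]
    simp)

@[reassoc]
lemma Jmap_jm {Z' Z : Over S} (φ : Z' ⟶ Z) : Jmap j φ ≫ jm j Z = jm j Z' ≫ φ :=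
  Over.OverMorphism.ext (Limits.pullback.lift_fst _ _ _)

instance (Z : Over S) : Mono (jm j Z) := by
  haveI : Mono (jm j Z).left := inferInstanceAs (Mono (Limits.pullback.fst Z.hom j))
  exact Over.mono_of_mono_left _

lemma smooth_surjective_Jmap {Z' Z : Over S} (φ : Z' ⟶ Z) [Smooth φ.left] [Surjective φ.left] :
    Smooth (Jmap j φ).left ∧ Surjective (Jmap j φ).left := by
  have H : IsPullback (Limits.pullback.fst Z'.hom j) (pbMap φ) φ.left (Limits.pullback.fst Z.hom j) := by
    refine IsPullback.of_bot ?_ (Limits.pullback.lift_fst _ _ _).symm (IsPullback.of_hasPullback Z.hom j)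
    have e : pbMap φ ≫ Limits.pullback.snd Z.hom j = Limits.pullback.snd Z'.hom j :=
      (Limits.pullback.lift_snd _ _ _).trans (Category.comp_id _)
    rw [e, Over.w φ]
    exact IsPullback.of_hasPullback Z'.hom j
  exact ⟨MorphismProperty.of_isPullback (P := @Smooth) H ‹_›,
    MorphismProperty.of_isPullback (P := @Surjective) H ‹_›⟩

lemma jm_inj {Z N : Over S} (h : Function.Injective (fun g : Z ⟶ N => (Over.pullback j).map g))
    {g g' : Z ⟶ N} (e : jm j Z ≫ g = jm j Z ≫ g') : g = g' :=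
  injective_iff.1 h g g' (congrArg (fun m => m.left) e)

lemma jm_surj {Z N : Over S} (h : Function.Surjective (fun g : Z ⟶ N => (Over.pullback j).map g))
    (f : J j Z ⟶ N) : ∃ g : Z ⟶ N, jm j Z ≫ g = f := by
  obtain ⟨g, hg⟩ := surjective_iff.1 h f.left (Over.w f)
  exact ⟨g, Over.OverMorphism.ext hg⟩

lemma bijective_of_jm {Z N : Over S} (h1 : ∀ g g' : Z ⟶ N, jm j Z ≫ g = jm j Z ≫ g' → g = g')
    (h2 : ∀ f : J j Z ⟶ N, ∃ g : Z ⟶ N, jm j Z ≫ g = f) :
    Function.Bijective (fun g : Z ⟶ N => (Over.pullback j).map g) :=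
  ⟨injective_iff.2 fun g g' e => h1 g g' (Over.OverMorphism.ext e), surjective_iff.2 fun f hf => by
    obtain ⟨g, hg⟩ := h2 (Over.homMk f hf)
    exact ⟨g, congrArg (fun m => m.left) hg⟩⟩

/-- Descent of an extension along a smooth surjection. -/
lemma descend {N Z' Z : Over S} [Smooth Z'.hom] (π : Z' ⟶ Z) [Smooth π.left] [Surjective π.left]
    (hinj : ∀ W : Over S, Smooth W.hom → ∀ g g' : W ⟶ N, jm j W ≫ g = jm j W ≫ g' → g = g')
    (g' : Z' ⟶ N) (h : J j Z ⟶ N) (hg' : jm j Z' ≫ g' = Jmap j π ≫ h) :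
    ∃ g : Z ⟶ N, jm j Z ≫ g = h := by
  let W : Over S := Over.mk (Limits.pullback.fst π.left π.left ≫ Z'.hom)
  haveI : Smooth W.hom := inferInstanceAs (Smooth (Limits.pullback.fst π.left π.left ≫ Z'.hom))
  let p₁ : W ⟶ Z' := Over.homMk (Limits.pullback.fst π.left π.left) rfl
  let p₂ : W ⟶ Z' := Over.homMk (Limits.pullback.snd π.left π.left) (by
    show _ ≫ Z'.hom = Limits.pullback.fst π.left π.left ≫ Z'.hom
    rw [← Over.w π, Limits.pullback.condition_assoc])
  have hp : p₁ ≫ π = p₂ ≫ π := Over.OverMorphism.ext Limits.pullback.condition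
  have hJ : Jmap j p₁ ≫ Jmap j π = Jmap j p₂ ≫ Jmap j π := by
    rw [← cancel_mono (jm j Z)]
    simp only [Category.assoc, Jmap_jm, Jmap_jm_assoc, hp]
  have heq : p₁ ≫ g' = p₂ ≫ g' := hinj W inferInstance _ _ (by
    rw [← Jmap_jm_assoc, ← Jmap_jm_assoc, hg', ← Category.assoc, hJ, Category.assoc])
  have hc : ∀ {T : Scheme.{u}} (x y : T ⟶ Z'.left), x ≫ π.left = y ≫ π.left → x ≫ g'.left = y ≫ g'.left := by
    intro T x y hxy
    have := congrArg (fun m => Limits.pullback.lift x y hxy ≫ m.left) heq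
    simp only [Over.comp_left, p₁, p₂, Over.homMk_left] at this
    erw [Limits.pullback.lift_fst_assoc, Limits.pullback.lift_snd_assoc] at this
    exact this
  let g₀ : Z.left ⟶ N.left := EffectiveEpi.desc π.left g'.left hc
  have hg₀ : π.left ≫ g₀ = g'.left := EffectiveEpi.fac π.left g'.left hc
  let g : Z ⟶ N := Over.homMk g₀ (by rw [← cancel_epi π.left, ← Category.assoc, hg₀, Over.w g', Over.w π])
  have hg : π ≫ g = g' := Over.OverMorphism.ext hg₀
  refine ⟨g, ?_⟩
  obtain ⟨_, _⟩ := smooth_surjective_Jmap j π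
  haveI : Epi (Jmap j π) := Over.epi_of_epi_left _
  rw [← cancel_epi (Jmap j π), Jmap_jm_assoc, hg, hg']

end Restrict

section Main

variable {S S₀ : Scheme.{u}} (j : S₀ ⟶ S) [Mono j] {G N : Over S} [GrpObj G] [Smooth G.hom] [Smooth N.hom]
  [Surjective N.hom] (a : AlgGrp.Action G N) [IsIso (lift a.act (snd G N))]

omit [GrpObj G] [Smooth G.hom] in
lemma cover (Z : Over S) [Smooth Z.hom] :
    Smooth (Z ⊗ N).hom ∧ Smooth (fst Z N).left ∧ Surjective (fst Z N).left := by
  refine ⟨?_, ?_, ?_⟩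
  · exact inferInstanceAs (Smooth (Limits.pullback.fst Z.hom N.hom ≫ Z.hom))
  · exact inferInstanceAs (Smooth (Limits.pullback.fst Z.hom N.hom))
  · exact inferInstanceAs (Surjective (Limits.pullback.fst Z.hom N.hom))

include a in
theorem neron_torsor_of_group
    (hG : ∀ Z : Over S, Smooth Z.hom → Function.Bijective (fun g : Z ⟶ G => (Over.pullback j).map g)) :
    ∀ Z : Over S, Smooth Z.hom → Function.Bijective (fun g : Z ⟶ N => (Over.pullback j).map g) := by
  have hinj : ∀ Z : Over S, Smooth Z.hom → ∀ g g' : Z ⟶ N, jm j Z ≫ g = jm j Z ≫ g' → g = g' := by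
    intro Z hZ g g' e
    have h1 : div a g' g = toUnit Z ≫ η[G] := jm_inj j (hG Z hZ).1 <| smul_cancel a (q := jm j Z ≫ g) <| by
      rw [← comp_lift, ← comp_lift, Category.assoc, Category.assoc, div_smul, one_smul', e]
    have h2 := div_smul a g' g
    rw [h1, one_smul'] at h2
    exact h2
  intro Z hZ
  refine bijective_of_jm j (hinj Z hZ) fun h => ?_
  haveI := hZ
  obtain ⟨hZ', _, _⟩ := cover (N := N) Z
  obtain ⟨t, ht⟩ := jm_surj j (hG _ hZ').2
    (div a (Jmap j (fst Z N) ≫ h) (jm j _ ≫ snd Z N))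
  haveI := hZ'
  refine descend j (fst Z N) hinj (lift t (snd Z N) ≫ a.act) h ?_
  rw [← Category.assoc, comp_lift, ht, div_smul]

include a in
theorem neron_group_of_torsor
    (hN : ∀ Z : Over S, Smooth Z.hom → Function.Bijective (fun g : Z ⟶ N => (Over.pullback j).map g)) :
    ∀ Z : Over S, Smooth Z.hom → Function.Bijective (fun g : Z ⟶ G => (Over.pullback j).map g) := by
  have hinj : ∀ Z : Over S, Smooth Z.hom → ∀ g g' : Z ⟶ G, jm j Z ≫ g = jm j Z ≫ g' → g = g' := by
    intro Z hZ t t' e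
    haveI := hZ
    obtain ⟨hZ', _, _⟩ := cover (N := N) Z
    haveI : Epi (fst Z N) := Over.epi_of_epi_left _
    rw [← cancel_epi (fst Z N)]
    refine smul_cancel a (q := snd Z N) (jm_inj j (hN _ hZ').1 ?_)
    simp only [← Category.assoc, comp_lift, ← Jmap_jm, Category.assoc _ (jm j Z), e]
  intro Z hZ
  refine bijective_of_jm j (hinj Z hZ) fun t₀ => ?_
  haveI := hZ
  obtain ⟨hZ', _, _⟩ := cover (N := N) Z
  haveI := hZ'
  obtain ⟨m, hm⟩ := jm_surj j (hN _ hZ').2
    (lift (Jmap j (fst Z N) ≫ t₀) (jm j _ ≫ snd Z N) ≫ a.act)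
  refine descend j (fst Z N) hinj (div a m (snd Z N)) t₀ (smul_cancel a (q := jm j _ ≫ snd Z N) ?_)
  rw [← comp_lift, Category.assoc, div_smul, hm]

end Main

end Groth.Agent.H28Neron.Torsor
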