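import Mathlib

/-!
# Units of a finitely generated domain in a finite-dimensional subspace

Over an algebraically closed field they fall into finitely many classes modulo scalars.
-/

set_option autoImplicit false
set_option linter.style.haveILetI false
universe u
open Polynomial

namespace Groth.Agent.H28Neron.UnitClasses

/-- A valuation trivial on the scalars takes only finitely many values on a finite-dimensional space. -/
theorem finite_values {k V N : Type u} [Field k] [AddCommGroup V] [Module k V] [FiniteDimensional k V]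
    [Field N] [Algebra k N] {Γ : Type*} [LinearOrderedCommGroupWithZero Γ] (v : Valuation N Γ)
    (hv : ∀ c : k, c ≠ 0 → v (algebraMap k N c) = 1) (φ : V →ₗ[k] N) :
    (Set.range fun x : V => v (φ x)).Finite := by
  classical
  by_contra hinf
  obtain ⟨s, hs, hcard⟩ := ((Set.not_finite.mp hinf).sdiff (Set.finite_singleton (0 : Γ))).exists_subset_card_eq
    (Module.finrank k V + 1)
  have hmem : ∀ a : s, ∃ x : V, v (φ x) = a.1 ∧ a.1 ≠ 0 := fun a => by
    obtain ⟨⟨x, hx⟩, h0⟩ := hs a.2
    exact ⟨x, hx, h0⟩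
  choose x hx hx0 using hmem
  have hli : LinearIndependent k x := by
    rw [linearIndependent_iff']
    intro t g hg i hi
    by_contra hne
    obtain ⟨j, hj, hjmax⟩ := Finset.exists_max_image (t.filter fun i => g i ≠ 0) (fun i => (i.1 : Γ))
      ⟨i, Finset.mem_filter.2 ⟨hi, hne⟩⟩
    rw [← Finset.sum_filter_of_ne (p := fun i => g i ≠ 0) (fun i _ h hz => h (by rw [hz, zero_smul]))] at hg
    have hval : ∀ i, g i ≠ 0 → v (φ (g i • x i)) = i.1 := fun i hi => by
      rw [map_smul, Algebra.smul_def, map_mul, hv _ hi, one_mul, hx]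
    have h := congrArg (fun y => v (φ y)) hg
    simp only [map_sum, map_zero] at h
    rw [Valuation.map_sum_eq_of_lt v hj, hval j (Finset.mem_filter.1 hj).2] at h
    · exact hx0 j h
    · intro l hl
      rw [Finset.mem_sdiff, Finset.mem_singleton] at hl
      rw [hval l (Finset.mem_filter.1 hl.1).2, hval j (Finset.mem_filter.1 hj).2]
      exact lt_of_le_of_ne (hjmax l hl.1) fun h => hl.2 (Subtype.ext h)
  have := hli.fintype_card_le_finrank
  rw [Fintype.card_coe, hcard] at this
  omega

section

variable {k : Type u} [Field k] {n : ℕ} {F : Type u} [Field F] [Algebra (MvPolynomial (Fin n) k) F]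
  [IsFractionRing (MvPolynomial (Fin n) k) F]

local notation "P" => MvPolynomial (Fin n) k

variable (k n F) in
/-- The valuation ring of the degree valuation. -/
def degRing : ValuationSubring F :=
  have h0 : ∀ {p q : P}, p.totalDegree + q.totalDegree ≤ q.totalDegree + q.totalDegree →
      p.totalDegree ≤ q.totalDegree := fun h => by omega
  have key : ∀ {p q p' q' : P}, q ≠ 0 → q' ≠ 0 → p.totalDegree ≤ q.totalDegree → p'.totalDegree ≤ q'.totalDegree →
      (p * p').totalDegree ≤ (q * q').totalDegree := fun hq hq' h h' => by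
    rw [MvPolynomial.totalDegree_mul_of_isDomain hq hq']
    exact (MvPolynomial.totalDegree_mul _ _).trans (add_le_add h h')
  { carrier := {x | ∃ p q : P, q ≠ 0 ∧ x = algebraMap P F p / algebraMap P F q ∧ p.totalDegree ≤ q.totalDegree}
    zero_mem' := ⟨0, 1, one_ne_zero, by simp, by simp⟩
    one_mem' := ⟨1, 1, one_ne_zero, by simp, le_rfl⟩
    mul_mem' := by
      rintro _ _ ⟨p, q, hq, rfl, h⟩ ⟨p', q', hq', rfl, h'⟩
      exact ⟨p * p', q * q', mul_ne_zero hq hq', by rw [map_mul, map_mul, div_mul_div_comm], key hq hq' h h'⟩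
    add_mem' := by
      rintro _ _ ⟨p, q, hq, rfl, h⟩ ⟨p', q', hq', rfl, h'⟩
      refine ⟨p * q' + q * p', q * q', mul_ne_zero hq hq', ?_, ?_⟩
      · rw [map_add, map_mul, map_mul, map_mul, div_add_div]
        · exact (map_ne_zero_iff _ (IsFractionRing.injective P F)).2 hq
        · exact (map_ne_zero_iff _ (IsFractionRing.injective P F)).2 hq'
      · exact (MvPolynomial.totalDegree_add _ _).trans (max_le (key hq hq' h le_rfl) (key hq hq' le_rfl h'))
    neg_mem' := by
      rintro _ ⟨p, q, hq, rfl, h⟩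
      exact ⟨-p, q, hq, by rw [map_neg, neg_div], by rwa [MvPolynomial.totalDegree_neg]⟩
    mem_or_inv_mem' := fun x => by
      obtain ⟨p, q, hq, rfl⟩ := IsFractionRing.div_surjective P x
      have hq0 : q ≠ 0 := nonZeroDivisors.ne_zero hq
      rcases le_total p.totalDegree q.totalDegree with h | h
      · exact Or.inl ⟨p, q, hq0, rfl, h⟩
      · rcases eq_or_ne p 0 with rfl | hp
        · exact Or.inl ⟨0, q, hq0, rfl, by simp⟩
        · exact Or.inr ⟨q, p, hp, by rw [inv_div], h⟩ }

lemma eq_C_of_mem_degRing {p : P} (h : algebraMap P F p ∈ degRing k n F) : ∃ c, p = MvPolynomial.C c := by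
  obtain ⟨a, b, hb, he, hd⟩ := h
  rw [eq_div_iff ((map_ne_zero_iff _ (IsFractionRing.injective P F)).2 hb), ← map_mul] at he
  have he' := IsFractionRing.injective P F he
  rcases eq_or_ne p 0 with rfl | hp
  · exact ⟨0, by simp⟩
  refine ⟨_, MvPolynomial.totalDegree_eq_zero_iff_eq_C.1 ?_⟩
  rw [← he', MvPolynomial.totalDegree_mul_of_isDomain hp hb] at hd
  omega

end

/-- Units lying in a finite-dimensional subspace form finitely many classes up to scalars. -/
theorem finite_classes {k B : Type u} [Field k] [IsAlgClosed k] [CommRing B] [IsDomain B] [Algebra k B]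
    [Algebra.FiniteType k B] (V : Submodule k B) [FiniteDimensional k V] :
    ∃ S : Set B, S.Finite ∧ ∀ h ∈ V, IsUnit h → ∃ s ∈ S, ∃ c : k, h = c • s := by
  classical
  obtain ⟨n, g, hg, hgi⟩ := exists_integral_inj_algHom_of_fg k B
  let P := MvPolynomial (Fin n) k
  letI : Algebra P B := g.toRingHom.toAlgebra
  haveI : IsScalarTower k P B := IsScalarTower.of_algebraMap_eq fun c => (g.commutes c).symm
  haveI : Algebra.IsIntegral P B := ⟨hgi⟩
  haveI : Algebra.FiniteType P B := Algebra.FiniteType.of_restrictScalars_finiteType k P B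
  haveI : Module.Finite P B := Algebra.IsIntegral.finite
  let L := FractionRing B
  let F := FractionRing P
  haveI : FaithfulSMul P B := (faithfulSMul_iff_algebraMap_injective P B).2 hg
  letI : Algebra F L := FractionRing.liftAlgebra P L
  haveI : FiniteDimensional F L := inferInstance
  let N := AlgebraicClosure F
  let A := degRing k n F
  let e : A →+* (A.toSubring.map (algebraMap F N)) := RingHom.codRestrict ((algebraMap F N).comp A.subtype)
    (A.toSubring.map (algebraMap F N)) fun x => Subring.mem_map.2 ⟨x.1, x.2, rfl⟩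
  have he : Function.Bijective e := ⟨fun x y h => Subtype.ext ((algebraMap F N).injective
    (congrArg Subtype.val h)), fun ⟨_, x, hx, rfl⟩ => ⟨⟨x, hx⟩, rfl⟩⟩
  obtain ⟨O, hO, hI⟩ := Ideal.image_subset_nonunits_valuationSubring
    (A := A.toSubring.map (algebraMap F N)) ((IsLocalRing.maximalIdeal A).map e) (by
      intro h
      have := congrArg (Ideal.comap e) h
      rw [Ideal.comap_map_of_bijective e he, Ideal.comap_top] at this
      exact (IsLocalRing.maximalIdeal.isMaximal A).ne_top this)
  have hAO : ∀ x : F, algebraMap F N x ∈ O → x ∈ A := by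
    intro x hx
    by_contra hxA
    have hxi : x⁻¹ ∈ A := (A.mem_or_inv_mem x).resolve_left hxA
    have hmax : (⟨x⁻¹, hxi⟩ : A) ∈ IsLocalRing.maximalIdeal A := by
      rw [IsLocalRing.mem_maximalIdeal, mem_nonunits_iff]
      intro hu
      obtain ⟨w, hw⟩ := hu.exists_right_inv
      have : x⁻¹ * w.1 = 1 := congrArg Subtype.val hw
      exact hxA (by rw [show x = w.1 from (inv_eq_iff_eq_inv.1 (eq_inv_of_mul_eq_one_left this)).trans (inv_inv _)]; exact w.2)
    have h1 := hI ⟨_, Ideal.mem_map_of_mem _ hmax, rfl⟩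
    change algebraMap F N x⁻¹ ∈ O.nonunits at h1
    rw [map_inv₀] at h1
    rcases O.inv_mem_nonunits_iff.1 h1 with h0 | h0
    · rw [map_eq_zero] at h0
      exact hxA (h0 ▸ A.zero_mem)
    · exact h0 hx
  let v := O.valuation
  have hv : ∀ c : k, c ≠ 0 → v (algebraMap k N c) = 1 := by
    intro c hc
    have h1 : ∀ d : k, v (algebraMap k N d) ≤ 1 := fun d => (O.valuation_le_one_iff _).2 (hO
      ⟨algebraMap P F (MvPolynomial.C d), ⟨MvPolynomial.C d, 1, one_ne_zero, by rw [map_one, div_one], by simp⟩, by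
        rw [IsScalarTower.algebraMap_apply k P N, IsScalarTower.algebraMap_apply P F N]; rfl⟩)
    refine le_antisymm (h1 c) ?_
    have := mul_le_mul_left (h1 c⁻¹) (v (algebraMap k N c))
    rwa [one_mul, ← map_mul, ← map_mul, inv_mul_cancel₀ hc, map_one, map_one] at this
  let σ := fun τ : L →ₐ[F] N => ((τ.restrictScalars k).toLinearMap.comp
    (IsScalarTower.toAlgHom k B L).toLinearMap).comp V.subtype
  let val : {h : B // h ∈ V ∧ IsUnit h} → ((L →ₐ[F] N) → O.ValueGroup) := fun h τ => v (σ τ ⟨h.1, h.2.1⟩)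
  have hfin : (Set.range val).Finite := (Set.Finite.pi fun τ => finite_values v hv (σ τ)).subset
    (Set.range_subset_iff.2 fun h => Set.mem_univ_pi.2 fun τ => ⟨⟨h.1, h.2.1⟩, rfl⟩)
  let pick : Set.range val → B := fun f => (Classical.choose f.2).1
  haveI := hfin.to_subtype
  refine ⟨Set.range pick, Set.finite_range _, fun h hV hu => ?_⟩
  let f : Set.range val := ⟨val ⟨h, hV, hu⟩, _, rfl⟩
  refine ⟨pick f, ⟨f, rfl⟩, ?_⟩
  have hval : val (Classical.choose f.2) = val ⟨h, hV, hu⟩ := Classical.choose_spec f.2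
  obtain ⟨⟨s, hsV, hsu⟩, hs⟩ : ∃ x, x = Classical.choose f.2 := ⟨_, rfl⟩
  rw [← hs] at hval
  show ∃ c, h = c • (Classical.choose f.2).1
  rw [← hs]
  show ∃ c, h = c • s
  obtain ⟨r, hr⟩ : ∃ r : B, h = r * s :=
    ⟨h * ↑hsu.unit⁻¹, by rw [mul_assoc, IsUnit.val_inv_mul, mul_one]⟩
  have hrO : ∀ τ : L →ₐ[F] N, τ (algebraMap B L r) ∈ O := by
    intro τ
    have e : v (τ (algebraMap B L s)) = v (τ (algebraMap B L h)) := congrFun hval τ
    rw [hr, map_mul, map_mul, map_mul] at e
    have hne : v (τ (algebraMap B L s)) ≠ 0 :=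
      (Valuation.ne_zero_iff v).2 ((map_ne_zero τ).2
        ((map_ne_zero_iff _ (IsFractionRing.injective B L)).2 hsu.ne_zero))
    refine (O.valuation_le_one_iff _).1 (le_of_eq ?_)
    exact (mul_left_eq_self₀.1 e.symm).resolve_right hne
  have hint : IsIntegral P r := Algebra.IsIntegral.isIntegral r
  have hint' : IsIntegral P (algebraMap B L r) := hint.map (IsScalarTower.toAlgHom P B L)
  have hmp : minpoly F (algebraMap B L r) = (minpoly P (algebraMap B L r)).map (algebraMap P F) :=
    minpoly.isIntegrallyClosed_eq_field_fractions' F hint'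
  have hlift : (minpoly F (algebraMap B L r)).map (algebraMap F N) ∈ Polynomial.lifts O.subtype := by
    refine Polynomial.Splits.mem_lift_of_roots_mem_range (IsAlgClosed.splits _)
      ((minpoly.monic (Algebra.IsIntegral.isIntegral _)).map _) O.subtype fun a ha => ?_
    have ha' : a ∈ (minpoly F (algebraMap B L r)).rootSet N := by
      rw [Polynomial.rootSet_def, Finset.mem_coe, Multiset.mem_toFinset]
      exact ha
    rw [← Algebra.IsAlgebraic.range_eval_eq_rootSet_minpoly_of_splits N
      (fun x => IsAlgClosed.splits _)] at ha'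
    obtain ⟨τ, rfl⟩ := ha'
    exact ⟨⟨_, hrO τ⟩, rfl⟩
  have hcoef : ∀ i, ∃ c : k, (minpoly P (algebraMap B L r)).coeff i = MvPolynomial.C c := by
    intro i
    refine eq_C_of_mem_degRing (F := F) (hAO _ ?_)
    obtain ⟨y, hy⟩ := (Polynomial.lifts_iff_coeff_lifts _).1 hlift i
    rw [Polynomial.coeff_map, hmp, Polynomial.coeff_map] at hy
    rw [← hy]
    exact y.2
  obtain ⟨q, hq, -, hqm⟩ := Polynomial.lifts_and_degree_eq_and_monic
    (f := algebraMap k P) ((Polynomial.lifts_iff_coeff_lifts _).2 fun i => by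
      obtain ⟨c, hc⟩ := hcoef i
      exact ⟨c, hc.symm⟩) (minpoly.monic hint')
  have hrk : IsIntegral k (algebraMap B L r) := ⟨q, hqm, by
    rw [← Polynomial.aeval_def, ← Polynomial.aeval_map_algebraMap P, hq, minpoly.aeval]⟩
  obtain ⟨c, hc⟩ : ∃ c, algebraMap k L c = algebraMap B L r := by
    have hdeg := IsAlgClosed.degree_eq_one_of_irreducible k (minpoly.irreducible hrk)
    exact minpoly.degree_eq_one_iff.1 hdeg
  refine ⟨c, ?_⟩
  rw [IsScalarTower.algebraMap_apply k B L] at hc
  rw [hr, ← IsFractionRing.injective B L hc, Algebra.smul_def]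

end Groth.Agent.H28Neron.UnitClasses
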