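import Groth.Agent.H28Neron.Extend
import Groth.Agent.H28Alg.RegularUFD
import Mathlib.RingTheory.Localization.NumDen

/-!
# Extending morphisms into an affine open across a point of a regular scheme
-/

set_option autoImplicit false
universe u
open CategoryTheory CategoryTheory.Limits AlgebraicGeometry TopologicalSpace

namespace Groth.Agent.H28Neron

/-- The local ring at the point given by a prime `p` of the local ring at `x` has dimension `height p`. -/
theorem ringKrullDim_stalk_fromSpecStalk {X : Scheme.{u}} (x : X) (p : Spec (X.presheaf.stalk x)) :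
    ringKrullDim (X.presheaf.stalk (X.fromSpecStalk x p)) =
      (p : PrimeSpectrum (X.presheaf.stalk x)).asIdeal.height := by
  obtain ⟨_, ⟨(U : X.Opens), (hU : IsAffineOpen U), rfl⟩, hxU, -⟩ :=
    X.isBasis_affineOpens.exists_subset_of_mem_open (Set.mem_univ x) isOpen_univ
  let q : PrimeSpectrum Γ(X, U) := Spec.map (X.presheaf.germ U x hxU) p
  have hq : X.fromSpecStalk x p = hU.fromSpec q := by
    rw [← hU.fromSpecStalk_eq_fromSpecStalk hxU, IsAffineOpen.fromSpecStalk, Scheme.Hom.comp_apply]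
  have hy : hU.fromSpec q ∈ U := by rw [← SetLike.mem_coe, ← hU.range_fromSpec]; exact ⟨q, rfl⟩
  rw [hq]
  let _ : Algebra Γ(X, U) (X.presheaf.stalk (hU.fromSpec q)) :=
    (X.presheaf.germ U _ hy).hom.toAlgebra
  have : IsLocalization.AtPrime (X.presheaf.stalk (hU.fromSpec q)) q.asIdeal :=
    hU.isLocalization_stalk' q hy
  rw [IsLocalization.AtPrime.ringKrullDim_eq_height q.asIdeal]
  let _ := X.presheaf.algebra_section_stalk ⟨x, hxU⟩
  have := hU.isLocalization_stalk ⟨x, hxU⟩
  rw [← IsLocalization.height_under (hU.primeIdealOf ⟨x, hxU⟩).asIdeal.primeCompl p.asIdeal]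
  rfl

/-- Over a regular scheme, a morphism on an open `UU` that maps into an affine open `V` near enough
points below `z` extends near `z`: a denominator of a pulled back function would vanish at one of
those points. -/
theorem exists_nhd_of_regular {Z G S : Scheme.{u}} [S.IsSeparated] (sZ : Z ⟶ S) (sG : G ⟶ S)
    [IsSeparated sG] [LocallyOfFiniteType sG] [IsReduced Z] [IsLocallyNoetherian Z] (UU : Z.Opens)
    (F : UU.toScheme ⟶ G) (hF : F ≫ sG = UU.ι ≫ sZ) (z : Z) [IsDomain (Z.presheaf.stalk z)]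
    [UniqueFactorizationMonoid (Z.presheaf.stalk z)] (V : G.Opens) (hV : IsAffineOpen V)
    (hgen : genPoint Z z ∈ UU.ι ''ᵁ (F ⁻¹ᵁ V))
    (hden : ∀ d ∈ IsLocalRing.maximalIdeal (Z.presheaf.stalk z),
      ∃ P : PrimeSpectrum (Z.presheaf.stalk z), d ∈ P.asIdeal ∧
        Z.fromSpecStalk z P ∈ UU.ι ''ᵁ (F ⁻¹ᵁ V)) :
    ∃ (W : Z.Opens) (g : W.toScheme ⟶ G), z ∈ W ∧ g ≫ sG = W.ι ≫ sZ ∧
      Z.homOfLE (inf_le_left : UU ⊓ W ≤ UU) ≫ F = Z.homOfLE inf_le_right ≫ g := by
  have hgenU : genPoint Z z ∈ UU := by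
    obtain ⟨w, -, hw⟩ := hgen; rw [← hw]; exact w.2
  let B := Z.presheaf.stalk z
  let K := FractionRing B
  let σ : Spec (CommRingCat.of K) ⟶ Spec B := Spec.map (CommRingCat.ofHom (algebraMap B K))
  let l := IsOpenImmersion.lift UU.ι (genStalk Z z) (range_genStalk_subset z hgenU)
  have hl : l ≫ UU.ι = σ ≫ Z.fromSpecStalk z := IsOpenImmersion.lift_fac _ _ _
  have hlV : Set.range (l ≫ F) ⊆ Set.range hV.fromSpec := by
    rw [hV.range_fromSpec]
    rintro _ ⟨w, rfl⟩
    obtain ⟨v, hv, hv'⟩ := hgen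
    obtain rfl : l w = v := by
      apply UU.ι.isOpenEmbedding.injective
      refine Eq.trans ?_ hv'.symm
      rw [← Scheme.Hom.comp_apply, hl,
        Subsingleton.elim (α := PrimeSpectrum K) w (fracPt Z z)]
      rfl
    exact hv
  obtain ⟨ρ, hρ⟩ := Spec.map_surjective (IsOpenImmersion.lift hV.fromSpec (l ≫ F) hlV)
  have hρ' : Spec.map ρ ≫ hV.fromSpec = l ≫ F := by rw [hρ, IsOpenImmersion.lift_fac]
  have himg : ∀ a : Γ(G, V), ∃ b : B, algebraMap B K b = ρ.hom a := by
    intro a
    obtain ⟨n, d, hnd, hmk⟩ := IsFractionRing.exists_reduced_fraction (A := B) (ρ.hom a)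
    by_cases hd : IsUnit (d : B)
    · refine ⟨n * ↑hd.unit⁻¹, ?_⟩
      rw [← hmk, eq_comm, IsLocalization.mk'_eq_iff_eq_mul, ← map_mul, mul_assoc,
        IsUnit.val_inv_mul, mul_one]
    exfalso
    obtain ⟨P, hdP, hPT⟩ := hden d ((IsLocalRing.mem_maximalIdeal _).mpr hd)
    let BP := Localization.AtPrime P.asIdeal
    have hle : ∀ w : P.asIdeal.primeCompl, IsUnit (algebraMap B K w) := fun w =>
      IsUnit.mk0 _ (IsFractionRing.to_map_ne_zero_of_mem_nonZeroDivisors
        (mem_nonZeroDivisors_of_ne_zero fun h => w.2 (by rw [h]; exact zero_mem _)))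
    let φ : BP →+* K := IsLocalization.lift hle
    let π : Spec (CommRingCat.of BP) ⟶ Z :=
      Spec.map (CommRingCat.ofHom (algebraMap B BP)) ≫ Z.fromSpecStalk z
    have hπT : ∀ w, π w ∈ UU.ι ''ᵁ (F ⁻¹ᵁ V) := fun w => by
      refine Specializes.mem_open ?_ (UU.ι ''ᵁ (F ⁻¹ᵁ V)).2 hPT
      rw [Scheme.Hom.comp_apply]
      refine Specializes.map ((PrimeSpectrum.le_iff_specializes _ _).mp ?_) (Z.fromSpecStalk z).continuous
      intro b hb
      by_contra hbP
      exact (w : PrimeSpectrum BP).2.ne_top (Ideal.eq_top_of_isUnit_mem _ hb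
        (IsLocalization.map_units BP (⟨b, hbP⟩ : P.asIdeal.primeCompl)))
    have hπU : Set.range π ⊆ Set.range UU.ι := by
      rintro _ ⟨w, rfl⟩
      obtain ⟨v, -, hv⟩ := hπT w
      exact ⟨v, hv⟩
    let lP := IsOpenImmersion.lift UU.ι π hπU
    have hlPV : Set.range (lP ≫ F) ⊆ Set.range hV.fromSpec := by
      rw [hV.range_fromSpec]
      rintro _ ⟨w, rfl⟩
      obtain ⟨v, hv, hv'⟩ := hπT w
      obtain rfl : lP w = v := by
        apply UU.ι.isOpenEmbedding.injective
        refine Eq.trans ?_ hv'.symm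
        rw [← Scheme.Hom.comp_apply, IsOpenImmersion.lift_fac]
      exact hv
    obtain ⟨ρP, hρP⟩ := Spec.map_surjective (IsOpenImmersion.lift hV.fromSpec (lP ≫ F) hlPV)
    have hlP : Spec.map (CommRingCat.ofHom φ) ≫ lP = l := by
      rw [← cancel_mono UU.ι, Category.assoc, IsOpenImmersion.lift_fac, hl]
      show _ ≫ Spec.map _ ≫ _ = _
      rw [← Spec.map_comp_assoc, ← CommRingCat.ofHom_comp]
      congr 3
      exact IsLocalization.lift_comp _
    have hcomp : ρ = ρP ≫ CommRingCat.ofHom φ := by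
      apply Spec.map_injective
      rw [← cancel_mono hV.fromSpec, hρ', Spec.map_comp, Category.assoc, hρP, IsOpenImmersion.lift_fac,
        reassoc_of% hlP]
    obtain ⟨n', d', hmk'⟩ := IsLocalization.exists_mk'_eq P.asIdeal.primeCompl (ρP.hom a)
    have h1 : algebraMap B K (n * d') = algebraMap B K (n' * d) := by
      have h2 : ρ.hom a * algebraMap B K d' = algebraMap B K n' := by
        rw [hcomp]
        show φ (ρP.hom a) * _ = _
        rw [← hmk', ← IsLocalization.lift_eq (S := BP) hle (d' : B), ← map_mul, IsLocalization.mk'_spec,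
          IsLocalization.lift_eq]
      have h3 : ρ.hom a * algebraMap B K d = algebraMap B K n := by
        rw [← hmk, IsLocalization.mk'_spec]
      rw [map_mul, map_mul, ← h3, ← h2]; ring
    have h4 : (d : B) ∣ n * d' := ⟨n', by rw [IsFractionRing.injective B K h1, mul_comm]⟩
    exact d'.2 (P.asIdeal.mem_of_dvd (hnd.symm.dvd_of_dvd_mul_left h4) hdP)
  choose r hr using himg
  have hinj := IsFractionRing.injective B K
  let ρ₀ : Γ(G, V) →+* B :=
    { toFun := r
      map_one' := hinj (by rw [hr, map_one, map_one])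
      map_mul' := fun x y => hinj (by rw [map_mul, hr, hr, hr, map_mul])
      map_zero' := hinj (by rw [hr, map_zero, map_zero])
      map_add' := fun x y => hinj (by rw [map_add, hr, hr, hr, map_add]) }
  have hρ₀ : σ ≫ Spec.map (CommRingCat.ofHom ρ₀) ≫ hV.fromSpec = l ≫ F := by
    rw [← hρ']
    show Spec.map (CommRingCat.ofHom (algebraMap B K)) ≫ _ = _
    erw [← Spec.map_comp_assoc]
    congr 2
    exact CommRingCat.hom_ext (RingHom.ext hr)
  have : IsDominant σ := ⟨(PrimeSpectrum.denseRange_comap_iff_ker_le_nilRadical (algebraMap B K)).2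
    (((RingHom.injective_iff_ker_eq_bot _).1 hinj).trans_le bot_le)⟩
  have : IsReduced (Spec B) := inferInstance
  refine exists_nhd_of_stalk_lift sZ sG UU F hF z hgenU (Spec.map (CommRingCat.ofHom ρ₀) ≫ hV.fromSpec)
    (ext_of_isDominant (ι := σ) ?_) hρ₀.symm
  simp only [Category.assoc]
  rw [reassoc_of% hρ₀, hF, reassoc_of% hl]

end Groth.Agent.H28Neron
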