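import Groth.Agent.S0355
import Groth.Agent.H19Grp.EtaleEndo
import Groth.Agent.H28Neron.ComponentSections
import Mathlib.AlgebraicGeometry.AlgClosed.Basic
import Mathlib.AlgebraicGeometry.Morphisms.FinitePresentation
import Mathlib.Topology.NoetherianSpace

/-!
# Power maps on the identity component of a commutative algebraic group
over an algebraically closed field
-/

set_option autoImplicit false
universe u

open CategoryTheory CategoryTheory.Limits AlgebraicGeometry IsLocalRing MonoidalCategory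
open CartesianMonoidalCategory MonObj TopologicalSpace

namespace Groth.Agent.H28Neron.AlgClosedComponent

/-- A constructible set dense in an irreducible set contains a nonempty relatively open part of it. -/
theorem exists_open_inter_subset {α : Type*} [TopologicalSpace α] {s : Set α}
    (hs : Topology.IsConstructible s) {C : Set α} (hC : IsIrreducible C) (hd : C ⊆ closure (s ∩ C)) :
    ∃ O : Set α, IsOpen O ∧ (O ∩ C).Nonempty ∧ O ∩ C ⊆ s := by
  have key : ∀ (t : Set α), Topology.IsConstructible t →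
      ∃ O : Set α, IsOpen O ∧ (O ∩ C).Nonempty ∧ (O ∩ C ⊆ t ∨ O ∩ C ⊆ tᶜ) := by
    intro t ht
    induction ht using Topology.IsConstructible.empty_union_induction with
    | open_retrocompact U hU _ =>
      rcases (U ∩ C).eq_empty_or_nonempty with h | h
      · refine ⟨Set.univ, isOpen_univ, by simpa using hC.nonempty, Or.inr fun x hx hxU => ?_⟩
        exact Set.notMem_empty x (h ▸ ⟨hxU, hx.2⟩)
      · exact ⟨U, hU, h, Or.inl Set.inter_subset_left⟩
    | union a _ b _ ha hb =>
      obtain ⟨O₁, hO₁, hn₁, h₁⟩ := ha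
      obtain ⟨O₂, hO₂, hn₂, h₂⟩ := hb
      obtain ⟨x, hxC, hx₁, hx₂⟩ := hC.2 O₁ O₂ hO₁ hO₂ (by rwa [Set.inter_comm]) (by rwa [Set.inter_comm])
      refine ⟨O₁ ∩ O₂, hO₁.inter hO₂, ⟨x, ⟨hx₁, hx₂⟩, hxC⟩, ?_⟩
      rcases h₁ with h₁ | h₁
      · exact Or.inl fun y hy => Or.inl (h₁ ⟨hy.1.1, hy.2⟩)
      rcases h₂ with h₂ | h₂
      · exact Or.inl fun y hy => Or.inr (h₂ ⟨hy.1.2, hy.2⟩)
      · exact Or.inr fun y hy h => h.elim (h₁ ⟨hy.1.1, hy.2⟩) (h₂ ⟨hy.1.2, hy.2⟩)
    | compl a _ ha =>
      obtain ⟨O, hO, hn, h⟩ := ha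
      exact ⟨O, hO, hn, h.symm.imp id fun h' => by rwa [compl_compl]⟩
  obtain ⟨O, hO, hn, h | h⟩ := key s hs
  · exact ⟨O, hO, hn, h⟩
  · obtain ⟨x, hxO, hxC⟩ := hn
    obtain ⟨y, hyO, hys, hyC⟩ := mem_closure_iff.1 (hd hxC) O hO hxO
    exact absurd hys (h ⟨hyO, hyC⟩)

variable {k : Type u} [Field k] (G : Over (Spec (CommRingCat.of k))) [GrpObj G]

/-- The underlying point of a rational point. -/
noncomputable abbrev pt (a : 𝟙_ (Over (Spec (CommRingCat.of k))) ⟶ G) : G.left :=
  a.left.base (closedPoint k)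

/-- Right translation by a rational point. -/
noncomputable abbrev ρ (a : 𝟙_ (Over (Spec (CommRingCat.of k))) ⟶ G) : G ⟶ G :=
  𝟙 G * (toUnit G ≫ a)

theorem comp_ρ {T : Over (Spec (CommRingCat.of k))} (w : T ⟶ G) (a : 𝟙_ (Over (Spec (CommRingCat.of k))) ⟶ G) :
    w ≫ ρ G a = w * (toUnit T ≫ a) := by
  simp only [ρ, MonObj.comp_mul, Category.comp_id, ← Category.assoc, toUnit_unique (w ≫ toUnit G) (toUnit T)]

theorem point_comp_ρ (w a : 𝟙_ (Over (Spec (CommRingCat.of k))) ⟶ G) : w ≫ ρ G a = w * a := by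
  rw [comp_ρ, toUnit_unique (toUnit _) (𝟙 _), Category.id_comp]

theorem pt_map (w : 𝟙_ (Over (Spec (CommRingCat.of k))) ⟶ G) (f : G ⟶ G) :
    f.left.base (pt G w) = pt G (w ≫ f) :=
  (Scheme.Hom.comp_apply w.left f.left (closedPoint k)).symm

theorem ρ_pt (w a : 𝟙_ (Over (Spec (CommRingCat.of k))) ⟶ G) : (ρ G a).left.base (pt G w) = pt G (w * a) := by
  rw [pt_map, point_comp_ρ]

theorem one_eq : (1 : 𝟙_ (Over (Spec (CommRingCat.of k))) ⟶ G) = η[G] := by
  rw [Hom.one_def, toUnit_unique (toUnit (𝟙_ (Over (Spec (CommRingCat.of k))))) (𝟙 _), Category.id_comp]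

theorem map_mem_component {f : G ⟶ G} {x y : G.left} (h : y ∈ connectedComponent x) :
    f.left.base y ∈ connectedComponent (f.left.base x) :=
  f.left.continuous.image_connectedComponent_subset x ⟨y, h, rfl⟩

/-- The rational points in the identity component. -/
noncomputable def unitComp : Subgroup (𝟙_ (Over (Spec (CommRingCat.of k))) ⟶ G) where
  carrier := {a | pt G a ∈ connectedComponent (pt G η[G])}
  one_mem' := by
    simp only [Set.mem_setOf_eq, one_eq]
    exact mem_connectedComponent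
  mul_mem' {a b} ha hb := by
    show pt G (a * b) ∈ connectedComponent (pt G η[G])
    have := map_mem_component G (f := ρ G b) (ha : pt G a ∈ connectedComponent (pt G η[G]))
    rw [ρ_pt, ρ_pt, ← one_eq, _root_.one_mul] at this
    rw [connectedComponent_eq (hb : pt G b ∈ connectedComponent (pt G η[G]))]
    exact this
  inv_mem' {a} ha := by
    show pt G a⁻¹ ∈ connectedComponent (pt G η[G])
    have := map_mem_component G (f := ρ G a⁻¹) (ha : pt G a ∈ connectedComponent (pt G η[G]))
    rw [ρ_pt, ρ_pt, mul_inv_cancel, ← one_eq, _root_.one_mul] at this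
    rw [← one_eq, ← connectedComponent_eq this]
    exact mem_connectedComponent

theorem mem_unitComp {a : 𝟙_ (Over (Spec (CommRingCat.of k))) ⟶ G} :
    a ∈ unitComp G ↔ pt G a ∈ connectedComponent (pt G η[G]) := Iff.rfl

theorem mem_component_iff {a b : 𝟙_ (Over (Spec (CommRingCat.of k))) ⟶ G} :
    pt G a ∈ connectedComponent (pt G b) ↔ a * b⁻¹ ∈ unitComp G := by
  constructor <;> intro h
  · have := map_mem_component G (f := ρ G b⁻¹) h
    rwa [ρ_pt, ρ_pt, mul_inv_cancel, one_eq] at this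
  · have := map_mem_component G (f := ρ G b) (mem_unitComp G |>.1 h)
    rwa [ρ_pt, ρ_pt, ← one_eq, _root_.one_mul, inv_mul_cancel_right] at this

theorem noetherianSpace [LocallyOfFiniteType G.hom] [QuasiCompact G.hom] : NoetherianSpace G.left := by
  haveI := LocallyOfFiniteType.isLocallyNoetherian G.hom
  haveI : CompactSpace G.left := QuasiCompact.compactSpace_of_compactSpace G.hom
  haveI : IsNoetherian G.left := ⟨⟩
  infer_instance

theorem exists_pow_mem [LocallyOfFiniteType G.hom] [QuasiCompact G.hom]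
    (a : 𝟙_ (Over (Spec (CommRingCat.of k))) ⟶ G) : ∃ n, 0 < n ∧ a ^ n ∈ unitComp G := by
  haveI := noetherianSpace G
  obtain ⟨i, -, j, -, hne, he⟩ := Set.infinite_univ.exists_ne_map_eq_of_mapsTo
    (f := fun i : ℕ => connectedComponent (pt G (a ^ i)))
    (t := Set.range (connectedComponent : G.left → Set G.left)) (fun i _ => ⟨_, rfl⟩)
    ComponentSections.finite_range_connectedComponent
  wlog hlt : i < j generalizing i j
  · exact this j i hne.symm he.symm (lt_of_le_of_ne (not_lt.1 hlt) hne.symm)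
  refine ⟨j - i, Nat.sub_pos_of_lt hlt, ?_⟩
  rw [pow_sub a hlt.le]
  exact (mem_component_iff G).1 ((show connectedComponent (pt G (a ^ i)) = connectedComponent (pt G (a ^ j))
    from he).symm ▸ mem_connectedComponent)

theorem point_ext [IsAlgClosed k] [LocallyOfFiniteType G.hom] {a b : 𝟙_ (Over (Spec (CommRingCat.of k))) ⟶ G}
    (h : pt G a = pt G b) : a = b :=
  Over.OverMorphism.ext (ext_of_apply_closedPoint_eq G.hom (Over.w a) (Over.w b) h)

theorem exists_pt [IsAlgClosed k] [LocallyOfFiniteType G.hom] {q : G.left} (hq : q ∈ closedPoints G.left) :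
    ∃ a : 𝟙_ (Over (Spec (CommRingCat.of k))) ⟶ G, pt G a = q :=
  ⟨Over.homMk ((pointEquivClosedPoint G.hom).symm ⟨q, hq⟩).1 ((pointEquivClosedPoint G.hom).symm ⟨q, hq⟩).2,
    pointOfClosedPoint_apply G.hom q hq _⟩

variable [IsCommMonObj G] [IsAlgClosed k] [LocallyOfFiniteType G.hom] [QuasiCompact G.hom]

/-- The power map on `G`. -/
noncomputable abbrev powMap (n : ℕ) : G ⟶ G := (𝟙 G) ^ n

omit [IsAlgClosed k] [LocallyOfFiniteType G.hom] [QuasiCompact G.hom] [IsCommMonObj G] in
theorem comp_powMap {T : Over (Spec (CommRingCat.of k))} (w : T ⟶ G) (n : ℕ) : w ≫ powMap G n = w ^ n := by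
  rw [MonObj.comp_pow, Category.comp_id]

omit [IsAlgClosed k] [LocallyOfFiniteType G.hom] [QuasiCompact G.hom] [IsCommMonObj G] in
theorem powMap_pt (w : 𝟙_ (Over (Spec (CommRingCat.of k))) ⟶ G) (n : ℕ) :
    (powMap G n).left.base (pt G w) = pt G (w ^ n) := by
  rw [pt_map, comp_powMap]

omit [IsAlgClosed k] [LocallyOfFiniteType G.hom] [QuasiCompact G.hom] [IsCommMonObj G] in
theorem image_powMap_subset (n : ℕ) :
    (powMap G n).left.base '' connectedComponent (pt G η[G]) ⊆ connectedComponent (pt G η[G]) := by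
  rintro _ ⟨y, hy, rfl⟩
  have := map_mem_component G (f := powMap G n) hy
  rwa [powMap_pt, ← one_eq, one_pow, one_eq] at this

/-- A point in the closure of the image of the identity component under the `n`-th power map is an
`n`-th power in the identity component. -/
theorem exists_pow_eq_of_mem_closure (n : ℕ) (z : 𝟙_ (Over (Spec (CommRingCat.of k))) ⟶ G)
    (hz : pt G z ∈ closure ((powMap G n).left.base '' connectedComponent (pt G η[G]))) :
    ∃ w ∈ unitComp G, w ^ n = z := by
  haveI := noetherianSpace G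
  haveI := LocallyOfFiniteType.isLocallyNoetherian G.hom
  haveI : JacobsonSpace G.left := LocallyOfFiniteType.jacobsonSpace G.hom
  haveI : CompactSpace G.left := QuasiCompact.compactSpace_of_compactSpace G.hom
  set U := connectedComponent (pt G η[G]) with hUdef
  let h := (powMap G n).left
  haveI : LocallyOfFiniteType (h ≫ G.hom) := by rw [Over.w]; infer_instance
  haveI : LocallyOfFiniteType h := locallyOfFiniteType_of_comp h G.hom
  haveI : LocallyOfFinitePresentation h := inferInstance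
  haveI : QuasiCompact h := inferInstance
  have hUirr : IsIrreducible U := (Groth.Agent.S0355.result k G).1
  have hUc : IsClosed U := isClosed_connectedComponent
  let C := closure (h.base '' U)
  have hC : IsIrreducible C := (hUirr.image h.base h.continuous.continuousOn).closure
  have hcl : C ⊆ closure (h.base '' (U ∩ closedPoints G.left)) := by
    refine closure_minimal ?_ isClosed_closure
    refine (Set.image_mono ?_).trans (image_closure_subset_closure_image h.continuous)
    exact fun x hx => (JacobsonSpace.closure_inter_closedPoints_eq_closure hUc.isLocallyClosed).symm ▸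
      subset_closure hx
  have hpts : ∀ x ∈ h.base '' (U ∩ closedPoints G.left), ∃ u ∈ unitComp G, pt G (u ^ n) = x := by
    rintro _ ⟨q, ⟨hqU, hqc⟩, rfl⟩
    obtain ⟨u, rfl⟩ := exists_pt G hqc
    exact ⟨u, hqU, (powMap_pt G u n).symm⟩
  have hcommute : ∀ (f g : G ⟶ G), f ≫ powMap G n = powMap G n ≫ g →
      (∀ y ∈ U, f.left.base y ∈ U) → ∀ y ∈ C, g.left.base y ∈ C := by
    intro f g hfg hf y hy
    refine map_mem_closure g.left.continuous hy ?_
    rintro _ ⟨q, hq, rfl⟩
    refine ⟨f.left.base q, hf q hq, ?_⟩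
    show h (f.left q) = g.left (h q)
    rw [← Scheme.Hom.comp_apply, ← Scheme.Hom.comp_apply]
    exact congrArg (fun φ : G ⟶ G => φ.left.base q) hfg
  have hρU : ∀ u ∈ unitComp G, ∀ y ∈ C, (ρ G (u ^ n)).left.base y ∈ C := fun u hu => by
    refine hcommute (ρ G u) (ρ G (u ^ n)) ?_ ?_
    · rw [comp_powMap, comp_ρ, mul_pow, MonObj.comp_pow]
    · intro y hy
      have := map_mem_component G (f := ρ G u) hy
      rwa [ρ_pt, ← one_eq, _root_.one_mul, ← connectedComponent_eq (mem_unitComp G |>.1 hu)] at this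
  have hinv : ∀ y ∈ C, ((𝟙 G)⁻¹ : G ⟶ G).left.base y ∈ C := by
    refine hcommute (𝟙 G)⁻¹ (𝟙 G)⁻¹ ?_ ?_
    · rw [comp_powMap, GrpObj.comp_inv, Category.comp_id, inv_pow]
    · intro y hy
      have := map_mem_component G (f := ((𝟙 G)⁻¹ : G ⟶ G)) hy
      rwa [pt_map, GrpObj.comp_inv, Category.comp_id, ← one_eq, inv_one, one_eq] at this
  have hρC : ∀ b : 𝟙_ (Over (Spec (CommRingCat.of k))) ⟶ G, pt G b ∈ C →
      ∀ y ∈ C, (ρ G b).left.base y ∈ C := by
    intro b hb y hy
    have hy' := map_mem_closure (ρ G b).left.continuous (hcl hy) (t := C) ?_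
    · rwa [isClosed_closure.closure_eq] at hy'
    · intro x hx
      obtain ⟨u, hu, rfl⟩ := hpts x hx
      rw [ρ_pt, mul_comm, ← ρ_pt]
      exact hρU u hu _ hb
  have hz' : pt G z⁻¹ ∈ C := by
    have := hinv _ hz
    rwa [pt_map, GrpObj.comp_inv, Category.comp_id] at this
  have hUcons : Topology.IsConstructible U :=
    Topology.IsConstructible.of_compl
      (IsRetrocompact.isConstructible hUc.isOpen_compl
        fun V _ _ => NoetherianSpace.isCompact _)
  obtain ⟨O, hO, ⟨x, hxO, hxC⟩, hOC⟩ := exists_open_inter_subset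
    (h.isConstructible_image hUcons) hC
    (closure_mono fun y hy => ⟨hy, subset_closure hy⟩)
  let T := (ρ G z).left.base ⁻¹' O
  have hT : (C ∩ T).Nonempty := by
    refine ⟨(ρ G z⁻¹).left.base x, hρC _ hz' x hxC, ?_⟩
    show (ρ G z).left.base ((ρ G z⁻¹).left.base x) ∈ O
    have : ρ G z⁻¹ ≫ ρ G z = 𝟙 G := by
      rw [comp_ρ, _root_.mul_assoc, ← MonObj.comp_mul, inv_mul_cancel, MonObj.comp_one, _root_.mul_one]
    rw [← Scheme.Hom.comp_apply, ← Over.comp_left, this]
    exact hxO
  have hne : (O ∩ T ∩ C).Nonempty := by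
    obtain ⟨y, hyC, hyO, hyT⟩ := hC.2 O T hO (hO.preimage (ρ G z).left.continuous) ⟨x, hxC, hxO⟩ hT
    exact ⟨y, ⟨hyO, hyT⟩, hyC⟩
  obtain ⟨q, ⟨⟨hqO, hqT⟩, hqC⟩, hqc⟩ := nonempty_inter_closedPoints hne
    (((hO.inter (hO.preimage (ρ G z).left.continuous)).isLocallyClosed).inter isClosed_closure.isLocallyClosed)
  obtain ⟨b, rfl⟩ := exists_pt G hqc
  have root : ∀ b : 𝟙_ (Over (Spec (CommRingCat.of k))) ⟶ G, pt G b ∈ h.base '' U →
      ∃ u ∈ unitComp G, u ^ n = b := by
    rintro b ⟨v, hvU, hv⟩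
    have hb : pt G b ∈ closedPoints G.left := ((pointEquivClosedPoint G.hom) ⟨b.left, Over.w b⟩).2
    obtain ⟨p, ⟨hpf, hpU⟩, hpc⟩ := nonempty_inter_closedPoints (Z := h.base ⁻¹' {pt G b} ∩ U) ⟨v, hv, hvU⟩
      ((hb.preimage h.continuous).inter hUc).isLocallyClosed
    obtain ⟨u, rfl⟩ := exists_pt G hpc
    exact ⟨u, hpU, point_ext G ((powMap_pt G u n).symm.trans hpf)⟩
  obtain ⟨u₁, hu₁, h₁⟩ := root b (hOC ⟨hqO, hqC⟩)
  have hbz : (ρ G z).left.base (pt G b) ∈ h.base '' U := hOC ⟨hqT, hρC z hz _ hqC⟩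
  rw [ρ_pt] at hbz
  obtain ⟨u₂, hu₂, h₂⟩ := root (b * z) hbz
  refine ⟨u₂ * u₁⁻¹, mul_mem hu₂ (inv_mem hu₁), ?_⟩
  rw [mul_pow, inv_pow, h₁, h₂, mul_inv_cancel_comm]

/-- Multiplication by an integer invertible in `k` is surjective on the identity component. -/
theorem exists_pow_eq_of_ne_zero (n : ℕ) (hn : (n : k) ≠ 0) (z : 𝟙_ (Over (Spec (CommRingCat.of k))) ⟶ G)
    (hz : z ∈ unitComp G) : ∃ w ∈ unitComp G, w ^ n = z := by
  haveI := noetherianSpace G
  refine exists_pow_eq_of_mem_closure G n z ?_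
  have he : Etale (powMap G n).left := by
    have := H19Grp.etale_zpow_field' G (n : ℤ) (by exact_mod_cast hn)
    rwa [zpow_natCast] at this
  have hopen : IsOpen ((powMap G n).left.base '' connectedComponent (pt G η[G])) :=
    (powMap G n).left.isOpenMap _ (ComponentSections.isOpen_connectedComponent_of_noetherian _)
  refine (subset_closure_inter_of_isPreirreducible_of_isOpen (Groth.Agent.S0355.result k G).1.2 hopen ?_).trans
    (closure_mono Set.inter_subset_right) hz
  exact ⟨(powMap G n).left.base (pt G η[G]), image_powMap_subset G n ⟨_, mem_connectedComponent, rfl⟩,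
    ⟨_, mem_connectedComponent, rfl⟩⟩

/-- The images of the identity component under `p`-power maps stabilise. -/
theorem exists_pow_pow_eq (p : ℕ) : ∃ a : ℕ, ∀ (r : ℕ), ∀ z ∈ unitComp G,
    ∃ w ∈ unitComp G, w ^ (p ^ (a + r)) = z ^ (p ^ a) := by
  haveI := noetherianSpace G
  set U := connectedComponent (pt G η[G]) with hUdef
  let C : ℕ → Closeds G.left := fun r => ⟨closure ((powMap G (p ^ r)).left.base '' U), isClosed_closure⟩
  have hanti : Antitone C := antitone_nat_of_succ_le fun r => by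
    refine closure_mono ?_
    rintro _ ⟨y, hy, rfl⟩
    refine ⟨(powMap G p).left.base y, image_powMap_subset G p ⟨y, hy, rfl⟩, ?_⟩
    rw [← Scheme.Hom.comp_apply, ← Over.comp_left, comp_powMap, ← pow_mul, ← pow_succ']
  obtain ⟨_, ⟨a, rfl⟩, hmin⟩ := (wellFounded_lt (α := Closeds G.left)).has_min (Set.range C)
    (Set.range_nonempty C)
  refine ⟨a, fun r z hz => exists_pow_eq_of_mem_closure G _ _ ?_⟩
  have heq : C (a + r) = C a :=
    ((hanti (Nat.le_add_right a r)).eq_or_lt).resolve_right (hmin _ ⟨_, rfl⟩)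
  show pt G (z ^ (p ^ a)) ∈ (C (a + r) : Set G.left)
  rw [heq, ← powMap_pt]
  exact subset_closure ⟨_, hz, rfl⟩

end Groth.Agent.H28Neron.AlgClosedComponent
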