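import Groth.Agent.H28Neron.Ext
import Groth.Agent.H28Neron.ComponentSections
import Groth.Agent.H19Grp.EtaleFibres
import Groth.Agent.S4112
import Groth.Agent.S0355
import Groth.Agent.S5062
import Mathlib.AlgebraicGeometry.Group.Abelian
import Mathlib.CategoryTheory.Monoidal.CommMon_

/-!
# Power maps of smooth group schemes over strictly henselian local rings
-/

set_option autoImplicit false
set_option linter.style.haveILetI false
universe u
open CategoryTheory CategoryTheory.Limits AlgebraicGeometry IsLocalRing MonoidalCategory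
open CartesianMonoidalCategory MonObj

namespace Groth.Agent.H28Neron.ComponentTorsion

attribute [local instance] Functor.grpObjObj

theorem map_pow {C D : Type*} [Category C] [Category D] [CartesianMonoidalCategory C]
    [CartesianMonoidalCategory D] (F : C ⥤ D) [F.Monoidal] {X M : C} [MonObj M]
    [MonObj (F.obj M)] (hone : ∀ {X : C}, F.map (1 : X ⟶ M) = 1)
    (hmul : ∀ {X : C} (f g : X ⟶ M), F.map (f * g) = F.map f * F.map g) (f : X ⟶ M) (n : ℕ) :
    F.map (f ^ n) = F.map f ^ n := by
  induction n with
  | zero => rw [pow_zero, pow_zero, hone]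
  | succ n ih => rw [pow_succ, pow_succ, hmul, ih]

/-- A flat separated group scheme over a domain with commutative generic fibre is commutative. -/
theorem isCommMonObj_of_genericFibre (R K : Type u) [CommRing R] [IsDomain R] [Field K] [Algebra R K]
    [IsFractionRing R K] (N : Over (Spec (CommRingCat.of R))) [GrpObj N] [Flat N.hom] [IsSeparated N.hom]
    (h : IsCommMonObj ((Over.pullback (Spec.map (CommRingCat.ofHom (algebraMap R K)))).obj N)) :
    IsCommMonObj N := by
  let j := Spec.map (CommRingCat.ofHom (algebraMap R K))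
  haveI : IsDominant j := ⟨PrimeSpectrum.denseRange_comap_iff_ker_le_nilRadical (algebraMap R K) |>.2
    (((RingHom.injective_iff_ker_eq_bot _).1 (IsFractionRing.injective R K)).trans_le bot_le)⟩
  haveI : IsSchemeTheoreticallyDominant j := .of_isDominant _
  have key : fst N N * snd N N = snd N N * fst N N := by
    haveI : Flat (N ⊗ N).hom := by dsimp; infer_instance
    have h1 : (Over.pullback j).map (fst N N * snd N N) = (Over.pullback j).map (snd N N * fst N N) := by
      rw [Functor.map_mul, Functor.map_mul]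
      haveI := h
      exact mul_comm _ _
    refine Over.OverMorphism.ext (ext_of_schDominant _ _ N.hom ((Over.w _).trans (Over.w _).symm)
      (pullback.fst (N ⊗ N).hom j) ?_)
    have h2 := congrArg (fun m => m.left ≫ pullback.fst N.hom j) h1
    change pullback.lift _ _ _ ≫ pullback.fst _ _ = pullback.lift _ _ _ ≫ pullback.fst _ _ at h2
    rw [pullback.lift_fst, pullback.lift_fst] at h2
    exact h2
  refine ⟨?_⟩
  rw [MonObj.mul_eq_mul, MonObj.comp_mul, braiding_hom_fst,
    braiding_hom_snd, key]

variable {R : Type u} [CommRing R] [HenselianLocalRing R]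
  (N : Over (Spec (CommRingCat.of R))) [GrpObj N] [IsCommMonObj N] [Smooth N.hom] [QuasiCompact N.hom]

omit [HenselianLocalRing R] in
/-- Multiplication by an invertible integer on a smooth commutative group scheme is etale. -/
theorem etale_pow (n : ℕ) (hn : IsUnit (n : R)) : Etale ((𝟙 N : N ⟶ N) ^ n).left := by
  let f := ((𝟙 N : N ⟶ N) ^ n).left
  haveI : Smooth (f ≫ N.hom) := by rw [Over.w]; infer_instance
  refine H19Grp.etale_of_etale_fibres f N.hom fun L _ x => ?_
  obtain ⟨ψ, hψ⟩ := Spec.map_surjective x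
  have hnL : (n : L) ≠ 0 := by
    have := hn.map ψ.hom
    rw [map_natCast] at this
    exact this.ne_zero
  let G := (Over.pullback x).obj N
  haveI : LocallyOfFiniteType G.hom :=
    MorphismProperty.of_isPullback (IsPullback.of_hasPullback N.hom x) inferInstance
  haveI : QuasiCompact G.hom :=
    MorphismProperty.of_isPullback (IsPullback.of_hasPullback N.hom x) ‹QuasiCompact N.hom›
  have het : Etale ((𝟙 G : G ⟶ G) ^ n).left := Groth.Agent.S4112.result L G n hnL
  have hmap : (Over.pullback x).map ((𝟙 N : N ⟶ N) ^ n) = (𝟙 G : G ⟶ G) ^ n :=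
    (map_pow (Over.pullback x) (fun {X} => Functor.map_one (Over.pullback x))
      (fun f g => Functor.map_mul (Over.pullback x) f g) (𝟙 N) n).trans
      (by rw [CategoryTheory.Functor.map_id])
  rw [← hmap] at het
  let m := ((Over.pullback x).map ((𝟙 N : N ⟶ N) ^ n)).left
  haveI : Etale m := het
  have hm₁ : m ≫ pullback.fst N.hom x = pullback.fst N.hom x ≫ f := pullback.lift_fst _ _ _
  have hm₂ : m ≫ pullback.snd N.hom x = pullback.snd N.hom x := pullback.lift_snd _ _ _
  have hsq : IsPullback (pullback.fst N.hom x) m f (pullback.fst N.hom x) := by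
    refine IsPullback.of_bot ?_ hm₁.symm (IsPullback.of_hasPullback N.hom x)
    rw [hm₂, Over.w]
    exact IsPullback.of_hasPullback N.hom x
  rw [← hsq.isoPullback_inv_snd]
  infer_instance

variable [IsSepClosed (ResidueField R)]

/-- A section of a smooth commutative group scheme in the unit component of the special fibre is an
`n`-th power of another one. -/
theorem exists_pow_eq (n : ℕ) (hn : IsUnit (n : R)) (q : 𝟙_ (Over (Spec (CommRingCat.of R))) ⟶ N)
    (hq : q ∈ SGA7.secUnitComp R N)
    (hdiff : ∀ a b : 𝟙_ (Over (Spec (CommRingCat.of R))) ⟶ N, a ∈ SGA7.secUnitComp R N →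
      b ∈ SGA7.secUnitComp R N → a * b⁻¹ ∈ SGA7.secUnitComp R N)
    (hirr : IsPreirreducible (connectedComponentIn (SGA7.specialFibreSet R N)
      (η[N].left.base (closedPoint R))))
    [TopologicalSpace.NoetherianSpace (SGA7.specialFibreSet R N)] :
    ∃ z ∈ SGA7.secUnitComp R N, z ^ n = q := by
  let F := SGA7.specialFibreSet R N
  let c : Spec (CommRingCat.of R) := closedPoint R
  let e : N.left := η[N].left.base c
  have hmemF : ∀ x : 𝟙_ (Over (Spec (CommRingCat.of R))) ⟶ N, x.left.base c ∈ F := fun x => by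
    show N.hom.base (x.left.base c) = c
    have hw : x.left ≫ N.hom = 𝟙 _ := Over.w x
    rw [← Scheme.Hom.comp_apply, hw]
    rfl
  let h := ((𝟙 N : N ⟶ N) ^ n).left
  haveI := etale_pow N n hn
  have hFh : ∀ a, h a ∈ F ↔ a ∈ F := fun a => by
    show N.hom.base (h a) = c ↔ N.hom.base a = c
    rw [← Scheme.Hom.comp_apply, Over.w]
  -- an open subset cutting out the component
  obtain ⟨A, hA, hAC⟩ := isOpen_induced_iff.1
    (ComponentSections.isOpen_connectedComponent_of_noetherian (⟨e, hmemF η[N]⟩ : F))
  let C := connectedComponentIn F e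
  have hC : C = A ∩ F := by
    show connectedComponentIn F e = _
    rw [connectedComponentIn_eq_image (hmemF η[N]), ← hAC, Subtype.image_preimage_coe, Set.inter_comm]
  have hCF : C ⊆ F := connectedComponentIn_subset _ _
  have heC : e ∈ C := mem_connectedComponentIn (hmemF η[N])
  have hone : (1 : 𝟙_ (Over (Spec (CommRingCat.of R))) ⟶ N) = η[N] := by
    rw [Hom.one_def, toUnit_unique (toUnit (𝟙_ (Over (Spec (CommRingCat.of R))))) (𝟙 _), Category.id_comp]
  have hpow : ∀ a : 𝟙_ (Over (Spec (CommRingCat.of R))) ⟶ N,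
      (a ^ n).left = a.left ≫ h := fun a => by
    rw [← Over.comp_left, MonObj.comp_pow, Category.comp_id]
  have hhe : h e = e := by
    show h (η[N].left.base c) = η[N].left.base c
    rw [← Scheme.Hom.comp_apply, ← hpow, ← hone, one_pow]
  have hhC : h '' C ⊆ C := by
    refine (isPreconnected_connectedComponentIn.image _ h.continuous.continuousOn).subset_connectedComponentIn
      ⟨e, heC, hhe⟩ ?_
    rintro _ ⟨a, ha, rfl⟩
    exact (hFh a).2 (hCF ha)
  let O := h '' A
  have hO : IsOpen O := h.isOpenMap A hA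
  have hOF : ∀ w ∈ O, w ∈ F → ∃ a ∈ C, h a = w := by
    rintro _ ⟨a, ha, rfl⟩ hw
    exact ⟨a, hC ▸ ⟨ha, (hFh a).1 hw⟩, rfl⟩
  -- lifting sections through the power map
  have lift : ∀ s : 𝟙_ (Over (Spec (CommRingCat.of R))) ⟶ N, s.left.base c ∈ O →
      ∃ a ∈ SGA7.secUnitComp R N, a ^ n = s := by
    intro s hs
    obtain ⟨a₀, ha₀, hha₀⟩ := hOF _ hs (hmemF s)
    obtain ⟨w, hw₁, hw₂⟩ := Scheme.Pullback.exists_preimage_pullback (f := h) (g := s.left) a₀ c hha₀
    haveI : Etale (pullback.snd h s.left) :=
      MorphismProperty.of_isPullback (IsPullback.of_hasPullback h s.left) ‹Etale h›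
    obtain ⟨σ, hσ₁, hσ₂⟩ := (Groth.Agent.S5062.result R).1 ⟨inferInstance, inferInstance⟩ _
      (pullback.snd h s.left) inferInstance w hw₂
    have hσh : (σ ≫ pullback.fst h s.left) ≫ h = s.left := by
      rw [Category.assoc, pullback.condition, ← Category.assoc, hσ₁]
      exact Category.id_comp _
    let a : 𝟙_ (Over (Spec (CommRingCat.of R))) ⟶ N := Over.homMk (σ ≫ pullback.fst h s.left) (by
      have hw' : s.left ≫ N.hom = 𝟙 _ := Over.w s
      rw [← Over.w ((𝟙 N : N ⟶ N) ^ n), ← Category.assoc]
      exact (congrArg (· ≫ N.hom) hσh).trans hw')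
    refine ⟨a, ?_, Over.OverMorphism.ext ((hpow a).trans hσh)⟩
    show a.left.base c ∈ C
    have : a.left.base c = a₀ := by
      rw [← hw₁, ← hσ₂]
      exact Scheme.Hom.comp_apply _ _ _
    rw [this]
    exact ha₀
  -- translate by `q⁻¹`
  let ρ : N ⟶ N := 𝟙 N * (toUnit N ≫ q⁻¹)
  have hρ : ∀ w : 𝟙_ (Over (Spec (CommRingCat.of R))) ⟶ N, ρ.left (w.left.base c) = (w * q⁻¹).left.base c :=
    fun w => by
      have : w ≫ ρ = w * q⁻¹ := by
        simp only [ρ, MonObj.comp_mul, Category.comp_id, ← Category.assoc,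
          toUnit_unique (w ≫ toUnit N) (𝟙 _), Category.id_comp]
      rw [← this]
      exact (Scheme.Hom.comp_apply w.left ρ.left c).symm
  have he_O : e ∈ O := ⟨e, (hC ▸ heC : e ∈ A ∩ F).1, hhe⟩
  obtain ⟨p, hpC, hpO, hpT⟩ := hirr O (ρ.left.base ⁻¹' O) hO (hO.preimage ρ.left.continuous)
    ⟨e, heC, he_O⟩ ⟨q.left.base c, hq, by
      show ρ.left (q.left.base c) ∈ O
      rw [hρ, mul_inv_cancel, hone]
      exact he_O⟩
  obtain ⟨σ, hσ₁, hσA, hσO, hσT⟩ := ComponentSections.exists_section_mem N.hom
    ⟨A ∩ (O ∩ ρ.left.base ⁻¹' O), hA.inter (hO.inter (hO.preimage ρ.left.continuous))⟩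
    (z := p) ⟨(hC ▸ hpC : p ∈ A ∩ F).1, hpO, hpT⟩ (hCF hpC)
  let b : 𝟙_ (Over (Spec (CommRingCat.of R))) ⟶ N := Over.homMk σ hσ₁
  obtain ⟨a₁, ha₁, h₁⟩ := lift b hσO
  obtain ⟨a₂, ha₂, h₂⟩ := lift (b * q⁻¹) (by rw [← hρ]; exact hσT)
  refine ⟨a₁ * a₂⁻¹, hdiff a₁ a₂ ha₁ ha₂, ?_⟩
  rw [mul_pow, inv_pow, h₁, h₂, mul_inv_rev, inv_inv, mul_comm q, mul_inv_cancel_left]

omit [IsCommMonObj N] [IsSepClosed (ResidueField R)] [Smooth N.hom] [QuasiCompact N.hom] in
/-- The unit component of the special fibre is irreducible. -/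
theorem isPreirreducible_unitComponent :
    IsPreirreducible (connectedComponentIn (SGA7.specialFibreSet R N) (η[N].left.base (closedPoint R))) := by
  let r := Spec.map (CommRingCat.ofHom (residue R))
  let G := (Over.pullback r).obj N
  let em := pullback.fst N.hom r
  let c' : Spec (CommRingCat.of (ResidueField R)) := closedPoint (ResidueField R)
  haveI : IsClosedImmersion r := IsClosedImmersion.spec_of_surjective _ residue_surjective
  haveI : IsClosedImmersion em := MorphismProperty.of_isPullback (IsPullback.of_hasPullback N.hom r).flip ‹_›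
  have hr : ∀ p, r p = closedPoint R := fun p => by
    rw [Subsingleton.elim (α := PrimeSpectrum (ResidueField R)) p c']
    exact IsLocalRing.comap_closedPoint (residue R)
  have hrange : Set.range em = SGA7.specialFibreSet R N := by
    rw [Scheme.Pullback.range_fst]
    ext a
    exact ⟨fun ⟨p, hp⟩ => hp.symm.trans (hr p), fun ha => ⟨c', (hr c').trans ha.symm⟩⟩
  have hunit : η[G].left ≫ em = r ≫ η[N].left := by
    show (Functor.LaxMonoidal.ε (Over.pullback r) ≫ (Over.pullback r).map η[N]).left ≫ em = _
    have h1 : ((Over.pullback r).map η[N]).left ≫ em = pullback.fst _ r ≫ η[N].left := pullback.lift_fst _ _ _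
    rw [Over.comp_left, Category.assoc]
    erw [h1]
    rw [← Category.assoc]
    congr 1
    have h2 : (Functor.LaxMonoidal.ε (Over.pullback r)).left ≫ pullback.snd _ r = 𝟙 _ :=
      Over.w (Functor.LaxMonoidal.ε (Over.pullback r))
    have h3 := pullback.condition (f := (𝟙_ (Over (Spec (CommRingCat.of R)))).hom) (g := r)
    refine (Category.comp_id _).symm.trans ?_
    refine (Category.assoc _ _ _).trans ((congrArg ((Functor.LaxMonoidal.ε (Over.pullback r)).left ≫ ·) h3).trans ?_)
    rw [← Category.assoc]
    erw [h2]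
    exact Category.id_comp _
  obtain ⟨hir, -⟩ := Groth.Agent.S0355.result (ResidueField R) G
  have he : η[N].left.base (closedPoint R) = em (η[G].left c') := by
    rw [← Scheme.Hom.comp_apply, hunit, Scheme.Hom.comp_apply, hr]
  rw [he, ← hrange, show connectedComponentIn (Set.range em) (em (η[G].left c')) =
    em '' connectedComponent (η[G].left c') from ?_]
  · exact hir.2.image _ em.continuous.continuousOn
  · refine (Set.Subset.antisymm ?_ ?_)
    · have hsub := connectedComponentIn_subset (Set.range em) (em (η[G].left c'))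
      intro a ha
      obtain ⟨a', rfl⟩ := hsub ha
      refine ⟨a', ?_, rfl⟩
      have hpc : _root_.IsPreconnected (em ⁻¹' connectedComponentIn (Set.range em) (em (η[G].left c'))) := by
        rw [← em.isEmbedding.isInducing.isPreconnected_image, Set.image_preimage_eq_of_subset hsub]
        exact isPreconnected_connectedComponentIn
      exact hpc.subset_connectedComponent (mem_connectedComponentIn ⟨_, rfl⟩) ha
    · exact (isPreconnected_connectedComponent.image _ em.continuous.continuousOn).subset_connectedComponentIn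
        ⟨_, mem_connectedComponent, rfl⟩ (Set.image_subset_range _ _)

end Groth.Agent.H28Neron.ComponentTorsion
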