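import Groth.Agent.H26ModPair.Basic
import Groth.Agent.H13Desc.Flat
import Groth.Agent.H8Props.FlatLocus.Scheme
import Mathlib

/-!
# Points where a morphism which is an isomorphism over a dense open is a local isomorphism
-/

set_option autoImplicit false
set_option linter.style.haveILetI false
universe u
open CategoryTheory Limits AlgebraicGeometry

namespace Groth.Agent.H28Neron

/-- Quasi-compact flat surjections are scheme-theoretically dominant. -/
lemma dominant_of_flat_surjective {W O : Scheme.{u}} (p : W ⟶ O) [Flat p] [Surjective p] :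
    IsSchemeTheoreticallyDominant p := by
  refine ⟨le_bot_iff.1 fun V s hs => ?_⟩
  have hs' : p.app V.1 s = 0 := Scheme.IdealSheafData.ideal_ofIdeals_le _ V hs
  rw [Scheme.IdealSheafData.ideal_bot, Pi.bot_apply, Ideal.mem_bot]
  refine TopCat.Presheaf.section_ext O.sheaf V.1 s 0 fun y hy => ?_
  obtain ⟨x, rfl⟩ := p.surjective y
  refine (Groth.Agent.H13Desc.faithfullyFlat_stalkMap p x).injective ?_
  erw [map_zero, map_zero, Scheme.Hom.germ_stalkMap_apply, hs', map_zero]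

variable {X S : Scheme.{u}} (f : X ⟶ S) (U : S.Opens) [IsIso (f ∣_ U)]

lemma eq_of_range_subset {A : Scheme.{u}} (a b : A ⟶ X) (ha : Set.range a ⊆ (f ⁻¹ᵁ U : Set X))
    (h : a ≫ f = b ≫ f) : a = b := by
  have hb : Set.range b ⊆ (f ⁻¹ᵁ U : Set X) := by
    rintro _ ⟨z, rfl⟩
    show f (b z) ∈ U
    rw [← Scheme.Hom.comp_apply, ← h, Scheme.Hom.comp_apply]
    exact ha ⟨z, rfl⟩
  rw [← Scheme.Opens.range_ι] at ha hb
  rw [← IsOpenImmersion.lift_fac _ a ha, ← IsOpenImmersion.lift_fac _ b hb]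
  congr 1
  rw [← cancel_mono (f ∣_ U), ← cancel_mono U.ι, Category.assoc, Category.assoc, morphismRestrict_ι,
    ← Category.assoc, ← Category.assoc, IsOpenImmersion.lift_fac, IsOpenImmersion.lift_fac, h]

variable (hdense : CInt.IsSchematicallyDense (f ⁻¹ᵁ U)) [IsNoetherian S] [LocallyOfFiniteType f]

include hdense in
/-- The part over `U` of an open subscheme is schematically dominant. -/
lemma dominant_preimage (W : X.Opens) :
    IsSchemeTheoreticallyDominant (W.ι ⁻¹ᵁ (f ⁻¹ᵁ U)).ι := by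
  haveI : IsSchemeTheoreticallyDominant (f ⁻¹ᵁ U).ι := H26ModPair.dominant_of_dense hdense
  haveI : IsLocallyNoetherian X := LocallyOfFiniteType.isLocallyNoetherian f
  exact IsSchemeTheoreticallyDominant.of_isPullback (isPullback_morphismRestrict W.ι (f ⁻¹ᵁ U))

include hdense in
/-- At a point of flatness the morphism is a local isomorphism. -/
theorem exists_isOpenImmersion_of_flat {x : X} (hx : (f.stalkMap x).hom.Flat) :
    ∃ W : X.Opens, x ∈ W ∧ IsOpenImmersion (W.ι ≫ f) := by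
  haveI : LocallyOfFinitePresentation f := inferInstance
  obtain ⟨W, hW, hxW, hWL⟩ := exists_isAffineOpen_mem_and_subset
    (X := X) (x := x) (U := ⟨_, H8Props.FlatLocus.isOpen_setOf_flat_stalkMap f⟩) hx
  refine ⟨W, hxW, ?_⟩
  haveI : IsAffine (W : Scheme.{u}) := hW
  let w := W.ι ≫ f
  haveI : IsLocallyNoetherian X := LocallyOfFiniteType.isLocallyNoetherian f
  haveI hwflat : Flat w := Flat.of_stalkMap _ fun y => by
    rw [Scheme.Hom.stalkMap_comp]
    exact RingHom.Flat.comp (hWL y.2) (Flat.stalkMap W.ι y)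
  let O : S.Opens := ⟨Set.range w, w.isOpenMap.isOpen_range⟩
  let p : (W : Scheme.{u}) ⟶ O := IsOpenImmersion.lift O.ι w (by rw [Scheme.Opens.range_ι]; exact le_rfl)
  have hp : p ≫ O.ι = w := IsOpenImmersion.lift_fac _ _ _
  haveI : Flat p := MorphismProperty.of_isPullback (P := @Flat)
    (IsPullback.of_horiz_isIso_mono (fst := 𝟙 _) (snd := p) (f := w) (g := O.ι) ⟨by rw [Category.id_comp, hp]⟩)
    hwflat
  haveI : Surjective p := ⟨fun o => by
    obtain ⟨z, hz⟩ := o.2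
    exact ⟨z, O.ι.injective (by rw [← Scheme.Hom.comp_apply, hp]; exact hz)⟩⟩
  haveI : IsSeparated p := inferInstance
  haveI : LocallyOfFiniteType (p ≫ O.ι) := by rw [hp]; infer_instance
  haveI : LocallyOfFiniteType p := locallyOfFiniteType_of_comp p O.ι
  haveI : LocallyOfFinitePresentation p := inferInstance
  haveI : QuasiCompact p := inferInstance
  let U' : (O : Scheme.{u}).Opens := O.ι ⁻¹ᵁ U
  haveI : QuasiCompact U'.ι := inferInstance
  -- `U` is schematically dense in the image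
  haveI : IsSchemeTheoreticallyDominant U'.ι := by
    have e : p ⁻¹ᵁ U' = W.ι ⁻¹ᵁ (f ⁻¹ᵁ U) := by
      rw [← Scheme.Hom.comp_preimage, ← Scheme.Hom.comp_preimage, hp]
    haveI h1 : IsSchemeTheoreticallyDominant (p ⁻¹ᵁ U').ι := by rw [e]; exact dominant_preimage f U hdense W
    haveI : IsSchemeTheoreticallyDominant p := dominant_of_flat_surjective p
    haveI : IsSchemeTheoreticallyDominant ((p ⁻¹ᵁ U').ι ≫ p) := inferInstance
    refine ⟨le_bot_iff.1 ((Scheme.Hom.le_ker_comp (p ∣_ U') U'.ι).trans ?_)⟩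
    rw [morphismRestrict_ι, Scheme.Hom.ker_eq_bot]
  let π := pullback.fst p p ≫ p
  haveI : IsSchemeTheoreticallyDominant (π ⁻¹ᵁ U').ι :=
    IsSchemeTheoreticallyDominant.of_isPullback (isPullback_morphismRestrict π U')
  let A := (π ⁻¹ᵁ U' : (pullback p p).Opens)
  have hA : A.ι = (A.ι ≫ pullback.fst p p) ≫ pullback.diagonal p := by
    have e : A.ι ≫ pullback.fst p p = A.ι ≫ pullback.snd p p := by
      rw [← cancel_mono W.ι]
      refine eq_of_range_subset f U _ _ ?_ ?_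
      · rintro _ ⟨z, rfl⟩
        have hz : O.ι (π (A.ι z)) ∈ U := z.2
        show f _ ∈ U
        rw [← Scheme.Hom.comp_apply]
        rw [← Scheme.Hom.comp_apply, ← Scheme.Hom.comp_apply] at hz
        simpa only [π, Category.assoc, hp, w] using hz
      · simp only [Category.assoc]
        show A.ι ≫ pullback.fst p p ≫ w = A.ι ≫ pullback.snd p p ≫ w
        rw [← hp, pullback.condition_assoc]
    apply pullback.hom_ext <;> simp [e]
  haveI : IsIso (pullback.diagonal p) := IsClosedImmersion.isIso_iff_ker_eq_bot.mpr (le_bot_iff.mp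
    ((Scheme.Hom.le_ker_comp (A.ι ≫ pullback.fst p p) (pullback.diagonal p)).trans
      (by rw [← hA, Scheme.Hom.ker_eq_bot])))
  haveI : Mono p := (pullback.isIso_diagonal_iff p).mp inferInstance
  haveI : IsOpenImmersion p := IsOpenImmersion.of_flat_of_mono p
  show IsOpenImmersion w
  rw [← hp]
  infer_instance

include hdense in
/-- Through a point with a section the morphism is a local isomorphism. -/
theorem exists_isOpenImmersion_of_section {x : X} (V : S.Opens) (hV : f x ∈ V)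
    (σ : (V : Scheme.{u}) ⟶ X) (hσ : σ ≫ f = V.ι) (hσx : σ ⟨f x, hV⟩ = x) :
    ∃ W : X.Opens, x ∈ W ∧ IsOpenImmersion (W.ι ≫ f) := by
  obtain ⟨Ω, hΩ, hxΩ, -⟩ := exists_isAffineOpen_mem_and_subset (X := X) (x := x) (U := ⊤) trivial
  let V₁ : (V : Scheme.{u}).Opens := σ ⁻¹ᵁ Ω
  let c := V₁.ι ≫ V.ι
  let W : X.Opens := Ω ⊓ f ⁻¹ᵁ c.opensRange
  have hxW : x ∈ W := ⟨hxΩ, ⟨⟨⟨f x, hV⟩, show σ ⟨f x, hV⟩ ∈ Ω by rw [hσx]; exact hxΩ⟩, rfl⟩⟩
  refine ⟨W, hxW, ?_⟩
  let q : (W : Scheme.{u}) ⟶ V₁ := IsOpenImmersion.lift c (W.ι ≫ f) (by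
    rintro _ ⟨z, rfl⟩; rw [Scheme.Hom.comp_apply]; exact z.2.2)
  have hq : q ≫ c = W.ι ≫ f := IsOpenImmersion.lift_fac _ _ _
  let τ : (V₁ : Scheme.{u}) ⟶ W := IsOpenImmersion.lift W.ι (V₁.ι ≫ σ) (by
    rw [Scheme.Opens.range_ι]
    rintro _ ⟨z, rfl⟩
    refine ⟨by rw [Scheme.Hom.comp_apply]; exact z.2, ⟨z, ?_⟩⟩
    show c z = f ((V₁.ι ≫ σ) z)
    rw [← Scheme.Hom.comp_apply, Category.assoc, hσ])
  have hτ : τ ≫ W.ι = V₁.ι ≫ σ := IsOpenImmersion.lift_fac _ _ _
  have hτq : τ ≫ q = 𝟙 _ := by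
    rw [← cancel_mono c, Category.assoc, hq, ← Category.assoc, hτ, Category.assoc, hσ, Category.id_comp]
  haveI : IsSeparated q := by
    haveI : IsAffine (Ω : Scheme.{u}) := hΩ
    haveI : W.toScheme.IsSeparated :=
      ⟨(terminal.comp_from (X.homOfLE (inf_le_left : W ≤ Ω))) ▸ inferInstance⟩
    infer_instance
  haveI : IsClosedImmersion (τ ≫ q) := by rw [hτq]; infer_instance
  haveI : IsClosedImmersion τ := .of_comp τ q
  haveI : IsSchemeTheoreticallyDominant (W.ι ⁻¹ᵁ (f ⁻¹ᵁ U)).ι := dominant_preimage f U hdense W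
  have hA : ((W.ι ⁻¹ᵁ (f ⁻¹ᵁ U)).ι ≫ q) ≫ τ = (W.ι ⁻¹ᵁ (f ⁻¹ᵁ U)).ι := by
    rw [← cancel_mono W.ι]
    refine (eq_of_range_subset f U _ _ ?_ ?_).symm
    · rintro _ ⟨z, rfl⟩
      rw [Scheme.Hom.comp_apply]
      exact z.2
    · simp only [Category.assoc]
      rw [reassoc_of% hτ, hσ]
      show _ = (W.ι ⁻¹ᵁ (f ⁻¹ᵁ U)).ι ≫ q ≫ c
      rw [hq]
  haveI : IsIso τ := IsClosedImmersion.isIso_iff_ker_eq_bot.mpr (le_bot_iff.mp
    ((Scheme.Hom.le_ker_comp ((W.ι ⁻¹ᵁ (f ⁻¹ᵁ U)).ι ≫ q) τ).trans (by rw [hA, Scheme.Hom.ker_eq_bot])))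
  haveI : IsIso q := by
    rw [show q = inv τ by rw [← cancel_epi τ, hτq, IsIso.hom_inv_id]]
    infer_instance
  rw [← hq]
  infer_instance

end Groth.Agent.H28Neron
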