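import Groth.Agent.H28Neron.FiniteNormal
import Groth.Agent.H28Neron.Mapping
import Groth.Agent.H17.TwoGlue
import Groth.Agent.H17.NormalNormalizationScheme
import Groth.Agent.H18Et.EtaleNormalScheme
import Groth.Agent.S4997
import Mathlib.RingTheory.Etale.Field
import Mathlib.RingTheory.DedekindDomain.IntegralClosure
import Mathlib.RingTheory.LocalProperties.IntegrallyClosed
import Mathlib.AlgebraicGeometry.ZariskisMainTheorem
import Mathlib.AlgebraicGeometry.Morphisms.FlatMono

/-!
# Neron models of etale schemes over a dense open of a normal Noetherian scheme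
-/

set_option autoImplicit false
set_option linter.style.haveILetI false
set_option linter.unusedVariables false
universe u
open CategoryTheory CategoryTheory.Limits AlgebraicGeometry
open scoped TensorProduct

namespace Groth.Agent.H28Neron.EtaleNeronOpen

/-- The integral closure of a normal Noetherian domain in an etale algebra over its fraction field is
finite. -/
theorem finite_integralClosure_formallyEtale (R : Type u) [CommRing R] [IsDomain R] [IsNoetherianRing R]
    [IsIntegrallyClosed R] (E : Type u) [CommRing E]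
    [Algebra (FractionRing R) E] [Algebra R E] [IsScalarTower R (FractionRing R) E]
    [Algebra.EssFiniteType (FractionRing R) E] [Algebra.FormallyEtale (FractionRing R) E] :
    Module.Finite R (integralClosure R E) := by
  obtain ⟨I, _, Ai, _, _, e, hsep⟩ :=
    (Algebra.FormallyEtale.iff_exists_algEquiv_prod (FractionRing R) E).1 inferInstance
  haveI := Algebra.FormallyUnramified.finite_of_free (FractionRing R) E
  let _ : ∀ i, Algebra R (Ai i) := fun i =>
    ((algebraMap (FractionRing R) (Ai i)).comp (algebraMap R (FractionRing R))).toAlgebra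
  haveI : ∀ i, IsScalarTower R (FractionRing R) (Ai i) := fun i => .of_algebraMap_eq fun _ => rfl
  let π : ∀ i, E →ₐ[R] Ai i := fun i =>
    (Pi.evalAlgHom R Ai i).comp ((e : E →ₐ[FractionRing R] Π i, Ai i).restrictScalars R)
  haveI : ∀ i, FiniteDimensional (FractionRing R) (Ai i) := fun i =>
    Module.Finite.of_surjective ((Pi.evalAlgHom (FractionRing R) Ai i).comp
      (e : E →ₐ[FractionRing R] Π i, Ai i)).toLinearMap
      ((Function.surjective_eval i).comp e.surjective)
  haveI : ∀ i, Module.Finite R (integralClosure R (Ai i)) := fun i =>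
    haveI := hsep i
    IsIntegralClosure.finite R (FractionRing R) (Ai i) (integralClosure R (Ai i))
  let ψ : integralClosure R E →ₗ[R] Π i, integralClosure R (Ai i) :=
    { toFun := fun b i => ⟨π i b.1, b.2.map (π i)⟩
      map_add' := fun b c => by ext i; simp
      map_smul' := fun r b => by ext i; simp }
  refine Module.Finite.of_injective ψ fun b c h => Subtype.ext (e.injective (funext fun i => ?_))
  exact congrArg Subtype.val (congrFun h i)

/-- The integral closure of a normal Noetherian domain in a ring embedded in finitely many etale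
algebras is finite. -/
theorem finite_integralClosure_of_etale (R : Type u) [CommRing R] [IsDomain R] [IsNoetherianRing R]
    [IsIntegrallyClosed R] (A : Type u) [CommRing A] [Algebra R A] {ι : Type u} [Finite ι]
    (B : ι → Type u) [∀ i, CommRing (B i)] [∀ i, Algebra R (B i)] [∀ i, Algebra.Etale R (B i)]
    (φ : ∀ i, A →ₐ[R] B i) (hinj : ∀ a, (∀ i, φ i a = 0) → a = 0) :
    Module.Finite R (integralClosure R A) := by
  haveI : ∀ i, Module.Finite R (integralClosure R (B i)) := fun i => by
    let E := FractionRing R ⊗[R] B i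
    haveI : Module.Finite R (integralClosure R E) := finite_integralClosure_formallyEtale R E
    haveI : _root_.IsNoetherian R (integralClosure R E) := isNoetherian_of_isNoetherianRing_of_finite R (integralClosure R E)
    let g : B i →ₐ[R] E := Algebra.TensorProduct.includeRight
    have hg : Function.Injective g :=
      Algebra.TensorProduct.includeRight_injective (IsFractionRing.injective R (FractionRing R))
    let ψ : integralClosure R (B i) →ₗ[R] integralClosure R E :=
      { toFun := fun b => ⟨g b.1, b.2.map g⟩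
        map_add' := fun b c => by ext; simp
        map_smul' := fun r b => by ext; simp }
    exact Module.Finite.of_injective ψ fun b c h => Subtype.ext (hg (congrArg Subtype.val h))
  let ψ : integralClosure R A →ₗ[R] Π i, integralClosure R (B i) :=
    { toFun := fun b i => ⟨φ i b.1, b.2.map (φ i)⟩
      map_add' := fun b c => by ext i; simp
      map_smul' := fun r b => by ext i; simp }
  exact Module.Finite.of_injective ψ ((injective_iff_map_eq_zero ψ).2 fun b hb =>
    Subtype.ext (hinj _ fun i => congrArg Subtype.val (congrFun hb i)))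

set_option backward.isDefEq.respectTransparency.types false in
/-- The normalisation of a normal Noetherian scheme in an etale quasi-compact scheme is finite. -/
theorem isFinite_fromNormalization {X S : Scheme.{u}} (f : X ⟶ S) [Etale f] [QuasiCompact f]
    [QuasiSeparated f] [IsLocallyNoetherian S] (hS : Pi1.IsNormalScheme S) :
    IsFinite f.fromNormalization := by
  have hcover : ∀ s : S, ∃ U : S.affineOpens, s ∈ (U : S.Opens) ∧ IsIntegral (U : S.Opens).toScheme := by
    intro s
    haveI := (hS s).1
    obtain ⟨W, hsW, hW, hWi⟩ := H17.exists_isIntegral_nhd s (Or.inl inferInstance)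
    exact ⟨⟨W, hW⟩, hsW, hWi⟩
  choose U hsU hUi using hcover
  rw [IsZariskiLocalAtTarget.iff_of_iSup_eq_top (P := (@IsFinite : MorphismProperty Scheme.{u})) (fun s => (U s : S.Opens))
    (eq_top_iff.2 fun s _ => TopologicalSpace.Opens.mem_iSup.2 ⟨s, hsU s⟩)]
  intro s
  haveI : IsAffine (U s : S.Opens).toScheme := (U s).2
  rw [HasAffineProperty.iff_of_isAffine (P := (@IsFinite : MorphismProperty Scheme.{u}))]
  set V := U s
  haveI := hUi s
  have haff : IsAffine (f.fromNormalization ⁻¹ᵁ V.1).toScheme := V.2.preimage f.fromNormalization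
  refine ⟨haff, ?_⟩
  letI := (f.app V.1).hom.toAlgebra
  haveI : IsDomain Γ(S, V.1) := V.1.topIso.commRingCatIsoToRingEquiv.symm.toMulEquiv.isDomain _
  haveI : IsNoetherianRing Γ(S, V.1) := IsLocallyNoetherian.component_noetherian V
  haveI : IsIntegrallyClosed Γ(S, V.1) :=
    IsIntegrallyClosed.of_localization_maximal fun p _ hp =>
      haveI := hp.isPrime
      (isNormalRing_sections hS V.2 p).2
  obtain ⟨t, htf, ht⟩ := (isCompact_iff_finite_and_eq_biUnion_affineOpens (U := f ⁻¹ᵁ V.1)).1
    (QuasiCompact.isCompact_preimage (f := f) _ V.1.2 V.2.isCompact)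
  haveI : Finite t := htf.to_subtype
  have hle : ∀ W : t, (W.1 : X.Opens) ≤ f ⁻¹ᵁ V.1 := fun W =>
    (le_biSup (fun W : X.affineOpens => (W : X.Opens)) W.2).trans_eq ht.symm
  letI : ∀ W : t, Algebra Γ(S, V.1) Γ(X, W.1.1) := fun W => (f.appLE V.1 W.1.1 (hle W)).hom.toAlgebra
  haveI : ∀ W : t, Algebra.Etale Γ(S, V.1) Γ(X, W.1.1) := fun W => f.etale_appLE V.2 W.1.2 (hle W)
  let φ : ∀ W : t, Γ(X, f ⁻¹ᵁ V.1) →ₐ[Γ(S, V.1)] Γ(X, W.1.1) := fun W =>
    { (X.presheaf.map (homOfLE (hle W)).op).hom with commutes' := fun _ => rfl }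
  have hinj : ∀ a : Γ(X, f ⁻¹ᵁ V.1), (∀ W, φ W a = 0) → a = 0 := fun a ha => by
    refine TopCat.Sheaf.eq_of_locally_eq' X.sheaf (fun W : t => (W.1 : X.Opens)) (f ⁻¹ᵁ V.1)
      (fun W => homOfLE (hle W)) (ht.trans_le (iSup₂_le fun W hW => le_iSup (fun W : t => (W.1 : X.Opens)) ⟨W, hW⟩)) a 0
      fun W => ?_
    exact (ha W).trans (map_zero _).symm
  have hfin : Module.Finite Γ(S, V.1) (integralClosure Γ(S, V.1) Γ(X, f ⁻¹ᵁ V.1)) :=
    finite_integralClosure_of_etale _ _ _ φ hinj
  have h2 : (f.fromNormalization.app V.1).hom.Finite := by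
    rw [f.fromNormalization_app V.2, CommRingCat.hom_comp]
    exact RingHom.Finite.comp (RingHom.Finite.of_surjective _
      (ConcreteCategory.bijective_of_isIso (f.normalizationObjIso V.2).inv).2)
      (RingHom.finite_algebraMap.2 hfin)
  have key : ∀ O : S.Opens, O = V.1 → (f.fromNormalization.app O).hom.Finite := by rintro _ rfl; exact h2
  rw [morphismRestrict_appTop]
  exact RingHom.Finite.comp (RingHom.Finite.of_surjective _
    (ConcreteCategory.bijective_of_isIso (f.normalization.presheaf.map _)).2) (key _ V.1.ι_image_top)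

/-- A separated quasi-compact etale scheme over a dense open of a normal Noetherian scheme has an etale
Neron model. -/
theorem exists_neron {S : Scheme.{u}} [AlgebraicGeometry.IsNoetherian S] (hS : Pi1.IsNormalScheme S)
    (U : S.Opens) (hU : Dense (U : Set S))
    (N₀ : Over (U : Scheme.{u})) [Etale N₀.hom] [IsSeparated N₀.hom] [QuasiCompact N₀.hom] :
    ∃ (N : Over S) (e : (Over.pullback U.ι).obj N ≅ N₀), Etale N.hom ∧ IsSeparated N.hom ∧
      QuasiCompact N.hom ∧
      ∀ Z : Over S, Smooth Z.hom → Function.Bijective (fun g : Z ⟶ N => (Over.pullback U.ι).map g) := by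
  let f : N₀.left ⟶ S := N₀.hom ≫ U.ι
  haveI : Etale f := inferInstanceAs (Etale (N₀.hom ≫ U.ι))
  haveI : IsSeparated f := inferInstanceAs (IsSeparated (N₀.hom ≫ U.ι))
  haveI : QuasiCompact f := inferInstanceAs (QuasiCompact (N₀.hom ≫ U.ι))
  haveI : LocallyQuasiFinite f := ((Groth.Agent.S4997.result f).1 inferInstance).2
  haveI : IsLocallyNoetherian N₀.left := LocallyOfFiniteType.isLocallyNoetherian f
  let π := f.fromNormalization
  haveI : IsFinite π := isFinite_fromNormalization f hS
  haveI : LocallyOfFinitePresentation π := LocallyOfFinitePresentation.iff_locallyOfFiniteType.2 inferInstance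
  haveI : IsLocallyNoetherian f.normalization := LocallyOfFiniteType.isLocallyNoetherian π
  haveI : CompactSpace f.normalization := QuasiCompact.compactSpace_of_compactSpace π
  haveI : AlgebraicGeometry.IsNoetherian f.normalization := {}
  have hT : Pi1.IsNormalScheme f.normalization := (H17.NormalNormalizationScheme.normalization_normal f
    (H18Et.EtaleNormalScheme.isNormalScheme_of_etale f hS)
    (H17.NagataNorm.locallyFinite_irreducibleComponents N₀.left)).1
  let j := f.toNormalization
  have hj : j ≫ π = f := f.toNormalization_fromNormalization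
  let C : Set f.normalization := π ⁻¹' (U : Set S) \ Set.range j
  let Ω : f.normalization.Opens := π.smoothLocus ⊓ ⟨(closure C)ᶜ, isClosed_closure.isOpen_compl⟩
  have hjΩ : Set.range j ⊆ Set.range Ω.ι := by
    rintro _ ⟨x, rfl⟩
    rw [Scheme.Opens.range_ι]
    refine ⟨?_, fun hx => ?_⟩
    · haveI : Smooth (j.opensRange.ι ≫ π) := by
        rw [← Scheme.Hom.isoOpensRange_inv_comp, Category.assoc, hj]
        infer_instance
      exact H17.LocusBC.subset_smoothLocus_of_smooth π j.opensRange ⟨x, rfl⟩
    · obtain ⟨y, hy, hyC⟩ := mem_closure_iff.1 hx _ j.opensRange.2 ⟨x, rfl⟩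
      exact hyC.2 hy
  let N : Over S := Over.mk (Ω.ι ≫ π)
  haveI hsm : Smooth N.hom := by
    show Smooth (Ω.ι ≫ π)
    rw [← Scheme.homOfLE_ι f.normalization (inf_le_left : Ω ≤ π.smoothLocus), Category.assoc]
    haveI := H17.LocusBC.smooth_restrict_smoothLocus π
    infer_instance
  haveI : LocallyQuasiFinite N.hom := inferInstanceAs (LocallyQuasiFinite (Ω.ι ≫ π))
  haveI : IsSeparated N.hom := inferInstanceAs (IsSeparated (Ω.ι ≫ π))
  haveI : QuasiCompact Ω.ι := inferInstance
  haveI : QuasiCompact N.hom := inferInstanceAs (QuasiCompact (Ω.ι ≫ π))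
  haveI : Etale N.hom := (Groth.Agent.S4997.result N.hom).2 ⟨inferInstance, inferInstance⟩
  let j₀ : N₀.left ⟶ Ω.toScheme := IsOpenImmersion.lift Ω.ι j hjΩ
  have hj₀ : j₀ ≫ Ω.ι = j := IsOpenImmersion.lift_fac _ _ _
  haveI : IsOpenImmersion (j₀ ≫ Ω.ι) := by rw [hj₀]; infer_instance
  haveI : IsOpenImmersion j₀ := IsOpenImmersion.of_comp j₀ Ω.ι
  have hrange : Set.range (pullback.fst N.hom U.ι) = Set.range j₀ := by
    rw [IsOpenImmersion.range_pullbackFst]
    ext z
    simp only [Scheme.Opens.opensRange_ι]
    constructor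
    · intro hz
      by_contra hne
      refine z.2.2 (subset_closure ⟨hz, ?_⟩)
      rintro ⟨x, hx⟩
      refine hne ⟨x, Ω.ι.isOpenEmbedding.injective ?_⟩
      rw [← Scheme.Hom.comp_apply, hj₀]
      exact hx
    · rintro ⟨x, rfl⟩
      show N.hom (j₀ x) ∈ U
      rw [← Scheme.Hom.comp_apply, show j₀ ≫ N.hom = N₀.hom ≫ U.ι by
        show j₀ ≫ Ω.ι ≫ π = _
        rw [reassoc_of% hj₀, hj]]
      exact (N₀.hom x).2
  let α := IsOpenImmersion.isoOfRangeEq (pullback.fst N.hom U.ι) j₀ hrange
  let e : (Over.pullback U.ι).obj N ≅ N₀ := Over.isoMk α (by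
    show α.hom ≫ N₀.hom = pullback.snd N.hom U.ι
    have h1 : α.hom ≫ j₀ = pullback.fst N.hom U.ι := IsOpenImmersion.isoOfRangeEq_hom_fac _ _ _
    have h2 : j₀ ≫ N.hom = N₀.hom ≫ U.ι := by
      show j₀ ≫ Ω.ι ≫ π = _
      rw [reassoc_of% hj₀, hj]
    rw [← cancel_mono U.ι, Category.assoc, ← h2, reassoc_of% h1, pullback.condition])
  refine ⟨N, e, inferInstance, inferInstance, inferInstance, fun Z hZs => ?_⟩
  haveI : IsLocallyNoetherian Z.left := LocallyOfFiniteType.isLocallyNoetherian Z.hom
  have hZ := isNormalScheme_of_smooth Z.hom hS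
  haveI : ∀ z : Z.left, IsDomain (Z.left.presheaf.stalk z) := fun z => (hZ z).1
  haveI : IsReduced Z.left := isReduced_of_isReduced_stalk Z.left
  let U' : Z.left.Opens := Z.hom ⁻¹ᵁ U
  have hU' : Dense (U' : Set Z.left) := dense_preimage_of_isOpenMap Z.hom.isOpenMap hU
  haveI := isDominant_opens_of_dense hU'
  let r : U'.toScheme ⟶ pullback Z.hom U.ι := (pullbackRestrictIsoRestrict Z.hom U).inv
  have hr : r ≫ pullback.fst Z.hom U.ι = U'.ι := pullbackRestrictIsoRestrict_inv_fst _ _
  refine ⟨(injective_iff (j := U.ι)).2 fun g g' h => ?_, (surjective_iff (j := U.ι)).2 fun h hh => ?_⟩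
  · refine Over.OverMorphism.ext (ext_of_isDominant_of_isSeparated N.hom
      ((Over.w g).trans (Over.w g').symm) U'.ι ?_)
    rw [← hr, Category.assoc, h, Category.assoc]
  · have hf : (r ≫ h ≫ Ω.ι) ≫ π = U'.ι ≫ Z.hom := by
      calc (r ≫ h ≫ Ω.ι) ≫ π = r ≫ h ≫ N.hom := by simp [N]
        _ = r ≫ pullback.fst Z.hom U.ι ≫ Z.hom := by rw [hh]
        _ = _ := by rw [reassoc_of% hr]
    obtain ⟨g, hg₁, hg₂⟩ := FiniteNormal.exists_extension hZ Z.hom π U' hU' _ hf
    let gs : Z.left ⟶ π.smoothLocus.toScheme := IsOpenImmersion.lift π.smoothLocus.ι g (by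
      rintro _ ⟨z, rfl⟩
      rw [Scheme.Opens.range_ι]
      exact FiniteNormal.mem_smoothLocus_of_hom hZ hT Z.hom π g hg₁ z)
    have hgs : gs ≫ π.smoothLocus.ι = g := IsOpenImmersion.lift_fac _ _ _
    haveI : Etale (π.smoothLocus.ι ≫ π) :=
      (Groth.Agent.S4997.result _).2 ⟨H17.LocusBC.smooth_restrict_smoothLocus π, inferInstance⟩
    haveI : Smooth (gs ≫ π.smoothLocus.ι ≫ π) := by
      rw [reassoc_of% hgs, hg₁]; infer_instance
    haveI : Smooth gs := smooth_of_comp_etale gs (π.smoothLocus.ι ≫ π)
    have hopen : IsOpenMap g := by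
      rw [← hgs]
      exact π.smoothLocus.ι.isOpenEmbedding.isOpenMap.comp gs.isOpenMap
    have hgΩ : Set.range g ⊆ Set.range Ω.ι := by
      rintro _ ⟨z, rfl⟩
      rw [Scheme.Opens.range_ι]
      refine ⟨FiniteNormal.mem_smoothLocus_of_hom hZ hT Z.hom π g hg₁ z, fun hz => ?_⟩
      obtain ⟨_, ⟨z', rfl⟩, hC, hCj⟩ := mem_closure_iff.1 hz _ hopen.isOpen_range ⟨z, rfl⟩
      have hz'U : z' ∈ U' := by
        show Z.hom z' ∈ U
        rw [← hg₁, Scheme.Hom.comp_apply]
        exact hC
      apply hCj
      let y := r ⟨z', hz'U⟩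
      have hy : Ω.ι (h y) = g z' := by
        show (r ≫ h ≫ Ω.ι) ⟨z', hz'U⟩ = _
        rw [← hg₂]
        rfl
      have hNy : N.hom (h y) ∈ U := by
        rw [← Scheme.Hom.comp_apply, hh, pullback.condition]
        exact (pullback.snd Z.hom U.ι y).2
      have : h y ∈ Set.range (pullback.fst N.hom U.ι) := by
        rw [IsOpenImmersion.range_pullbackFst]
        simpa using hNy
      rw [hrange] at this
      obtain ⟨x, hx⟩ := this
      refine ⟨x, ?_⟩
      rw [← hy, ← hx, ← Scheme.Hom.comp_apply, hj₀]
    let g₀ : Z.left ⟶ Ω.toScheme := IsOpenImmersion.lift Ω.ι g hgΩ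
    have hg₀ : g₀ ≫ Ω.ι = g := IsOpenImmersion.lift_fac _ _ _
    refine ⟨Over.homMk g₀ (by show g₀ ≫ Ω.ι ≫ π = _; rw [reassoc_of% hg₀, hg₁]), ?_⟩
    show pullback.fst Z.hom U.ι ≫ g₀ = h
    rw [← cancel_mono Ω.ι, Category.assoc, hg₀, ← cancel_epi r, reassoc_of% hr, hg₂]

/-- A Neron model with etale restriction to the dense open is etale. -/
theorem etale_of_neron {S : Scheme.{u}} [AlgebraicGeometry.IsNoetherian S] (hS : Pi1.IsNormalScheme S)
    (U : S.Opens) (hU : Dense (U : Set S))
    (N : Over S) [Smooth N.hom] [IsSeparated N.hom] [QuasiCompact N.hom]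
    (hN : ∀ Z : Over S, Smooth Z.hom → Function.Bijective (fun g : Z ⟶ N => (Over.pullback U.ι).map g))
    [Etale ((Over.pullback U.ι).obj N).hom] : Etale N.hom := by
  haveI : IsSeparated ((Over.pullback U.ι).obj N).hom :=
    MorphismProperty.of_isPullback (IsPullback.of_hasPullback N.hom U.ι) ‹_›
  haveI : QuasiCompact ((Over.pullback U.ι).obj N).hom :=
    MorphismProperty.of_isPullback (IsPullback.of_hasPullback N.hom U.ι) ‹_›
  obtain ⟨N', e, he, -, -, hN'⟩ := exists_neron hS U hU ((Over.pullback U.ι).obj N)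
  obtain ⟨a, ha⟩ := (hN N' inferInstance).2 e.hom
  obtain ⟨b, hb⟩ := (hN' N inferInstance).2 e.inv
  have hab : b ≫ a = 𝟙 N := (hN N inferInstance).1 (by
    simp only [Functor.map_comp] at ha hb ⊢
    rw [ha, hb, Iso.inv_hom_id]
    exact ((Over.pullback U.ι).map_id N).symm)
  have hba : a ≫ b = 𝟙 N' := (hN' N' inferInstance).1 (by
    simp only [Functor.map_comp] at ha hb ⊢
    rw [ha, hb, Iso.hom_inv_id]
    exact ((Over.pullback U.ι).map_id N').symm)
  let i : N ≅ N' := ⟨b, a, hab, hba⟩
  haveI : IsIso b.left := inferInstanceAs (IsIso ((Over.forget S).mapIso i).hom)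
  rw [← Over.w b]
  infer_instance

/-- A morphism of separated etale schemes which is an isomorphism over a dense open is an open
immersion. -/
theorem isOpenImmersion_of_isIso_restrict {S : Scheme.{u}} (U : S.Opens) (hU : Dense (U : Set S))
    {M N : Over S} [Etale M.hom] [IsSeparated M.hom] [Etale N.hom]
    (φ : M ⟶ N) [IsIso ((Over.pullback U.ι).map φ)] : IsOpenImmersion φ.left := by
  haveI : Etale (φ.left ≫ N.hom) := by rw [Over.w φ]; infer_instance
  haveI : Etale φ.left := Etale.of_comp φ.left N.hom
  haveI : IsSeparated (φ.left ≫ N.hom) := by rw [Over.w φ]; infer_instance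
  haveI : IsSeparated φ.left := IsSeparated.of_comp φ.left N.hom
  let d := pullback.diagonal φ.left
  let q := pullback.fst φ.left φ.left ≫ M.hom
  haveI : Etale q := inferInstanceAs (Etale (pullback.fst φ.left φ.left ≫ M.hom))
  let Q := q ⁻¹ᵁ U
  have hdense : Dense (Q : Set (pullback φ.left φ.left : Scheme)) :=
    dense_preimage_of_isOpenMap q.isOpenMap hU
  have hsnd : pullback.snd φ.left φ.left ≫ M.hom = q := by
    rw [← Over.w φ, ← pullback.condition_assoc, Over.w φ]
  have heq : Q.ι ≫ pullback.fst φ.left φ.left = Q.ι ≫ pullback.snd φ.left φ.left := by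
    let a : Q.toScheme ⟶ pullback M.hom U.ι := pullback.lift (Q.ι ≫ pullback.fst φ.left φ.left) (q ∣_ U)
      (by rw [morphismRestrict_ι, Category.assoc])
    let b : Q.toScheme ⟶ pullback M.hom U.ι := pullback.lift (Q.ι ≫ pullback.snd φ.left φ.left) (q ∣_ U)
      (by rw [morphismRestrict_ι, Category.assoc, hsnd])
    haveI : IsIso ((Over.pullback U.ι).map φ).left :=
      inferInstanceAs (IsIso ((Over.forget _).map ((Over.pullback U.ι).map φ)))
    have : a = b := by
      rw [← cancel_mono ((Over.pullback U.ι).map φ).left]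
      refine pullback.hom_ext ?_ ?_
      · have h1 : ((Over.pullback U.ι).map φ).left ≫ pullback.fst N.hom U.ι =
            pullback.fst M.hom U.ι ≫ φ.left := pullback.lift_fst _ _ _
        rw [Category.assoc, Category.assoc]
        erw [h1]
        rw [← Category.assoc, ← Category.assoc]
        erw [pullback.lift_fst, pullback.lift_fst]
        rw [Category.assoc, Category.assoc, pullback.condition]
      · have h1 : ((Over.pullback U.ι).map φ).left ≫ pullback.snd N.hom U.ι =
            pullback.snd M.hom U.ι := Over.w ((Over.pullback U.ι).map φ)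
        rw [Category.assoc, Category.assoc]
        erw [h1]
        erw [pullback.lift_snd, pullback.lift_snd]
    have h := congrArg (· ≫ pullback.fst M.hom U.ι) this
    exact (pullback.lift_fst _ _ _).symm.trans (h.trans (pullback.lift_fst _ _ _))
  have hQd : (Q : Set (pullback φ.left φ.left : Scheme)) ⊆ Set.range d := fun z hz => by
    have : Q.ι = (Q.ι ≫ pullback.fst φ.left φ.left) ≫ d := by
      refine pullback.hom_ext ?_ ?_
      · exact (Eq.trans (Category.assoc _ _ _) ((congrArg (_ ≫ ·) (pullback.diagonal_fst φ.left)).trans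
          (Category.comp_id _))).symm
      · exact heq.symm.trans (Eq.trans (Category.assoc _ _ _) ((congrArg (_ ≫ ·) (pullback.diagonal_snd φ.left)).trans
          (Category.comp_id _))).symm
    exact ⟨_, (Scheme.Hom.comp_apply _ _ _).symm.trans (congrArg (fun m => m ⟨z, hz⟩) this.symm)⟩
  haveI : Surjective d := ⟨fun z => by
    have : (Set.range d) = Set.univ := Set.univ_subset_iff.1
      (hdense.closure_eq ▸ closure_minimal hQd d.isClosedEmbedding.isClosed_range)
    exact (this ▸ Set.mem_univ z : z ∈ Set.range d)⟩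
  haveI : IsOpenImmersion d := inferInstance
  haveI : IsIso d := (isIso_iff_isOpenImmersion_and_epi_base d).2
    ⟨inferInstance, (TopCat.epi_iff_surjective _).2 d.surjective⟩
  haveI : Mono φ.left := ⟨fun a b hab => by
    let l := pullback.lift a b hab
    have hl : l = (l ≫ inv d) ≫ d := by simp
    have h1 : a = l ≫ inv d := by
      calc a = l ≫ pullback.fst φ.left φ.left := (pullback.lift_fst _ _ _).symm
        _ = (l ≫ inv d) ≫ d ≫ pullback.fst φ.left φ.left := by rw [← Category.assoc _ d, ← hl]
        _ = l ≫ inv d := (congrArg (_ ≫ ·) (pullback.diagonal_fst φ.left)).trans (Category.comp_id _)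
    have h2 : b = l ≫ inv d := by
      calc b = l ≫ pullback.snd φ.left φ.left := (pullback.lift_snd _ _ _).symm
        _ = (l ≫ inv d) ≫ d ≫ pullback.snd φ.left φ.left := by rw [← Category.assoc _ d, ← hl]
        _ = l ≫ inv d := (congrArg (_ ≫ ·) (pullback.diagonal_snd φ.left)).trans (Category.comp_id _)
    rw [h1, h2]⟩
  exact IsOpenImmersion.of_flat_of_mono φ.left

end Groth.Agent.H28Neron.EtaleNeronOpen
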