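import Groth.Prelude.Def_AlgGrp
import Groth.Agent.H28Neron.Torsor
import Groth.Agent.H7Lim.DescendUnramified
import Mathlib.AlgebraicGeometry.Morphisms.FlatDescent
import Mathlib.AlgebraicGeometry.Morphisms.LocalFlatDescent

/-!
# The mapping property for extensions of group schemes
-/

set_option autoImplicit false
set_option linter.style.haveILetI false
universe u
open CategoryTheory MonoidalCategory CartesianMonoidalCategory MonObj AlgebraicGeometry

namespace Groth.Agent.H28Neron.Extension

open Groth.Agent.H28Neron.Torsor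

variable {S : Scheme.{u}} {G' G G'' : Over S} [GrpObj G'] [GrpObj G] [GrpObj G'']
  {i : G' ⟶ G} {q : G ⟶ G''} [IsMonHom i] [IsMonHom q]

omit [GrpObj G'] [GrpObj G] [IsMonHom i] [IsMonHom q] in
lemma mono_of_isKernel (hker : AlgGrp.IsKernel i q) : Mono i := by
  constructor
  intro T a b h
  exact hker.hom_ext h (toUnit_unique _ _)

omit [GrpObj G'] [GrpObj G] [IsMonHom i] [IsMonHom q] in
lemma exists_factor (hker : AlgGrp.IsKernel i q) {T : Over S} (x : T ⟶ G) (hx : x ≫ q = 1) :
    ∃ t : T ⟶ G', t ≫ i = x :=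
  ⟨hker.lift x (toUnit T) (by rw [hx, Hom.one_def]), hker.lift_fst _ _ _⟩

include i in
set_option backward.isDefEq.respectTransparency false in
/-- The quotient map of an extension of smooth groups is smooth. -/
lemma smooth_quotient (hker : AlgGrp.IsKernel i q) [Smooth G'.hom] [Smooth G.hom] [Smooth G''.hom]
    [Flat q.left] [Surjective q.left] : Smooth q.left := by
  haveI := mono_of_isKernel hker
  haveI : LocallyOfFinitePresentation (q.left ≫ G''.hom) := by rw [Over.w q]; infer_instance
  haveI : LocallyOfFinitePresentation q.left := H7Lim.locallyOfFinitePresentation_of_comp q.left G''.hom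
  let P : Over S := Over.mk (Limits.pullback.fst q.left q.left ≫ G.hom)
  let p₁ : P ⟶ G := Over.homMk (Limits.pullback.fst q.left q.left) rfl
  let p₂ : P ⟶ G := Over.homMk (Limits.pullback.snd q.left q.left) (by
    show _ ≫ G.hom = Limits.pullback.fst q.left q.left ≫ G.hom
    rw [← Over.w q, Limits.pullback.condition_assoc])
  have hp : p₁ ≫ q = p₂ ≫ q := Over.OverMorphism.ext Limits.pullback.condition
  obtain ⟨t, ht⟩ := exists_factor hker (p₁ * p₂⁻¹) (by rw [mul_comp, GrpObj.inv_comp, hp, mul_inv_cancel])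
  let x : G' ⊗ G ⟶ G := (fst G' G ≫ i) * snd G' G
  let y : G' ⊗ G ⟶ G := snd G' G
  have hxy : x ≫ q = y ≫ q := by
    have : i ≫ q = toUnit G' ≫ η[G''] := hker.w
    simp only [x, y, mul_comp, Category.assoc, this, ← Hom.one_def, comp_one, _root_.one_mul]
  let ψ : G' ⊗ G ⟶ P := Over.homMk (Limits.pullback.lift x.left y.left (congrArg (fun m => m.left) hxy))
    ((Limits.pullback.lift_fst_assoc _ _ _ _).trans (Over.w x))
  have hψ₁ : ψ ≫ p₁ = x := Over.OverMorphism.ext (Limits.pullback.lift_fst _ _ _)
  have hψ₂ : ψ ≫ p₂ = y := Over.OverMorphism.ext (Limits.pullback.lift_snd _ _ _)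
  have hext : ∀ {T : Over S} (a b : T ⟶ P), a ≫ p₁ = b ≫ p₁ → a ≫ p₂ = b ≫ p₂ → a = b := fun a b h h' =>
    Over.OverMorphism.ext (Limits.pullback.hom_ext (congrArg (fun m => m.left) h) (congrArg (fun m => m.left) h'))
  let e : P ≅ G' ⊗ G :=
    { hom := lift t p₂
      inv := ψ
      hom_inv_id := hext _ _
        (by simp only [Category.assoc, hψ₁, x, comp_mul, lift_fst_assoc, lift_snd, ht,
          inv_mul_cancel_right, Category.id_comp])
        (by simp only [Category.assoc, hψ₂, y, lift_snd, Category.id_comp])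
      inv_hom_id := by
        apply CartesianMonoidalCategory.hom_ext
        · rw [Category.assoc, lift_fst, ← cancel_mono i, Category.assoc, ht, comp_mul, GrpObj.comp_inv,
            hψ₁, hψ₂, Category.id_comp]
          simp only [x, y, mul_inv_cancel_right]
        · rw [Category.assoc, lift_snd, hψ₂, Category.id_comp] }
  haveI : IsIso e.hom.left := ((Over.forget S).mapIso e).isIso_hom
  have hsnd : Smooth (Limits.pullback.snd q.left q.left) := by
    have : e.hom ≫ snd G' G = p₂ := lift_snd _ _
    have h1 : e.hom.left ≫ (snd G' G).left = Limits.pullback.snd q.left q.left :=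
      congrArg (fun m => m.left) this
    rw [← h1]
    haveI : Smooth (snd G' G).left := inferInstanceAs (Smooth (Limits.pullback.snd G'.hom G.hom))
    infer_instance
  exact MorphismProperty.of_pullback_snd_of_descendsAlong (P := @Smooth)
    (Q := @Surjective ⊓ @Flat ⊓ @LocallyOfFinitePresentation) ⟨⟨‹_›, ‹_›⟩, ‹_›⟩ hsnd

variable {S₀ : Scheme.{u}} (j : S₀ ⟶ S) [Mono j]

include i in
/-- An extension of groups with the mapping property has the mapping property. -/
theorem bijective_of_extension (hker : AlgGrp.IsKernel i q) [Smooth q.left] [Surjective q.left]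
    (h' : ∀ Y : Over S, Smooth Y.hom → Function.Bijective (fun g : Y ⟶ G' => (Over.pullback j).map g))
    (h'' : ∀ Y : Over S, Smooth Y.hom → Function.Bijective (fun g : Y ⟶ G'' => (Over.pullback j).map g)) :
    ∀ Y : Over S, Smooth Y.hom → Function.Bijective (fun g : Y ⟶ G => (Over.pullback j).map g) := by
  haveI := mono_of_isKernel hker
  have hinj : ∀ Y : Over S, Smooth Y.hom → ∀ g g' : Y ⟶ G, jm j Y ≫ g = jm j Y ≫ g' → g = g' := by
    intro Y hY g g' e
    have h1 : (g * g'⁻¹) ≫ q = 1 := jm_inj j (h'' Y hY).1 (by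
      rw [← Category.assoc, comp_mul, GrpObj.comp_inv, e, mul_inv_cancel, one_comp, comp_one])
    obtain ⟨t, ht⟩ := exists_factor hker _ h1
    have h2 : t = 1 := jm_inj j (h' Y hY).1 (by
      rw [← cancel_mono i, Category.assoc, ht, comp_mul, GrpObj.comp_inv, e, mul_inv_cancel, comp_one,
        one_comp])
    rw [h2, one_comp] at ht
    exact mul_inv_eq_one.mp ht.symm
  intro Y hY
  refine bijective_of_jm j (hinj Y hY) fun u => ?_
  obtain ⟨v, hv⟩ := jm_surj j (h'' Y hY).2 (u ≫ q)
  let Y' : Over S := Over.mk (Limits.pullback.fst v.left q.left ≫ Y.hom)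
  let π : Y' ⟶ Y := Over.homMk (Limits.pullback.fst v.left q.left) rfl
  let w : Y' ⟶ G := Over.homMk (Limits.pullback.snd v.left q.left) (by
    show _ ≫ G.hom = Limits.pullback.fst v.left q.left ≫ Y.hom
    rw [← Over.w q, ← Over.w v, Limits.pullback.condition_assoc])
  have hw : w ≫ q = π ≫ v := Over.OverMorphism.ext Limits.pullback.condition.symm
  haveI := hY
  haveI : Smooth π.left := inferInstanceAs (Smooth (Limits.pullback.fst v.left q.left))
  haveI : Surjective π.left := inferInstanceAs (Surjective (Limits.pullback.fst v.left q.left))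
  haveI hY' : Smooth Y'.hom := inferInstanceAs (Smooth (Limits.pullback.fst v.left q.left ≫ Y.hom))
  obtain ⟨t₀, ht₀⟩ := exists_factor hker ((Jmap j π ≫ u) * (jm j Y' ≫ w)⁻¹) (by
    rw [mul_comp, GrpObj.inv_comp, Category.assoc, Category.assoc, hw, ← hv, Jmap_jm_assoc, mul_inv_cancel])
  obtain ⟨t, ht⟩ := jm_surj j (h' Y' hY').2 t₀
  refine descend j π hinj ((t ≫ i) * w) u ?_
  rw [comp_mul, ← Category.assoc, ht, ht₀, inv_mul_cancel_right]

end Groth.Agent.H28Neron.Extension
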