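import Groth.Agent.H28Neron.Hartogs
import Mathlib.AlgebraicGeometry.Sites.Fpqc
import Mathlib.AlgebraicGeometry.Morphisms.UniversallyOpen
import Mathlib.AlgebraicGeometry.Fiber
import Mathlib.AlgebraicGeometry.Pullbacks
import Mathlib.CategoryTheory.Monoidal.Cartesian.Over
import Mathlib.CategoryTheory.Monoidal.Cartesian.Grp

/-!
# Weil's extension theorem for rational maps into group schemes
-/

set_option autoImplicit false
universe u
open CategoryTheory CategoryTheory.Limits AlgebraicGeometry TopologicalSpace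
open MonoidalCategory CartesianMonoidalCategory MonObj GrpObj

namespace Groth.Agent.H28Neron

theorem dense_preimage_of_isOpenMap {α β : Type*} [TopologicalSpace α] [TopologicalSpace β]
    {p : α → β} (hp : IsOpenMap p) {U : Set β} (hU : Dense U) : Dense (p ⁻¹' U) :=
  dense_iff_inter_open.mpr fun O hO ⟨y, hy⟩ => by
    obtain ⟨_, ⟨w, hw, rfl⟩, hwU⟩ := hU.inter_open_nonempty _ (hp O hO) ⟨p y, y, hy, rfl⟩
    exact ⟨w, hw, hwU⟩

theorem isDominant_opens_of_dense {X : Scheme.{u}} {U : X.Opens} (hU : Dense (U : Set X)) :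
    IsDominant U.ι :=
  ⟨by rw [DenseRange, Scheme.Opens.range_ι]; exact hU⟩

theorem dense_of_fibrewise {X S : Scheme.{u}} (pX : X ⟶ S) (U : X.Opens)
    (hdense : ∀ x : X, x ∈ closure ((U : Set X) ∩ {y | pX y = pX x})) : Dense (U : Set X) :=
  fun x => closure_mono Set.inter_subset_left (hdense x)

section

variable {R : Type u} [CommRing R] [IsRegularRing R] {X : Scheme.{u}}
  (pX : X ⟶ Spec (CommRingCat.of R)) [Smooth pX]

theorem smooth_fst : Smooth (pullback.fst pX pX) :=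
  MorphismProperty.of_isPullback (IsPullback.of_hasPullback pX pX).flip ‹_›

theorem smooth_snd : Smooth (pullback.snd pX pX) :=
  MorphismProperty.of_isPullback (IsPullback.of_hasPullback pX pX) ‹_›

/-- An open of `X ×_S X` around a diagonal point meets the fibre of the first projection over it in a
point whose second projection lies in a given fibrewise dense open. -/
theorem exists_fibre_point (U : X.Opens)
    (hdense : ∀ x : X, x ∈ closure ((U : Set X) ∩ {y | pX y = pX x}))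
    (D : (pullback pX pX).Opens) (x : X)
    (hx : pullback.lift (𝟙 X) (𝟙 X) rfl x ∈ D) :
    ∃ w ∈ D, pullback.fst pX pX w = x ∧ pullback.snd pX pX w ∈ U := by
  let g : Spec (X.residueField x) ⟶ Spec (CommRingCat.of R) := X.fromSpecResidueField x ≫ pX
  let j : pullback pX g ⟶ pullback pX pX :=
    pullback.lift (pullback.snd _ _ ≫ X.fromSpecResidueField x) (pullback.fst _ _) (by
      rw [Category.assoc]; exact (pullback.condition (f := pX) (g := g)).symm)
  let s := pX x
  let h : Spec (X.residueField x) ⟶ Spec ((Spec (CommRingCat.of R)).residueField s) :=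
    Spec.map (pX.residueFieldMap x)
  have hg : h ≫ Scheme.fromSpecResidueField _ s = g := Scheme.Hom.SpecMap_residueFieldMap_fromSpecResidueField pX x
  let r := Scheme.fromSpecResidueField (Spec (CommRingCat.of R)) s
  let q : pullback pX g ⟶ pullback pX r :=
    pullback.lift (pullback.fst _ _) (pullback.snd _ _ ≫ h) (by
      rw [Category.assoc, hg]; exact pullback.condition)
  have hq1 : q ≫ pullback.fst pX r = pullback.fst pX g := pullback.lift_fst _ _ _
  have hq2 : q ≫ pullback.snd pX r = pullback.snd pX g ≫ h := pullback.lift_snd _ _ _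
  have hq : IsPullback q (pullback.snd pX g) (pullback.snd pX r) h := by
    refine IsPullback.of_right ?_ hq2 (IsPullback.of_hasPullback pX r)
    rw [hq1, hg]
    exact IsPullback.of_hasPullback pX g
  have : UniversallyOpen h := inferInstance
  have : UniversallyOpen q := MorphismProperty.of_isPullback hq.flip ‹_›
  have hjfst : ∀ w, pullback.fst pX pX (j w) = x := fun w => by
    rw [← Scheme.Hom.comp_apply, pullback.lift_fst, Scheme.Hom.comp_apply]
    exact Scheme.fromSpecResidueField_apply _ _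
  have hjsnd : ∀ w, pullback.snd pX pX (j w) = pX.fiberι s (q w) := fun w => by
    rw [← Scheme.Hom.comp_apply, pullback.lift_snd]
    show _ = (pullback.fst pX r) (q w)
    rw [← Scheme.Hom.comp_apply, hq1]
  let c : Spec (X.residueField x) ⟶ pullback pX g :=
    pullback.lift (X.fromSpecResidueField x) (𝟙 _) (by simp [g])
  have hc : ∀ t, j (c t) = pullback.lift (𝟙 X) (𝟙 X) rfl x := fun t => by
    rw [← Scheme.Hom.comp_apply,
      show c ≫ j = X.fromSpecResidueField x ≫ pullback.lift (𝟙 X) (𝟙 X) rfl from ?_,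
      Scheme.Hom.comp_apply, Scheme.fromSpecResidueField_apply]
    apply pullback.hom_ext
    · simp only [c, j, Category.assoc, pullback.lift_fst, Category.comp_id]
      rw [pullback.lift_snd_assoc, Category.id_comp]
    · simp only [c, j, Category.assoc, pullback.lift_snd, Category.comp_id]
      rw [pullback.lift_fst]
  have hopen : IsOpen (q '' (j ⁻¹' (D : Set (pullback pX pX : Scheme)))) :=
    q.isOpenMap _ (D.2.preimage j.continuous)
  obtain ⟨t⟩ : Nonempty (Spec (X.residueField x)) := inferInstance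
  let O := (pX.fiberHomeo s) '' (q '' (j ⁻¹' (D : Set (pullback pX pX : Scheme))))
  have hO : IsOpen O := (pX.fiberHomeo s).isOpenMap _ hopen
  obtain ⟨O', hO', hO'eq⟩ := isOpen_induced_iff.mp hO
  have hxO : (⟨x, rfl⟩ : pX ⁻¹' {s}) ∈ O := by
    refine ⟨q (c t), ⟨c t, ?_, rfl⟩, Subtype.ext ?_⟩
    · show j (c t) ∈ D; rw [hc]; exact hx
    · show pX.fiberι s (q (c t)) = x
      rw [← hjsnd, hc, ← Scheme.Hom.comp_apply, pullback.lift_snd]
      rfl
  rw [← hO'eq] at hxO
  obtain ⟨y, hyO, hyU, hys⟩ := mem_closure_iff.mp (hdense x) O' hO' hxO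
  have hy : (⟨y, hys⟩ : pX ⁻¹' {s}) ∈ O := hO'eq ▸ hyO
  obtain ⟨_, ⟨w, hw, rfl⟩, hwy⟩ := hy
  refine ⟨j w, hw, hjfst w, ?_⟩
  rw [hjsnd]
  have h2 : pX.fiberι s (q w) = y := congrArg Subtype.val hwy
  rw [h2]; exact hyU

variable {G : Scheme.{u}} (pG : G ⟶ Spec (CommRingCat.of R)) [GrpObj (Over.mk pG)] [IsSeparated pG]
  [LocallyOfFiniteType pG] (U : X.Opens) (f : U.toScheme ⟶ G)

/-- The open `U ×_S U` of `X ×_S X`. -/
noncomputable abbrev UU : (pullback pX pX).Opens :=
  pullback.fst pX pX ⁻¹ᵁ U ⊓ pullback.snd pX pX ⁻¹ᵁ U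

/-- The first projection `U ×_S U ⟶ U`, over the base. -/
noncomputable def pr1 : Over.mk ((UU pX U).ι ≫ pullback.fst pX pX ≫ pX) ⟶ Over.mk (U.ι ≫ pX) :=
  Over.homMk ((pullback.fst pX pX).resLE U (UU pX U) inf_le_left) (by
    show (pullback.fst pX pX).resLE U (UU pX U) _ ≫ U.ι ≫ pX = (UU pX U).ι ≫ pullback.fst pX pX ≫ pX
    rw [← Category.assoc, Scheme.Hom.resLE_comp_ι, Category.assoc])

/-- The second projection `U ×_S U ⟶ U`, over the base. -/
noncomputable def pr2 : Over.mk ((UU pX U).ι ≫ pullback.fst pX pX ≫ pX) ⟶ Over.mk (U.ι ≫ pX) :=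
  Over.homMk ((pullback.snd pX pX).resLE U (UU pX U) inf_le_right) (by
    show (pullback.snd pX pX).resLE U (UU pX U) _ ≫ U.ι ≫ pX = (UU pX U).ι ≫ pullback.fst pX pX ≫ pX
    rw [← Category.assoc, Scheme.Hom.resLE_comp_ι, Category.assoc]
    rw [pullback.condition])

/-- A morphism on `U` over the base. -/
noncomputable def overHom (hf : f ≫ pG = U.ι ≫ pX) : Over.mk (U.ι ≫ pX) ⟶ Over.mk pG :=
  Over.homMk (U := Over.mk (U.ι ≫ pX)) (V := Over.mk pG) f hf

/-- The difference map `(x, y) ↦ f x / f y`. -/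
noncomputable def diff (hf : f ≫ pG = U.ι ≫ pX) :
    Over.mk ((UU pX U).ι ≫ pullback.fst pX pX ≫ pX) ⟶ Over.mk pG :=
  (pr1 pX U ≫ overHom pX pG U f hf) * (pr2 pX U ≫ overHom pX pG U f hf)⁻¹

theorem exists_diag_extension (hdense : Dense (U : Set X))
    (hcodim : ∀ x : X, x ∉ U → (2 : WithBot ℕ∞) ≤ ringKrullDim (X.presheaf.stalk x))
    (hf : f ≫ pG = U.ι ≫ pX) :
    ∃ (D : (pullback pX pX).Opens) (hD : UU pX U ≤ D) (F : D.toScheme ⟶ G),
      F ≫ pG = D.ι ≫ pullback.fst pX pX ≫ pX ∧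
      (pullback pX pX).homOfLE hD ≫ F = (diff pX pG U f hf).left ∧
      ∀ x : X, pullback.lift (𝟙 X) (𝟙 X) rfl x ∈ D := by
  let p1 := pullback.fst pX pX
  let p2 := pullback.snd pX pX
  have hp1 : Smooth p1 := smooth_fst pX
  have hp2 : Smooth p2 := smooth_snd pX
  have hsZ : Smooth (p1 ≫ pX) := inferInstance
  have : IsLocallyNoetherian (pullback pX pX) := LocallyOfFiniteType.isLocallyNoetherian (p1 ≫ pX)
  have : IsLocallyNoetherian X := LocallyOfFiniteType.isLocallyNoetherian pX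
  have := isReduced_of_smooth (p1 ≫ pX)
  have hUUd : Dense (UU pX U : Set (pullback pX pX : Scheme)) :=
    (dense_preimage_of_isOpenMap p1.isOpenMap hdense).inter_of_isOpen_left
      (dense_preimage_of_isOpenMap p2.isOpenMap hdense) (p1 ⁻¹ᵁ U).2
  obtain ⟨D, hD, F, hF, hres, hmax⟩ :=
    exists_maximal_extension (p1 ≫ pX) pG (UU pX U) hUUd (diff pX pG U f hf).left
      (Over.w (diff pX pG U f hf))
  refine ⟨D, hD, F, hF, hres, fun x => ?_⟩
  let δ : X ⟶ pullback pX pX := pullback.lift (𝟙 X) (𝟙 X) rfl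
  let z := δ x
  have := isRegularLocalRing_stalk_of_smooth (p1 ≫ pX) z
  have := H4Depth.isDomain_of_isRegularLocalRing ((pullback pX pX).presheaf.stalk z)
  have := H28Alg.ufd_of_regular ((pullback pX pX).presheaf.stalk z)
  have := isRegularLocalRing_stalk_of_smooth pX x
  have := H4Depth.isDomain_of_isRegularLocalRing (X.presheaf.stalk x)
  let e : Spec (CommRingCat.of R) ⟶ G := η[Over.mk pG].left
  obtain ⟨_, ⟨(V : G.Opens), (hV : IsAffineOpen V), rfl⟩, hsV, -⟩ :=
    G.isBasis_affineOpens.exists_subset_of_mem_open (Set.mem_univ (e (pX x))) isOpen_univ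
  -- the diagonal lands in the locus where the difference map is near the identity
  have hdiag : ∀ y : X, y ∈ U → y ⤳ x →
      δ y ∈ (UU pX U).ι ''ᵁ ((diff pX pG U f hf).left ⁻¹ᵁ V) := by
    intro y hyU hyx
    let iL : U.toScheme ⟶ (UU pX U).toScheme :=
      IsOpenImmersion.lift (UU pX U).ι (U.ι ≫ δ) (by
        rintro _ ⟨v, rfl⟩
        rw [Scheme.Opens.range_ι]
        refine ⟨?_, ?_⟩
        · show p1 ((U.ι ≫ δ) v) ∈ U
          rw [← Scheme.Hom.comp_apply, Category.assoc, pullback.lift_fst, Category.comp_id]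
          exact v.2
        · show p2 ((U.ι ≫ δ) v) ∈ U
          rw [← Scheme.Hom.comp_apply, Category.assoc, pullback.lift_snd, Category.comp_id]
          exact v.2)
    have hiL : iL ≫ (UU pX U).ι = U.ι ≫ δ := IsOpenImmersion.lift_fac _ _ _
    let i : Over.mk (U.ι ≫ pX) ⟶ Over.mk ((UU pX U).ι ≫ p1 ≫ pX) :=
      Over.homMk iL (by
        show iL ≫ (UU pX U).ι ≫ p1 ≫ pX = U.ι ≫ pX
        rw [reassoc_of% hiL, pullback.lift_fst_assoc, Category.id_comp])
    have hi1 : i ≫ pr1 pX U = 𝟙 _ := by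
      ext1
      show iL ≫ p1.resLE U (UU pX U) _ = 𝟙 U.toScheme
      rw [← cancel_mono U.ι, Category.assoc, Scheme.Hom.resLE_comp_ι, reassoc_of% hiL,
        pullback.lift_fst, Category.comp_id, Category.id_comp]
    have hi2 : i ≫ pr2 pX U = 𝟙 _ := by
      ext1
      show iL ≫ p2.resLE U (UU pX U) _ = 𝟙 U.toScheme
      rw [← cancel_mono U.ι, Category.assoc, Scheme.Hom.resLE_comp_ι, reassoc_of% hiL,
        pullback.lift_snd, Category.comp_id, Category.id_comp]
    have hiF : i ≫ diff pX pG U f hf = 1 := by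
      rw [diff, MonObj.comp_mul, GrpObj.comp_inv, reassoc_of% hi1, reassoc_of% hi2, mul_inv_cancel]
    let yU : U.toScheme := ⟨y, hyU⟩
    refine ⟨iL yU, ?_, ?_⟩
    · show (diff pX pG U f hf).left (iL yU) ∈ V
      have hto : (toUnit (Over.mk (U.ι ≫ pX))).left = U.ι ≫ pX := by
        have := Over.w (toUnit (Over.mk (U.ι ≫ pX)))
        simpa using this
      have h1 : iL ≫ (diff pX pG U f hf).left = (U.ι ≫ pX) ≫ e := by
        show (i ≫ diff pX pG U f hf).left = _
        rw [hiF, Hom.one_def, Over.comp_left, hto]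
      rw [show (diff pX pG U f hf).left (iL yU) = ((U.ι ≫ pX) ≫ e) yU by rw [← h1]; rfl]
      exact ((hyx.map pX.continuous).map e.continuous).mem_open V.2 hsV
    · show (iL ≫ (UU pX U).ι) yU = δ y
      rw [hiL]
      rfl
  obtain ⟨W, g, hxW, hg1, hg2⟩ := exists_nhd_of_regular (p1 ≫ pX) pG (UU pX U) (diff pX pG U f hf).left
    (Over.w (diff pX pG U f hf)) z V hV (by
      have h1 := hdiag (genPoint X x) (genPoint_mem_of_dense x hdense) (genPoint_specializes x)
      exact (genPoint_specializes_of_mem_range z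
        ((genPoint_specializes x).map δ.continuous)).mem_open (Opens.isOpen _) h1)
    (fun d hd => by
      let π := (δ.stalkMap x).hom
      have hπd : π d ∈ IsLocalRing.maximalIdeal (X.presheaf.stalk x) := fun h => hd (IsUnit.of_map π d h)
      obtain ⟨p, hp, -⟩ := Ideal.exists_minimalPrimes_le ((Ideal.span_singleton_le_iff_mem _).2 hπd)
      have hh : p.height ≤ 1 :=
        @Ideal.height_le_one_of_isPrincipal_of_mem_minimalPrimes _ _ _ (Ideal.span {π d}) _ p hp
      let q : Spec (X.presheaf.stalk x) := ⟨p, hp.1.1⟩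
      let x₁ := X.fromSpecStalk x q
      have hx₁x : x₁ ⤳ x := by
        have : x₁ ∈ Set.range (X.fromSpecStalk x) := ⟨q, rfl⟩
        rwa [Scheme.range_fromSpecStalk] at this
      have hx₁U : x₁ ∈ U := by
        by_contra hn
        have h2 := hcodim x₁ hn
        rw [ringKrullDim_stalk_fromSpecStalk x q] at h2
        have : (2 : ℕ∞) ≤ p.height := WithBot.coe_le_coe.mp h2
        exact absurd (this.trans hh) (by decide)
      refine ⟨Spec.map (δ.stalkMap x) q, hp.1.2 (Ideal.mem_span_singleton_self _), ?_⟩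
      rw [← Scheme.Hom.comp_apply, Scheme.SpecMap_stalkMap_fromSpecStalk, Scheme.Hom.comp_apply]
      exact hdiag x₁ hx₁U hx₁x)
  exact hmax W g hg1 hg2 hxW

theorem exists_local_extension
    (hdense : ∀ x : X, x ∈ closure ((U : Set X) ∩ {y | pX y = pX x}))
    (hcodim : ∀ x : X, x ∉ U → (2 : WithBot ℕ∞) ≤ ringKrullDim (X.presheaf.stalk x))
    (hf : f ≫ pG = U.ι ≫ pX) (x : X) :
    ∃ (W : X.Opens) (g : W.toScheme ⟶ G), x ∈ W ∧ g ≫ pG = W.ι ≫ pX ∧
      X.homOfLE (inf_le_left : U ⊓ W ≤ U) ≫ f = X.homOfLE inf_le_right ≫ g := by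
  let p1 := pullback.fst pX pX
  let p2 := pullback.snd pX pX
  have hp1 : Smooth p1 := smooth_fst pX
  have hUd := dense_of_fibrewise pX U hdense
  obtain ⟨D, hD, F, hF, hres, hdiag⟩ := exists_diag_extension pX pG U f hUd hcodim hf
  let Q0 : (pullback pX pX).Opens := D ⊓ p2 ⁻¹ᵁ U
  let q : Q0.toScheme ⟶ X := Q0.ι ≫ p1
  have hq : Smooth q := inferInstance
  let W : X.Opens := ⟨Set.range q, q.isOpenMap.isOpen_range⟩
  obtain ⟨w, hwD, hw1, hw2⟩ := exists_fibre_point pX U hdense D x (hdiag x)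
  let w0 : Q0.toScheme := ⟨w, hwD, hw2⟩
  have hxW : x ∈ W := ⟨w0, (Scheme.Hom.comp_apply _ _ _).trans hw1⟩
  let q' : Q0.toScheme ⟶ W.toScheme :=
    IsOpenImmersion.lift W.ι q (by rw [Scheme.Opens.range_ι]; rfl)
  have hq' : q' ≫ W.ι = q := IsOpenImmersion.lift_fac _ _ _
  have : Smooth q' := MorphismProperty.of_postcomp @Smooth (W' := @IsOpenImmersion) q' W.ι inferInstance
    (by rw [hq']; exact hq)
  have : Surjective q' := ⟨fun ⟨y, a, ha⟩ => ⟨a, W.ι.isOpenEmbedding.injective (by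
    rw [← Scheme.Hom.comp_apply, hq']; exact ha)⟩⟩
  -- the product `F * f ∘ p₂`
  let Mo : Over (Spec (CommRingCat.of R)) := Over.mk (Q0.ι ≫ p1 ≫ pX)
  let Fd : Mo ⟶ Over.mk pG :=
    Over.homMk ((pullback pX pX).homOfLE inf_le_left ≫ F) (by
      show ((pullback pX pX).homOfLE _ ≫ F) ≫ pG = Q0.ι ≫ p1 ≫ pX
      rw [Category.assoc, hF, Scheme.homOfLE_ι_assoc])
  let bd : Mo ⟶ Over.mk (U.ι ≫ pX) :=
    Over.homMk (p2.resLE U Q0 inf_le_right) (by
      show p2.resLE U Q0 _ ≫ U.ι ≫ pX = Q0.ι ≫ p1 ≫ pX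
      rw [← Category.assoc, Scheme.Hom.resLE_comp_ι, Category.assoc, pullback.condition])
  let φ : Mo ⟶ Over.mk pG := Fd * (bd ≫ overHom pX pG U f hf)
  -- on the preimage of `U` it is `f ∘ p₁`
  have key : ∀ {T : Scheme.{u}} (t : T ⟶ Q0.toScheme) (r : T ⟶ U.toScheme),
      r ≫ U.ι = t ≫ q → t ≫ φ.left = r ≫ f := by
    intro T t r hr
    have hrange : Set.range (t ≫ Q0.ι) ⊆ Set.range (UU pX U).ι := by
      rintro _ ⟨a, rfl⟩
      rw [Scheme.Opens.range_ι]
      refine ⟨?_, ?_⟩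
      · show p1 ((t ≫ Q0.ι) a) ∈ U
        rw [← Scheme.Hom.comp_apply, Category.assoc, ← hr]
        exact (r a).2
      · exact (t a).2.2
    let lW := IsOpenImmersion.lift (UU pX U).ι (t ≫ Q0.ι) hrange
    have hlW : lW ≫ (UU pX U).ι = t ≫ Q0.ι := IsOpenImmersion.lift_fac _ _ _
    let To : Over (Spec (CommRingCat.of R)) := Over.mk (r ≫ U.ι ≫ pX)
    let tO : To ⟶ Mo := Over.homMk t (by
      show t ≫ Q0.ι ≫ p1 ≫ pX = r ≫ U.ι ≫ pX
      rw [reassoc_of% hr]; rfl)
    let lO : To ⟶ Over.mk ((UU pX U).ι ≫ p1 ≫ pX) := Over.homMk lW (by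
      show lW ≫ (UU pX U).ι ≫ p1 ≫ pX = r ≫ U.ι ≫ pX
      rw [reassoc_of% hlW, reassoc_of% hr]; rfl)
    have hF' : tO ≫ Fd = lO ≫ diff pX pG U f hf := by
      ext1
      show t ≫ (pullback pX pX).homOfLE _ ≫ F = lW ≫ (diff pX pG U f hf).left
      rw [← hres, ← Category.assoc, ← Category.assoc]
      congr 1
      rw [← cancel_mono D.ι, Category.assoc, Category.assoc, Scheme.homOfLE_ι, Scheme.homOfLE_ι, hlW]
    have hb : tO ≫ bd = lO ≫ pr2 pX U := by
      ext1
      show t ≫ p2.resLE U Q0 _ = lW ≫ p2.resLE U (UU pX U) _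
      rw [← cancel_mono U.ι, Category.assoc, Category.assoc, Scheme.Hom.resLE_comp_ι,
        Scheme.Hom.resLE_comp_ι, reassoc_of% hlW]
    have hφ : tO ≫ φ = lO ≫ pr1 pX U ≫ overHom pX pG U f hf := by
      rw [MonObj.comp_mul, hF', reassoc_of% hb, diff, MonObj.comp_mul, GrpObj.comp_inv,
        inv_mul_cancel_right]
    have h := congrArg (fun m => m.left) hφ
    change t ≫ φ.left = lW ≫ p1.resLE U (UU pX U) _ ≫ f at h
    rw [h, ← Category.assoc]
    congr 1
    rw [← cancel_mono U.ι, Category.assoc, Scheme.Hom.resLE_comp_ι, reassoc_of% hlW, hr]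
  -- descent
  let P := pullback q' q'
  let ρ : P ⟶ X := pullback.fst q' q' ≫ q
  have hsfst : Smooth (pullback.fst q' q') :=
    MorphismProperty.of_isPullback (IsPullback.of_hasPullback q' q').flip ‹_›
  have hρ : Smooth ρ := inferInstance
  have hρS : Smooth (ρ ≫ pX) := inferInstance
  have := isReduced_of_smooth (ρ ≫ pX)
  have : IsDominant (ρ ⁻¹ᵁ U).ι :=
    isDominant_opens_of_dense (dense_preimage_of_isOpenMap ρ.isOpenMap hUd)
  have hφw : φ.left ≫ pG = q ≫ pX := (Over.w φ).trans (Category.assoc _ _ _).symm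
  have hcoc : pullback.fst q' q' ≫ φ.left = pullback.snd q' q' ≫ φ.left := by
    have hc : pullback.fst q' q' ≫ q = pullback.snd q' q' ≫ q := by
      rw [← hq', reassoc_of% (pullback.condition (f := q') (g := q'))]
    refine ext_of_isDominant_of_isSeparated pG ?_ (ρ ⁻¹ᵁ U).ι ?_
    · rw [Category.assoc, Category.assoc, hφw, reassoc_of% hc]
    · rw [← Category.assoc, ← Category.assoc,
        key ((ρ ⁻¹ᵁ U).ι ≫ pullback.fst q' q') (ρ ∣_ U)
          (by rw [morphismRestrict_ι, Category.assoc]),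
        key ((ρ ⁻¹ᵁ U).ι ≫ pullback.snd q' q') (ρ ∣_ U)
          (by rw [morphismRestrict_ι, Category.assoc, ← hc])]
  have hcomp : ∀ {T : Scheme.{u}} (g₁ g₂ : T ⟶ Q0.toScheme),
      g₁ ≫ q' = g₂ ≫ q' → g₁ ≫ φ.left = g₂ ≫ φ.left := fun g₁ g₂ h => by
    have := congrArg (pullback.lift g₁ g₂ h ≫ ·) hcoc
    simpa only [pullback.lift_fst_assoc, pullback.lift_snd_assoc] using this
  let g := EffectiveEpi.desc q' φ.left hcomp
  have hg : q' ≫ g = φ.left := EffectiveEpi.fac q' φ.left hcomp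
  refine ⟨W, g, hxW, ?_, ?_⟩
  · rw [← cancel_epi q', reassoc_of% hg, hφw, reassoc_of% hq']
  · let Q : Q0.toScheme.Opens := q ⁻¹ᵁ U
    let r : Q.toScheme ⟶ (U ⊓ W).toScheme :=
      IsOpenImmersion.lift (U ⊓ W).ι (Q.ι ≫ q) (by
        rw [Scheme.Opens.range_ι]
        rintro _ ⟨a, rfl⟩
        exact ⟨a.2, Q.ι a, rfl⟩)
    have hr : r ≫ (U ⊓ W).ι = Q.ι ≫ q := IsOpenImmersion.lift_fac _ _ _
    have : Smooth r := MorphismProperty.of_postcomp @Smooth (W' := @IsOpenImmersion) r (U ⊓ W).ι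
      inferInstance (by rw [hr]; infer_instance)
    have : Surjective r := ⟨fun ⟨y, hyU, a, ha⟩ => ⟨⟨a, by show q a ∈ U; rw [ha]; exact hyU⟩,
      (U ⊓ W).ι.isOpenEmbedding.injective
        ((Scheme.Hom.comp_apply _ _ _).symm.trans (by rw [hr]; exact ha))⟩⟩
    have h1 := key Q.ι (r ≫ X.homOfLE inf_le_left)
      (by rw [Category.assoc, Scheme.homOfLE_ι, hr])
    have h2 : r ≫ X.homOfLE (inf_le_right : U ⊓ W ≤ W) = Q.ι ≫ q' := by
      rw [← cancel_mono W.ι, Category.assoc, Category.assoc, Scheme.homOfLE_ι, hr, hq']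
    rw [← cancel_epi r, reassoc_of% h2, hg, h1, Category.assoc]

theorem weil_extension
    (hdense : ∀ x : X, x ∈ closure ((U : Set X) ∩ {y | pX y = pX x}))
    (hcodim : ∀ x : X, x ∉ U → (2 : WithBot ℕ∞) ≤ ringKrullDim (X.presheaf.stalk x))
    (hf : f ≫ pG = U.ι ≫ pX) : ∃! g : X ⟶ G, g ≫ pG = pX ∧ U.ι ≫ g = f := by
  have hUd := dense_of_fibrewise pX U hdense
  have := isReduced_of_smooth pX
  have := isDominant_opens_of_dense hUd
  obtain ⟨V, hUV, g, hg, hgres, hmax⟩ := exists_maximal_extension pX pG U hUd f hf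
  have hV : V = ⊤ := top_le_iff.mp fun x _ => by
    obtain ⟨W, g', hxW, h1, h2⟩ := exists_local_extension pX pG U f hdense hcodim hf x
    exact hmax W g' h1 h2 hxW
  subst hV
  refine ⟨X.topIso.inv ≫ g, ⟨?_, ?_⟩, fun g' hg' => ?_⟩
  · rw [Category.assoc, hg]; simp
  · rw [← hgres, ← Category.assoc]
    congr 1
    rw [← cancel_mono (⊤ : X.Opens).ι, Category.assoc, Scheme.homOfLE_ι]
    simp
  · refine ext_of_isDominant_of_isSeparated pG ?_ U.ι ?_
    · rw [hg'.1, Category.assoc, hg]; simp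
    · rw [hg'.2, ← hgres, ← Category.assoc]
      congr 1
      rw [← cancel_mono (⊤ : X.Opens).ι, Category.assoc, Scheme.homOfLE_ι]
      simp

end

end Groth.Agent.H28Neron
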