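import Groth.Agent.H28Neron.NormalSmooth
import Groth.Agent.H28Neron.Extend
import Groth.Agent.H28Neron.Weil
import Groth.Agent.H17.LocusBC
import Groth.Prelude.Def_CInt
import Mathlib.AlgebraicGeometry.Morphisms.Integral
import Mathlib.AlgebraicGeometry.Morphisms.Finite
import Mathlib.AlgebraicGeometry.Morphisms.QuasiFinite
import Mathlib.AlgebraicGeometry.Morphisms.UniversallyOpen

/-!
# The Neron mapping property of the etale locus of a finite normal scheme over a normal base
-/

set_option autoImplicit false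
set_option linter.style.haveILetI false
universe u
open CategoryTheory CategoryTheory.Limits AlgebraicGeometry IsLocalRing TopologicalSpace

namespace Groth.Agent.H28Neron.FiniteNormal

/-- Generic points with values in an integral scheme extend over a normal domain. -/
theorem exists_lift_of_isIntegrallyClosed {T S : Scheme.{u}} (π : T ⟶ S) [IsIntegralHom π]
    (A : Type u) [CommRing A] [IsDomain A] [IsIntegrallyClosed A]
    (a : Spec (CommRingCat.of A) ⟶ S) (w : Spec (CommRingCat.of (FractionRing A)) ⟶ T)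
    (hw : w ≫ π = Spec.map (CommRingCat.ofHom (algebraMap A (FractionRing A))) ≫ a) :
    ∃ l : Spec (CommRingCat.of A) ⟶ T, l ≫ π = a ∧
      Spec.map (CommRingCat.ofHom (algebraMap A (FractionRing A))) ≫ l = w := by
  let P := pullback π a
  haveI : IsIntegralHom (pullback.snd π a) :=
    MorphismProperty.of_isPullback (IsPullback.of_hasPullback π a) ‹_›
  haveI : IsAffine P := isAffine_of_isAffineHom (pullback.snd π a)
  obtain ⟨φ, hφ⟩ := Spec.map_surjective (P.isoSpec.inv ≫ pullback.snd π a)
  have hint : φ.hom.IsIntegral := by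
    have : IsIntegralHom (Spec.map φ) := by rw [hφ]; infer_instance
    exact IsIntegralHom.SpecMap_iff.1 this
  let w' : Spec (CommRingCat.of (FractionRing A)) ⟶ P := pullback.lift w _ hw
  obtain ⟨χ, hχ⟩ := Spec.map_surjective (w' ≫ P.isoSpec.hom)
  have hcomm : φ ≫ χ = CommRingCat.ofHom (algebraMap A (FractionRing A)) := by
    apply Spec.map_injective
    rw [Spec.map_comp, hχ, hφ, Category.assoc, Iso.hom_inv_id_assoc]
    exact pullback.lift_snd _ _ _
  have hmem : ∀ b, χ.hom b ∈ (algebraMap A (FractionRing A)).range := by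
    intro b
    obtain ⟨p, hp, hpb⟩ := hint b
    refine IsIntegrallyClosed.isIntegral_iff.1 ⟨p, hp, ?_⟩
    have h1 : Polynomial.eval₂ (χ.hom.comp φ.hom) (χ.hom b) p = 0 := by
      rw [← Polynomial.hom_eval₂, hpb, map_zero]
    rwa [show χ.hom.comp φ.hom = algebraMap A (FractionRing A) from congr($(hcomm).hom)] at h1
  choose χA hχA using hmem
  have hinj := IsFractionRing.injective A (FractionRing A)
  let χA' : Γ(P, ⊤) →+* A :=
    { toFun := χA
      map_one' := hinj (by simp [hχA])
      map_mul' := fun p q => hinj (by simp [hχA])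
      map_zero' := hinj (by simp [hχA])
      map_add' := fun p q => hinj (by simp [hχA]) }
  have hfac : CommRingCat.ofHom χA' ≫ CommRingCat.ofHom (algebraMap A (FractionRing A)) = χ := by
    ext b; exact hχA b
  let l₀ := Spec.map (CommRingCat.ofHom χA') ≫ P.isoSpec.inv
  have hl₀ : Spec.map (CommRingCat.ofHom (algebraMap A (FractionRing A))) ≫ l₀ = w' := by
    rw [← Category.assoc, ← Spec.map_comp]
    erw [hfac, hχ]
    rw [Category.assoc, Iso.hom_inv_id, Category.comp_id]
  have hl₁ : l₀ ≫ pullback.snd π a = 𝟙 _ := by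
    rw [Category.assoc, ← hφ, ← Spec.map_comp, ← Spec.map_id]
    congr 1
    ext r
    refine hinj ?_
    show algebraMap A (FractionRing A) (χA (φ.hom r)) = _
    rw [hχA]
    exact congr($(hcomm).hom r)
  refine ⟨l₀ ≫ pullback.fst π a, ?_, ?_⟩
  · rw [Category.assoc, pullback.condition, reassoc_of% hl₁]
  · rw [← Category.assoc, hl₀]
    exact pullback.lift_fst _ _ _

/-- Morphisms on a dense open of a normal scheme into a scheme finite over the base extend. -/
theorem exists_extension {Y T S : Scheme.{u}} [IsLocallyNoetherian Y] (hY : Pi1.IsNormalScheme Y)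
    (sY : Y ⟶ S) (π : T ⟶ S) [IsFinite π] (U : Y.Opens) (hU : Dense (U : Set Y))
    (f : U.toScheme ⟶ T) (hf : f ≫ π = U.ι ≫ sY) :
    ∃ g : Y ⟶ T, g ≫ π = sY ∧ U.ι ≫ g = f := by
  haveI : ∀ y : Y, IsDomain (Y.presheaf.stalk y) := fun y => (hY y).1
  haveI : IsReduced Y := isReduced_of_isReduced_stalk Y
  obtain ⟨V, hUV, g, hg, hres, hmax⟩ := exists_maximal_extension sY π U hU f hf
  have hV : ∀ y : Y, y ∈ V := fun y => by
    haveI := (hY y).2
    have hyU := genPoint_mem_of_dense y hU
    let lU := IsOpenImmersion.lift U.ι (genStalk Y y) (range_genStalk_subset y hyU)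
    obtain ⟨l, hl₁, hl₂⟩ := @exists_lift_of_isIntegrallyClosed _ _ π _ (Y.presheaf.stalk y)
      (Y.presheaf.stalk y).commRing (hY y).1 (hY y).2
      (Y.fromSpecStalk y ≫ sY) (lU ≫ f)
      ((Category.assoc lU f π).trans ((congrArg (lU ≫ ·) hf).trans
        (((Category.assoc lU U.ι sY).symm.trans
          (congrArg (· ≫ sY) (IsOpenImmersion.lift_fac _ _ _))).trans (Category.assoc _ _ _))))
    obtain ⟨W, g', hyW, h1, h2⟩ := exists_nhd_of_stalk_lift sY π U f hf y hyU l hl₁ hl₂.symm
    exact hmax W g' h1 h2 hyW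
  let e : Y ⟶ V.toScheme := IsOpenImmersion.lift V.ι (𝟙 Y) (by
    rintro _ ⟨y, rfl⟩; rw [Scheme.Opens.range_ι]; exact hV _)
  have he : e ≫ V.ι = 𝟙 Y := IsOpenImmersion.lift_fac _ _ _
  refine ⟨e ≫ g, by rw [Category.assoc, hg, reassoc_of% he], ?_⟩
  rw [← hres, ← Category.assoc]
  congr 1
  rw [← cancel_mono V.ι, Category.assoc, he, Category.comp_id, Scheme.homOfLE_ι]

/-- A section of a finite morphism between normal schemes passes through the smooth locus. -/
theorem mem_smoothLocus_of_section {P Y : Scheme.{u}} (pr : P ⟶ Y) [IsFinite pr]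
    [LocallyOfFinitePresentation pr] (hP : Pi1.IsNormalScheme P) (hY : Pi1.IsNormalScheme Y)
    (s : Y ⟶ P) (hs : s ≫ pr = 𝟙 Y) (y : Y) : s y ∈ pr.smoothLocus := by
  haveI := (hY y).1
  haveI := (hP (s y)).1
  haveI : IsClosedImmersion s := by
    haveI : IsClosedImmersion (s ≫ pr) := by rw [hs]; infer_instance
    exact IsClosedImmersion.of_comp s pr
  have hpry : pr (s y) = y := by
    rw [← Scheme.Hom.comp_apply, hs]; rfl
  -- the generic point of `Y` maps to the generic point of `P`
  let η := genPoint Y y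
  let ξ₀ := genPoint P (s y)
  have hξ : ξ₀ ⤳ s η :=
    genPoint_specializes_of_mem_range (s y) ((genPoint_specializes y).map s.continuous)
  have hprη : pr (s η) = η := by
    rw [← Scheme.Hom.comp_apply, hs]; rfl
  have heq : pr ξ₀ = η := by
    have h1 : pr ξ₀ ⤳ η := hprη ▸ hξ.map pr.continuous
    have h2 : η ⤳ pr ξ₀ := genPoint_specializes_of_mem_range y (h1.trans (genPoint_specializes y))
    exact (Specializes.antisymm h1 h2).eq
  have hξ₀ : ξ₀ = s η := by
    have hd := pr.isDiscrete_preimage_singleton η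
    haveI := hd.to_subtype
    have h2 : (⟨ξ₀, heq⟩ : pr ⁻¹' {η}) ⤳ ⟨s η, hprη⟩ := (subtype_specializes_iff _ _).2 hξ
    exact congrArg Subtype.val h2.eq
  -- hence the map of local rings is injective
  let ρ := (s.stalkMap y).hom
  have hker : RingHom.ker ρ = ⊥ := by
    let q : Spec (P.presheaf.stalk (s y)) :=
      Spec.map (s.stalkMap y) (Spec.map (CommRingCat.ofHom
        (algebraMap (Y.presheaf.stalk y) (FractionRing (Y.presheaf.stalk y)))) (fracPt Y y))
    let q₀ : Spec (P.presheaf.stalk (s y)) :=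
      Spec.map (CommRingCat.ofHom (algebraMap (P.presheaf.stalk (s y))
        (FractionRing (P.presheaf.stalk (s y))))) (fracPt P (s y))
    have hq : P.fromSpecStalk (s y) q = P.fromSpecStalk (s y) q₀ := by
      refine Eq.trans ?_ hξ₀.symm
      simp only [q]
      rw [← Scheme.Hom.comp_apply, Scheme.SpecMap_stalkMap_fromSpecStalk, Scheme.Hom.comp_apply]
      rfl
    have hqq : q = q₀ := (P.fromSpecStalk (s y)).isEmbedding.injective hq
    have h2 : (q : PrimeSpectrum (P.presheaf.stalk (s y))).asIdeal = (q₀ : PrimeSpectrum _).asIdeal :=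
      congrArg PrimeSpectrum.asIdeal hqq
    have hq1 : (q : PrimeSpectrum (P.presheaf.stalk (s y))).asIdeal = RingHom.ker ρ := by
      show Ideal.comap ρ (Ideal.comap (algebraMap (Y.presheaf.stalk y) (FractionRing (Y.presheaf.stalk y)))
        (maximalIdeal (FractionRing (Y.presheaf.stalk y)))) = _
      rw [maximalIdeal_eq_bot, ← RingHom.ker_eq_comap_bot,
        (RingHom.injective_iff_ker_eq_bot _).1 (IsFractionRing.injective _ _), ← RingHom.ker_eq_comap_bot]
    have hq2 : (q₀ : PrimeSpectrum (P.presheaf.stalk (s y))).asIdeal = ⊥ := by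
      show Ideal.comap (algebraMap (P.presheaf.stalk (s y)) (FractionRing (P.presheaf.stalk (s y))))
        (maximalIdeal (FractionRing (P.presheaf.stalk (s y)))) = _
      rw [maximalIdeal_eq_bot, ← RingHom.ker_eq_comap_bot,
        (RingHom.injective_iff_ker_eq_bot _).1 (IsFractionRing.injective _ _)]
    rw [← hq1, h2, hq2]
  haveI : IsIso (s.stalkMap y) := (ConcreteCategory.isIso_iff_bijective _).2
    ⟨(RingHom.injective_iff_ker_eq_bot ρ).2 hker, s.stalkMap_surjective y⟩
  haveI : IsIso (pr.stalkMap (s y) ≫ s.stalkMap y) := by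
    rw [← Scheme.Hom.stalkMap_comp]
    have key : ∀ f : Y ⟶ Y, f = 𝟙 Y → IsIso (f.stalkMap y) := by rintro _ rfl; infer_instance
    exact key _ hs
  haveI : IsIso (pr.stalkMap (s y)) := IsIso.of_isIso_comp_right _ (s.stalkMap y)
  rw [Scheme.Hom.mem_smoothLocus]
  exact RingHom.FormallySmooth.of_bijective
    (ConcreteCategory.bijective_of_isIso (pr.stalkMap (s y)))

/-- Morphisms from a smooth scheme into a finite normal scheme land in the smooth locus. -/
theorem mem_smoothLocus_of_hom {Y T S : Scheme.{u}} [IsLocallyNoetherian S]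
    (hY : Pi1.IsNormalScheme Y) (hT : Pi1.IsNormalScheme T) (sY : Y ⟶ S) [Smooth sY]
    (π : T ⟶ S) [IsFinite π] [LocallyOfFinitePresentation π] (g : Y ⟶ T) (hg : g ≫ π = sY) (y : Y) :
    g y ∈ π.smoothLocus := by
  have hpb := IsPullback.of_hasPullback π sY
  haveI : IsFinite (pullback.snd π sY) := MorphismProperty.of_isPullback hpb ‹_›
  haveI : LocallyOfFinitePresentation (pullback.snd π sY) := MorphismProperty.of_isPullback hpb ‹_›
  haveI : Smooth (pullback.fst π sY) := MorphismProperty.of_isPullback hpb.flip ‹_›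
  haveI : IsLocallyNoetherian T := LocallyOfFiniteType.isLocallyNoetherian π
  let s : Y ⟶ pullback π sY := pullback.lift g (𝟙 Y) (by rw [hg, Category.id_comp])
  have hmem := mem_smoothLocus_of_section (pullback.snd π sY)
    (isNormalScheme_of_smooth (pullback.fst π sY) hT) hY s (pullback.lift_snd _ _ _) y
  have := H17.LocusBC.mem_smoothLocus_of_flat_baseChange hpb (s y) hmem
  rwa [← Scheme.Hom.comp_apply, show s ≫ pullback.fst π sY = g from pullback.lift_fst _ _ _] at this

/-- A schematically dense open is dense. -/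
theorem dense_of_isSchematicallyDense {X : Scheme.{u}} {U : X.Opens} (h : CInt.IsSchematicallyDense U) :
    Dense (U : Set X) := by
  refine dense_iff_inter_open.mpr fun O hO ⟨x, hx⟩ => ?_
  by_contra hne
  let V : X.Opens := ⟨O, hO⟩
  have hbot : V ⊓ U = ⊥ := SetLike.coe_injective (Set.not_nonempty_iff_eq_empty.mp hne)
  haveI : Subsingleton Γ(X, V ⊓ U) := by rw [hbot]; infer_instance
  haveI : Subsingleton Γ(X, V) := (h V).subsingleton
  have h01 : X.presheaf.germ V x hx 1 = X.presheaf.germ V x hx 0 :=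
    congrArg _ (Subsingleton.elim _ _)
  rw [map_one, map_zero] at h01
  exact one_ne_zero h01

/-- The smooth locus of a finite normal scheme over a normal base has the Neron mapping property. -/
theorem bijective_genericFibre {S T : Scheme.{u}} [IsLocallyNoetherian S] (hS : Pi1.IsNormalScheme S)
    (U : S.Opens) (hU : Dense (U : Set S)) (π : T ⟶ S) [IsFinite π] [LocallyOfFinitePresentation π]
    (hT : Pi1.IsNormalScheme T) (Z : Over S) [Smooth Z.hom] :
    Function.Bijective
      (fun g : Z ⟶ Over.mk (π.smoothLocus.ι ≫ π) => (Over.pullback U.ι).map g) := by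
  haveI : IsLocallyNoetherian Z.left := LocallyOfFiniteType.isLocallyNoetherian Z.hom
  have hZ := isNormalScheme_of_smooth Z.hom hS
  haveI : ∀ z : Z.left, IsDomain (Z.left.presheaf.stalk z) := fun z => (hZ z).1
  haveI : IsReduced Z.left := isReduced_of_isReduced_stalk Z.left
  haveI : UniversallyOpen Z.hom := inferInstance
  let U' : Z.left.Opens := Z.hom ⁻¹ᵁ U
  have hU' : Dense (U' : Set Z.left) := dense_preimage_of_isOpenMap Z.hom.isOpenMap hU
  haveI := isDominant_opens_of_dense hU'
  let N : Over S := Over.mk (π.smoothLocus.ι ≫ π)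
  let r : U'.toScheme ⟶ pullback Z.hom U.ι := (pullbackRestrictIsoRestrict Z.hom U).inv
  have hr : r ≫ pullback.fst Z.hom U.ι = U'.ι := pullbackRestrictIsoRestrict_inv_fst _ _
  have hfst : ∀ g : Z ⟶ N,
      r ≫ ((Over.pullback U.ι).map g).left ≫ pullback.fst N.hom U.ι = U'.ι ≫ g.left := fun g => by
    rw [← hr, Category.assoc]
    congr 1
    exact pullback.lift_fst _ _ _
  refine ⟨fun g g' h => ?_, fun v => ?_⟩
  · replace h : (Over.pullback U.ι).map g = (Over.pullback U.ι).map g' := h
    refine Over.OverMorphism.ext (ext_of_isDominant_of_isSeparated (π.smoothLocus.ι ≫ π)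
      ((Over.w g).trans (Over.w g').symm) U'.ι ?_)
    rw [← hfst g, ← hfst g', h]
  · have hf : (r ≫ v.left ≫ pullback.fst N.hom U.ι ≫ π.smoothLocus.ι) ≫ π = U'.ι ≫ Z.hom := by
      have hw : v.left ≫ pullback.snd N.hom U.ι = pullback.snd Z.hom U.ι := Over.w v
      calc (r ≫ v.left ≫ pullback.fst N.hom U.ι ≫ π.smoothLocus.ι) ≫ π
          = r ≫ v.left ≫ pullback.fst N.hom U.ι ≫ N.hom := by simp [N]
        _ = r ≫ pullback.snd Z.hom U.ι ≫ U.ι := by
          rw [pullback.condition, reassoc_of% hw]
        _ = U'.ι ≫ Z.hom := by rw [← pullback.condition, reassoc_of% hr]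
    obtain ⟨g, hg₁, hg₂⟩ := exists_extension hZ Z.hom π U' hU' _ hf
    let g₀ : Z.left ⟶ π.smoothLocus.toScheme := IsOpenImmersion.lift π.smoothLocus.ι g (by
      rintro _ ⟨z, rfl⟩
      rw [Scheme.Opens.range_ι]
      exact mem_smoothLocus_of_hom hZ hT Z.hom π g hg₁ z)
    have hg₀ : g₀ ≫ π.smoothLocus.ι = g := IsOpenImmersion.lift_fac _ _ _
    let g' : Z ⟶ N := Over.homMk g₀ (by
      show g₀ ≫ π.smoothLocus.ι ≫ π = _
      rw [reassoc_of% hg₀, hg₁])
    refine ⟨g', Over.OverMorphism.ext (pullback.hom_ext ?_ ((Over.w _).trans (Over.w v).symm))⟩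
    rw [← cancel_epi r]
    refine (hfst g').trans ?_
    rw [← cancel_mono π.smoothLocus.ι]
    show (U'.ι ≫ g₀) ≫ π.smoothLocus.ι = _
    rw [Category.assoc, hg₀, hg₂]
    simp only [Category.assoc]
    rfl

end Groth.Agent.H28Neron.FiniteNormal
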