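import Groth.Agent.S0501
import Mathlib

/-!
# Sections of etale schemes over a henselian local ring
-/

set_option autoImplicit false
set_option linter.style.haveILetI false
universe u
open CategoryTheory Limits AlgebraicGeometry IsLocalRing

namespace Groth.Agent.H28Neron

/-- A closed point of an etale scheme over a henselian local ring rational over the residue field lifts
to exactly one section. -/
theorem existsUnique_section {R : Type u} [CommRing R] [HenselianLocalRing R] {K : Scheme.{u}}
    (g : K ⟶ Spec (CommRingCat.of R)) [Etale g]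
    (a : Spec (CommRingCat.of (ResidueField R)) ⟶ K)
    (ha : a ≫ g = Spec.map (CommRingCat.ofHom (residue R))) :
    ∃! σ : Spec (CommRingCat.of R) ⟶ K,
      σ ≫ g = 𝟙 _ ∧ Spec.map (CommRingCat.ofHom (residue R)) ≫ σ = a := by
  obtain ⟨W, hW, hzW, -⟩ := exists_isAffineOpen_mem_and_subset
    (X := K) (x := a default) (U := ⊤) trivial
  let A := Γ(K, W)
  let w : Spec A ⟶ Spec (CommRingCat.of R) := hW.fromSpec ≫ g
  obtain ⟨φ, hφ⟩ : ∃ φ : CommRingCat.of R ⟶ A, Spec.map φ = w := ⟨_, Spec.map_preimage w⟩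
  have het : φ.hom.Etale := (HasRingHomProperty.Spec_iff (P := @Etale)).1 (by rw [hφ]; infer_instance)
  letI : Algebra R A := φ.hom.toAlgebra
  haveI : Algebra.Etale R A := het
  have hrange : Set.range a ⊆ Set.range hW.fromSpec := by
    rintro _ ⟨y, rfl⟩
    rw [hW.range_fromSpec, Subsingleton.elim y default]
    exact hzW
  obtain ⟨ψ, hψ⟩ : ∃ ψ : A ⟶ CommRingCat.of (ResidueField R), Spec.map ψ ≫ hW.fromSpec = a :=
    ⟨Spec.preimage (IsOpenImmersion.lift hW.fromSpec a hrange),
      by rw [Spec.map_preimage, IsOpenImmersion.lift_fac]⟩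
  have hψR : φ ≫ ψ = CommRingCat.ofHom (residue R) := by
    apply Spec.map_injective
    rw [Spec.map_comp, hφ, ← Category.assoc, hψ, ha]
  let q : Ideal A := RingHom.ker ψ.hom
  haveI : q.IsPrime := RingHom.ker_isPrime _
  let τ : q.ResidueField →+* ResidueField R := Ideal.ResidueField.lift q ψ.hom le_rfl
    (fun x hx => isUnit_iff_ne_zero.2 hx)
  have hτ : ∀ x : A, τ (algebraMap A q.ResidueField x) = ψ.hom x := fun x =>
    Ideal.ResidueField.lift_algebraMap q ψ.hom le_rfl _ x
  obtain ⟨f, ⟨-, hf⟩, hfu⟩ := S0501.result R R A q τ (by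
    refine RingHom.ext fun r => ?_
    rw [RingHom.comp_apply, IsScalarTower.algebraMap_apply R A q.ResidueField, hτ]
    exact congrArg (fun m => m.hom r) hψR)
  let fc : A ⟶ CommRingCat.of R := CommRingCat.ofHom f.toRingHom
  have hfc : φ ≫ fc = 𝟙 _ := by
    ext r
    exact f.commutes r
  have hfψ : fc ≫ CommRingCat.ofHom (residue R) = ψ := by
    ext x
    exact (hf x).trans (hτ x)
  refine ⟨Spec.map fc ≫ hW.fromSpec, ⟨?_, ?_⟩, ?_⟩
  · rw [Category.assoc, show hW.fromSpec ≫ g = Spec.map φ from hφ.symm, ← Spec.map_comp, hfc, Spec.map_id]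
  · rw [← Category.assoc, ← Spec.map_comp, hfψ, hψ]
  · rintro σ ⟨hσg, hσa⟩
    have hcl : σ (closedPoint R) ∈ W := by
      have h1 : Spec.map (CommRingCat.ofHom (residue R)) default = closedPoint R := by
        rw [Subsingleton.elim (default : (Spec (CommRingCat.of (ResidueField R)) : Scheme.{u})) (closedPoint (ResidueField R))]
        exact IsLocalRing.comap_closedPoint (residue R)
      rw [← h1, ← Scheme.Hom.comp_apply, hσa]
      exact hzW
    have hr : Set.range σ ⊆ Set.range hW.fromSpec := by
      rintro _ ⟨y, rfl⟩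
      rw [hW.range_fromSpec]
      exact ((IsLocalRing.specializes_closedPoint y).map σ.continuous).mem_open W.2 hcl
    obtain ⟨c, hc⟩ : ∃ c : A ⟶ CommRingCat.of R, Spec.map c ≫ hW.fromSpec = σ :=
      ⟨Spec.preimage (IsOpenImmersion.lift hW.fromSpec σ hr),
        by rw [Spec.map_preimage, IsOpenImmersion.lift_fac]⟩
    have hcR : φ ≫ c = 𝟙 _ := by
      apply Spec.map_injective
      rw [Spec.map_comp, hφ, ← Category.assoc, hc, hσg, Spec.map_id]
    have hcψ : c ≫ CommRingCat.ofHom (residue R) = ψ := by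
      apply Spec.map_injective
      rw [← cancel_mono hW.fromSpec, Spec.map_comp, Category.assoc, hc, hσa, hψ]
    let f' : A →ₐ[R] R := ⟨c.hom, fun r => congrArg (fun m => m.hom r) hcR⟩
    have hf'res : ∀ x : A, residue R (f' x) = ψ.hom x := fun x => congrArg (fun m => m.hom x) hcψ
    have : f' = f := hfu f' ⟨by
      ext x
      rw [Ideal.mem_comap, ← residue_eq_zero_iff]
      show residue R (f' x) = 0 ↔ ψ.hom x = 0
      rw [hf'res], fun x => (hf'res x).trans (hτ x).symm⟩
    rw [← hc]
    congr 2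
    ext x
    exact DFunLike.congr_fun this x

end Groth.Agent.H28Neron
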