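import Groth.Agent.H19Grp.ArtinHom
import Groth.Agent.H25Grp.Isogeny
import Groth.Agent.H17.Dim
import Groth.Prelude.Def_SGA7IX

/-!
# Isogenies of abelian varieties are finite
-/

set_option autoImplicit false
universe u

open CategoryTheory CategoryTheory.Limits AlgebraicGeometry MonoidalCategory CartesianMonoidalCategory MonObj

namespace Groth.Agent.H28Neron.IsogenyFinite

variable {k : Type u} [Field k] {G H : Over (Spec (CommRingCat.of k))} [GrpObj G] [GrpObj H]
  [IsProper G.hom] [IsSeparated H.hom] [LocallyOfFiniteType H.hom] (f : G ⟶ H) [IsMonHom f]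

theorem isFinite (hf : SGA7.IsIsogenyOver f) : IsFinite f.left := by
  haveI : IsProper (f.left ≫ H.hom) := by rw [Over.w]; infer_instance
  haveI : IsProper f.left := IsProper.of_comp f.left H.hom
  have hP := IsPullback.of_hasPullback f η[H]
  have hfin : IsFinite (pullback f η[H]).hom :=
    hf.2 _ (pullback.fst f η[H]) (show IsPullback (pullback.fst f η[H]) (toUnit _) f η[H] by
      rwa [← toUnit_unique (pullback.snd f η[H]) (toUnit _)])
  have hP' : IsPullback (pullback.fst f η[H]).left (pullback.snd f η[H]).left f.left η[H].left :=
    hP.map (Over.forget _)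
  have hsnd : (pullback.snd f η[H]).left = (pullback f η[H]).hom :=
    (Category.comp_id _).symm.trans (Over.w (pullback.snd f η[H]))
  have h2 : LocallyQuasiFinite (pullback.snd f.left η[H].left) := by
    have heq := hP'.isoPullback_inv_snd
    haveI : IsFinite (pullback.snd f η[H]).left := by rw [hsnd]; exact hfin
    rw [← heq]
    infer_instance
  haveI := H19Grp.ArtinHom.lqf_of_kernel f h2
  exact IsFinite.of_isProper_of_locallyQuasiFinite _

/-- The source and target of an isogeny have the same dimension. -/
theorem exists_dim [GeometricallyIntegral G.hom] (hf : SGA7.IsIsogenyOver f) :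
    ∃ d : ℕ, topologicalKrullDim G.left = d ∧ topologicalKrullDim H.left = d := by
  haveI : IsIntegral G.left := GeometricallyIntegral.isIntegral_of_subsingleton G.hom
  haveI := isFinite f hf
  haveI := hf.1
  obtain ⟨d, hd⟩ := H25Grp.exists_nat_dim G.hom
  refine ⟨d, hd, hd ▸ le_antisymm ?_ ?_⟩
  · exact H17.topologicalKrullDim_le_of_specializingMap f.left f.left.isClosedMap.specializingMap f.left.surjective
  · exact H17.topologicalKrullDim_le_of_noSpecializationsInFibres f.left f.left.continuous
      fun a b h e => H05EGA4.eq_of_specializes_of_fibre f.left h e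

end Groth.Agent.H28Neron.IsogenyFinite
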