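import Groth.Agent.H28Neron.Extend
import Groth.Agent.H17.TwoGlue

/-!
# The mapping property from the local rings of a Dedekind scheme
-/

set_option autoImplicit false
universe u
open CategoryTheory CategoryTheory.Limits AlgebraicGeometry TopologicalSpace

namespace Groth.Agent.H28Neron

/-- Local rings of a scheme smooth over a regular scheme are regular. -/
theorem isRegularLocalRing_stalk_of_smooth' {S : Scheme.{u}} [IsLocallyNoetherian S]
    (hreg : ∀ s : S, IsRegularLocalRing (S.presheaf.stalk s)) {X : Scheme.{u}} (pX : X ⟶ S) [Smooth pX]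
    (x : X) : IsRegularLocalRing (X.presheaf.stalk x) := by
  obtain ⟨U, hU, hxU, -⟩ := exists_isAffineOpen_mem_and_subset (X := S) (x := pX x) (U := ⊤) trivial
  have : IsNoetherianRing Γ(S, U) := IsLocallyNoetherian.component_noetherian ⟨U, hU⟩
  have : IsRegularRing Γ(S, U) := isRegularRing_iff.mpr fun p hp => by
    let y := hU.fromSpec ⟨p, hp⟩
    have hy : y ∈ U := hU.range_fromSpec.le ⟨⟨p, hp⟩, rfl⟩
    have hpr : hU.primeIdealOf ⟨y, hy⟩ = ⟨p, hp⟩ := by
      apply hU.fromSpec.isOpenEmbedding.injective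
      rw [hU.fromSpec_primeIdealOf]
    let := (S.presheaf.germ U y hy).hom.toAlgebra
    have h1 := hU.isLocalization_stalk ⟨y, hy⟩
    rw [hpr] at h1
    have := hreg y
    exact IsRegularLocalRing.of_ringEquiv
      (IsLocalization.algEquiv p.primeCompl (S.presheaf.stalk y) (Localization.AtPrime p)).toRingEquiv
  haveI : IsAffine (U : Scheme.{u}) := hU
  let q : (pX ⁻¹ᵁ U).toScheme ⟶ Spec Γ(S, U) := (pX ∣_ U) ≫ hU.isoSpec.hom
  have hres : Smooth (pX ∣_ U) := MorphismProperty.of_isPullback (isPullback_morphismRestrict pX U).flip ‹_›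
  have : Smooth q := by
    show Smooth (_ ≫ _)
    infer_instance
  have h := isRegularLocalRing_stalk_of_smooth (R := Γ(S, U)) q ⟨x, hxU⟩
  exact IsRegularLocalRing.of_ringEquiv ((pX ⁻¹ᵁ U).stalkIso ⟨x, hxU⟩).commRingCatIsoToRingEquiv

/-- Morphisms agreeing on the spectra of all local rings are equal. -/
theorem eq_of_forall_fromSpecStalk {X Y : Scheme.{u}} [IsLocallyNoetherian X] (f g : X ⟶ Y)
    (h : ∀ x, X.fromSpecStalk x ≫ f = X.fromSpecStalk x ≫ g) : f = g := by
  choose U hU hUeq using fun x => spread_out_unique_of_isGermInjective' f g (h x)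
  exact Scheme.Cover.hom_ext (X.openCoverOfIsOpenCover U
    (IsOpenCover.mk (eq_top_iff.mpr fun x _ => Opens.mem_iSup.mpr ⟨x, hU x⟩))) f g hUeq

variable {S : Scheme.{u}} [IsIntegral S] [IsNoetherian S]
  (hreg : ∀ s : S, IsRegularLocalRing (S.presheaf.stalk s))
  (G : Over S) [IsSeparated G.hom] [LocallyOfFiniteType G.hom]
  (hloc : ∀ p : S, IsClosed ({p} : Set S) →
    ∀ Y : Over (Spec (S.presheaf.stalk p)), Smooth Y.hom →
      Function.Bijective (fun g : Y ⟶ (Over.pullback (S.fromSpecStalk p)).obj G =>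
        (Over.pullback (Spec.map (S.presheaf.stalkSpecializes (genericPoint_specializes p)))).map g))

local notation "η" => S.fromSpecStalk (genericPoint S)

lemma exists_closed_specializes (s : S) : ∃ p : S, IsClosed ({p} : Set S) ∧ s ⤳ p := by
  obtain ⟨p, hp, hpc⟩ := IsClosed.exists_closed_singleton isClosed_closure
    (⟨s, subset_closure rfl⟩ : (closure ({s} : Set S)).Nonempty)
  exact ⟨p, hpc, specializes_iff_mem_closure.mpr hp⟩

include hloc in
lemma injective_generic (Y : Over S) [Smooth Y.hom] (g g' : Y ⟶ G)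
    (h : pullback.fst Y.hom η ≫ g.left = pullback.fst Y.hom η ≫ g'.left) : g = g' := by
  have : IsLocallyNoetherian Y.left := LocallyOfFiniteType.isLocallyNoetherian Y.hom
  refine Over.OverMorphism.ext (eq_of_forall_fromSpecStalk _ _ fun y => ?_)
  obtain ⟨p, hp, hsp⟩ := exists_closed_specializes (Y.hom y)
  let Yp := (Over.pullback (S.fromSpecStalk p)).obj Y
  have hYp : Smooth Yp.hom := MorphismProperty.pullback_snd _ _ ‹_›
  have heq : (Over.pullback (S.fromSpecStalk p)).map g = (Over.pullback (S.fromSpecStalk p)).map g' := by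
    refine (hloc p hp Yp hYp).1 (Over.OverMorphism.ext ?_)
    refine pullback.hom_ext ?_ ?_
    · erw [pullback.lift_fst, pullback.lift_fst]
      refine pullback.hom_ext ?_ ?_
      · rw [Category.assoc, Category.assoc]
        erw [pullback.lift_fst, pullback.lift_fst]
        let ι : pullback Yp.hom (Spec.map (S.presheaf.stalkSpecializes (genericPoint_specializes p))) ⟶
            pullback Y.hom η := pullback.lift (pullback.fst _ _ ≫ pullback.fst Y.hom (S.fromSpecStalk p))
              (pullback.snd _ _) (by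
                rw [Category.assoc, pullback.condition, ← Category.assoc]
                erw [pullback.condition]
                rw [Category.assoc, Scheme.SpecMap_stalkSpecializes_fromSpecStalk])
        have hι : ι ≫ pullback.fst Y.hom η = pullback.fst Yp.hom _ ≫ pullback.fst Y.hom (S.fromSpecStalk p) :=
          pullback.lift_fst _ _ _
        rw [← Category.assoc, ← Category.assoc]
        erw [← hι]
        rw [Category.assoc, h, Category.assoc]
      · rw [Category.assoc, Category.assoc]
        erw [pullback.lift_snd, pullback.lift_snd]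
    · erw [pullback.lift_snd, pullback.lift_snd]
  have hf := congrArg (fun φ => φ.left ≫ pullback.fst G.hom (S.fromSpecStalk p)) heq
  erw [pullback.lift_fst, pullback.lift_fst] at hf
  let c : Spec (Y.left.presheaf.stalk y) ⟶ pullback Y.hom (S.fromSpecStalk p) :=
    pullback.lift (Y.left.fromSpecStalk y)
      (Spec.map (Y.hom.stalkMap y) ≫ Spec.map (S.presheaf.stalkSpecializes hsp))
      (by rw [Category.assoc, Scheme.SpecMap_stalkSpecializes_fromSpecStalk,
        Scheme.SpecMap_stalkMap_fromSpecStalk])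
  have hc : c ≫ pullback.fst Y.hom (S.fromSpecStalk p) = Y.left.fromSpecStalk y := pullback.lift_fst _ _ _
  rw [← hc, Category.assoc, Category.assoc]
  exact congrArg (c ≫ ·) hf

include hreg hloc in
theorem bijective_generic (Y : Over S) [Smooth Y.hom] :
    Function.Bijective (fun g : Y ⟶ G => (Over.pullback η).map g) := by
  have hkey : ∀ (g : Y ⟶ G),
      ((Over.pullback η).map g).left ≫ pullback.fst G.hom η = pullback.fst Y.hom η ≫ g.left := fun g =>
    pullback.lift_fst _ _ _
  refine ⟨fun g g' h => injective_generic G hloc Y g g' ?_, fun u => ?_⟩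
  · rw [← hkey, ← hkey]
    exact congrArg (fun φ => φ.left ≫ pullback.fst G.hom η) h
  have : IsLocallyNoetherian Y.left := LocallyOfFiniteType.isLocallyNoetherian Y.hom
  have hu : u.left ≫ pullback.snd G.hom η = pullback.snd Y.hom η := Over.w u
  let uG : pullback Y.hom η ⟶ G.left := u.left ≫ pullback.fst G.hom η
  have huG : uG ≫ G.hom = pullback.fst Y.hom η ≫ Y.hom := by
    show (_ ≫ _) ≫ _ = _
    rw [Category.assoc, pullback.condition, ← Category.assoc, hu, pullback.condition]
  letI : Field (S.presheaf.stalk (genericPoint S)) := inferInstanceAs (Field S.functionField)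
  have : Smooth (pullback.snd Y.hom η) := MorphismProperty.pullback_snd _ _ ‹_›
  have hred : IsReduced (pullback Y.hom η) :=
    isReduced_of_smooth (R := S.presheaf.stalk (genericPoint S)) (pullback.snd Y.hom η)
  -- local extensions
  have hlocal : ∀ y : Y.left, ∃ (W : Y.left.Opens) (_ : y ∈ W) (g : Over.mk (W.ι ≫ Y.hom) ⟶ G),
      pullback.fst (W.ι ≫ Y.hom) η ≫ g.left =
        pullback.lift (pullback.fst (W.ι ≫ Y.hom) η ≫ W.ι) (pullback.snd _ _)
          (by rw [Category.assoc]; exact pullback.condition) ≫ uG := by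
    intro y
    have := isRegularLocalRing_stalk_of_smooth' hreg Y.hom y
    have := H4Depth.isDomain_of_isRegularLocalRing (Y.left.presheaf.stalk y)
    obtain ⟨p, hp, hsp⟩ := exists_closed_specializes (Y.hom y)
    let jp := Spec.map (S.presheaf.stalkSpecializes (genericPoint_specializes p))
    have hjp : jp ≫ S.fromSpecStalk p = η := Scheme.SpecMap_stalkSpecializes_fromSpecStalk _
    let Yp := (Over.pullback (S.fromSpecStalk p)).obj Y
    have hYp : Smooth Yp.hom := MorphismProperty.pullback_snd _ _ ‹_›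
    let ι : pullback Yp.hom jp ⟶ pullback Y.hom η :=
      pullback.lift (pullback.fst _ _ ≫ pullback.fst Y.hom (S.fromSpecStalk p)) (pullback.snd _ _) (by
        rw [Category.assoc, pullback.condition, ← Category.assoc]
        erw [pullback.condition]
        rw [Category.assoc, hjp])
    let up : (Over.pullback jp).obj Yp ⟶ (Over.pullback jp).obj ((Over.pullback (S.fromSpecStalk p)).obj G) :=
      Over.homMk (pullback.lift (pullback.lift (ι ≫ uG) (pullback.snd _ _ ≫ jp) (by
          rw [Category.assoc, huG, ← Category.assoc, pullback.lift_fst, Category.assoc, pullback.condition,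
            ← Category.assoc]
          congr 1
          exact pullback.condition))
        (pullback.snd _ _) (pullback.lift_snd _ _ _)) (pullback.lift_snd _ _ _)
    obtain ⟨gp, hgp⟩ := (hloc p hp Yp hYp).2 up
    have hgp' : pullback.fst Yp.hom jp ≫ gp.left ≫ pullback.fst G.hom (S.fromSpecStalk p) = ι ≫ uG := by
      have h1 := congrArg (fun φ => φ.left ≫ pullback.fst _ jp ≫ pullback.fst G.hom (S.fromSpecStalk p)) hgp
      dsimp only [up] at h1
      erw [pullback.lift_fst_assoc, pullback.lift_fst_assoc, pullback.lift_fst, Category.assoc] at h1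
      exact h1
    let c : Spec (Y.left.presheaf.stalk y) ⟶ pullback Y.hom (S.fromSpecStalk p) :=
      pullback.lift (Y.left.fromSpecStalk y)
        (Spec.map (Y.hom.stalkMap y) ≫ Spec.map (S.presheaf.stalkSpecializes hsp))
        (by rw [Category.assoc, Scheme.SpecMap_stalkSpecializes_fromSpecStalk,
          Scheme.SpecMap_stalkMap_fromSpecStalk])
    have hc : c ≫ pullback.fst Y.hom (S.fromSpecStalk p) = Y.left.fromSpecStalk y := pullback.lift_fst _ _ _
    let φ : Spec (Y.left.presheaf.stalk y) ⟶ G.left := c ≫ gp.left ≫ pullback.fst G.hom (S.fromSpecStalk p)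
    have hφ : φ ≫ G.hom = Y.left.fromSpecStalk y ≫ Y.hom := by
      show (_ ≫ _ ≫ _) ≫ _ = _
      rw [Category.assoc, Category.assoc, pullback.condition, ← Category.assoc gp.left]
      erw [Over.w gp]
      rw [← Category.assoc]
      erw [pullback.lift_snd]
      rw [Category.assoc, Scheme.SpecMap_stalkSpecializes_fromSpecStalk, Scheme.SpecMap_stalkMap_fromSpecStalk]
    obtain ⟨W₁, hyW₁, g₁, hg₁, hg₁'⟩ := spread_out_of_isGermInjective' Y.hom G.hom (x := y) φ hφ
    obtain ⟨W₀, hyW₀, -, hW₀⟩ := H17.exists_isIntegral_nhd y (Or.inl inferInstance)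
    let W := W₁ ⊓ W₀
    let g : W.toScheme ⟶ G.left := Y.left.homOfLE inf_le_left ≫ g₁
    have hg : g ≫ G.hom = W.ι ≫ Y.hom := by
      show (_ ≫ _) ≫ _ = _
      rw [Category.assoc, hg₁', Scheme.homOfLE_ι_assoc]
    refine ⟨W, ⟨hyW₁, hyW₀⟩, Over.homMk g hg, ?_⟩
    let k : pullback (W.ι ≫ Y.hom) η ⟶ pullback Y.hom η :=
      pullback.lift (pullback.fst (W.ι ≫ Y.hom) η ≫ W.ι) (pullback.snd _ _)
        (by rw [Category.assoc]; exact pullback.condition)
    show pullback.fst (W.ι ≫ Y.hom) η ≫ g = k ≫ uG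
    let Q := pullback (W.ι ≫ Y.hom) η
    have hk : k ≫ pullback.fst Y.hom η = pullback.fst (W.ι ≫ Y.hom) η ≫ W.ι := pullback.lift_fst _ _ _
    have hQred : IsReduced Q := by
      have : IsOpenImmersion k := by
        have hsq : IsPullback (pullback.fst (W.ι ≫ Y.hom) η) k W.ι (pullback.fst Y.hom η) :=
          IsPullback.of_bot (v₂₁ := pullback.snd Y.hom η) (v₂₂ := Y.hom) (h₃₁ := η)
            (by rw [pullback.lift_snd]; exact (IsPullback.of_hasPullback (W.ι ≫ Y.hom) η).flip.flip) hk.symm
            (IsPullback.of_hasPullback Y.hom η)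
        exact MorphismProperty.of_isPullback hsq inferInstance
      exact isReduced_of_isOpenImmersion k
    -- the generic point
    have : Nonempty W₀.toScheme := ⟨⟨y, hyW₀⟩⟩
    let ξ₀ : W₀.toScheme := genericPoint W₀.toScheme
    have hξW₁ : W₀.ι ξ₀ ∈ W₁ :=
      (((genericPoint_spec W₀.toScheme).specializes (Set.mem_univ (⟨y, hyW₀⟩ : W₀.toScheme))).map
        W₀.ι.continuous).mem_open W₁.2 hyW₁
    let ξ : W.toScheme := ⟨W₀.ι ξ₀, hξW₁, ξ₀.2⟩
    have hξ : ∀ v : W.toScheme, ξ ⤳ v := fun v =>
      W.ι.isOpenEmbedding.isEmbedding.specializes_iff.mp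
        (((genericPoint_spec W₀.toScheme).specializes (Set.mem_univ (⟨v.1, v.2.2⟩ : W₀.toScheme))).map
          W₀.ι.continuous)
    have hgenS : (W.ι ≫ Y.hom) ξ = genericPoint S := by
      obtain ⟨ξ', hξ', hξ'η⟩ := Flat.generalizingMap (W.ι ≫ Y.hom) (genericPoint_specializes ((W.ι ≫ Y.hom) ξ))
      rw [← hξ'η, (hξ'.antisymm (hξ ξ')).eq]
    have hrange : ξ ∈ Set.range (pullback.fst (W.ι ≫ Y.hom) η) := by
      rw [Scheme.Pullback.range_fst]
      show (W.ι ≫ Y.hom) ξ ∈ Set.range η
      rw [hgenS]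
      exact ⟨IsLocalRing.closedPoint _, Scheme.fromSpecStalk_closedPoint⟩
    obtain ⟨w, hw⟩ := hrange
    let r := Q.fromSpecResidueField w
    have : IsPreimmersion (pullback.fst (W.ι ≫ Y.hom) η) :=
      MorphismProperty.of_isPullback (IsPullback.of_hasPullback (W.ι ≫ Y.hom) η).flip inferInstance
    have : IsDominant r := by
      refine isDominant_of_specializes r (IsLocalRing.closedPoint _) fun v => ?_
      refine (pullback.fst (W.ι ≫ Y.hom) η).isEmbedding.isInducing.specializes_iff.mp ?_
      rw [show r (IsLocalRing.closedPoint _) = w from Scheme.fromSpecResidueField_apply _ _, hw]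
      exact hξ _
    refine ext_of_isDominant_of_isSeparated G.hom ?_ r ?_
    · rw [Category.assoc, hg, Category.assoc, huG, reassoc_of% hk]
    -- at the generic point
    let T := Spec (Q.residueField w)
    let q : T ⟶ Y.left := r ≫ pullback.fst (W.ι ≫ Y.hom) η ≫ W.ι
    let ζ : Y.left := W.ι (pullback.fst (W.ι ≫ Y.hom) η w)
    have hζy : ζ ⤳ y := by
      show W.ι (pullback.fst (W.ι ≫ Y.hom) η w) ⤳ y
      rw [hw]
      exact ((genericPoint_spec W₀.toScheme).specializes (Set.mem_univ (⟨y, hyW₀⟩ : W₀.toScheme))).map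
        W₀.ι.continuous
    let l : T ⟶ Spec (Y.left.presheaf.stalk y) :=
      Spec.map ((pullback.fst (W.ι ≫ Y.hom) η ≫ W.ι).residueFieldMap w) ≫
        Spec.map (Y.left.residue ((pullback.fst (W.ι ≫ Y.hom) η ≫ W.ι) w)) ≫
          Spec.map (Y.left.presheaf.stalkSpecializes hζy)
    have hl : l ≫ Y.left.fromSpecStalk y = q := by
      show (_ ≫ _ ≫ _) ≫ _ = _
      simp only [Category.assoc, Scheme.SpecMap_stalkSpecializes_fromSpecStalk]
      exact Scheme.Hom.SpecMap_residueFieldMap_fromSpecResidueField (pullback.fst (W.ι ≫ Y.hom) η ≫ W.ι) w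
    let a : T ⟶ pullback Y.hom (S.fromSpecStalk p) := l ≫ c
    have ha : a ≫ Yp.hom = (r ≫ pullback.snd (W.ι ≫ Y.hom) η) ≫ jp := by
      have : Mono (S.fromSpecStalk p) := inferInstance
      rw [← cancel_mono (S.fromSpecStalk p), Category.assoc (r ≫ _), hjp, Category.assoc]
      erw [← pullback.condition]
      show a ≫ pullback.fst Y.hom _ ≫ Y.hom = _
      rw [← Category.assoc]
      show ((l ≫ c) ≫ _) ≫ _ = _
      rw [Category.assoc l, hc, hl]
      simp only [q, Category.assoc, pullback.condition]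
    let t : T ⟶ pullback Yp.hom jp := pullback.lift a (r ≫ pullback.snd (W.ι ≫ Y.hom) η) ha
    have ht : t ≫ ι = r ≫ k := by
      refine pullback.hom_ext ?_ ?_
      · simp only [Category.assoc, ι, k, pullback.lift_fst]
        erw [pullback.lift_fst_assoc]
        show (l ≫ c) ≫ _ = _
        rw [Category.assoc, hc, hl]
      · simp only [Category.assoc, ι, k, pullback.lift_snd]
        exact pullback.lift_snd _ _ _
    have hlW : r ≫ pullback.fst (W.ι ≫ Y.hom) η ≫ Y.left.homOfLE (inf_le_left : W ≤ W₁) =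
        l ≫ W₁.fromSpecStalkOfMem y hyW₁ := by
      rw [← cancel_mono W₁.ι]
      simp only [Category.assoc, Scheme.homOfLE_ι, Scheme.Opens.fromSpecStalkOfMem_ι, hl, q]
    show r ≫ pullback.fst _ _ ≫ Y.left.homOfLE _ ≫ g₁ = r ≫ k ≫ uG
    rw [← Category.assoc (pullback.fst _ _), ← Category.assoc r, hlW, Category.assoc, ← hg₁,
      ← Category.assoc r k, ← ht, Category.assoc t, ← hgp']
    erw [pullback.lift_fst_assoc]
    rfl
  choose W hyW g hg using hlocal
  have hcov : IsOpenCover W := IsOpenCover.mk (eq_top_iff.mpr fun y _ => Opens.mem_iSup.mpr ⟨y, hyW y⟩)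
  let 𝒰 := Y.left.openCoverOfIsOpenCover W hcov
  have hcomp : ∀ i j : Y.left, Y.left.homOfLE (inf_le_left : W i ⊓ W j ≤ W i) ≫ (g i).left =
      Y.left.homOfLE (inf_le_right : W i ⊓ W j ≤ W j) ≫ (g j).left := by
    intro i j
    let Z : Over S := Over.mk ((W i ⊓ W j).ι ≫ Y.hom)
    have : Smooth Z.hom := by
      show Smooth (_ ≫ _)
      infer_instance
    let a : Z ⟶ G := (Over.homMk (Y.left.homOfLE (inf_le_left : W i ⊓ W j ≤ W i)) (by
      show Y.left.homOfLE _ ≫ (W i).ι ≫ Y.hom = _
      rw [Scheme.homOfLE_ι_assoc]; rfl) : Z ⟶ Over.mk ((W i).ι ≫ Y.hom)) ≫ g i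
    let b : Z ⟶ G := (Over.homMk (Y.left.homOfLE (inf_le_right : W i ⊓ W j ≤ W j)) (by
      show Y.left.homOfLE _ ≫ (W j).ι ≫ Y.hom = _
      rw [Scheme.homOfLE_ι_assoc]; rfl) : Z ⟶ Over.mk ((W j).ι ≫ Y.hom)) ≫ g j
    have hside : ∀ (m : Y.left) (hm : W i ⊓ W j ≤ W m),
        pullback.fst Z.hom η ≫ Y.left.homOfLE hm ≫ (g m).left =
          pullback.lift (pullback.fst Z.hom η ≫ (W i ⊓ W j).ι) (pullback.snd _ _)
            (by rw [Category.assoc]; exact pullback.condition) ≫ uG := by
      intro m hm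
      let e : pullback Z.hom η ⟶ pullback ((W m).ι ≫ Y.hom) η :=
        pullback.lift (pullback.fst Z.hom η ≫ Y.left.homOfLE hm) (pullback.snd _ _) (by
          rw [Category.assoc, Scheme.homOfLE_ι_assoc]; exact pullback.condition)
      rw [← Category.assoc, show pullback.fst Z.hom η ≫ Y.left.homOfLE hm = e ≫ pullback.fst _ _ from
        (pullback.lift_fst _ _ _).symm, Category.assoc, hg m, ← Category.assoc]
      congr 1
      refine pullback.hom_ext ?_ ?_
      · simp only [e, Category.assoc, pullback.lift_fst, pullback.lift_fst_assoc, Scheme.homOfLE_ι]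
      · simp only [e, Category.assoc, pullback.lift_snd]
    exact congrArg (fun φ => φ.left)
      (injective_generic G hloc Z a b ((hside i inf_le_left).trans (hside j inf_le_right).symm))
  let gG : Y.left ⟶ G.left := 𝒰.glueMorphisms (fun i => (g i).left) fun i j => by
    have h1 := isPullback_opens_inf (W i) (W j)
    refine (cancel_epi h1.isoPullback.hom).mp ?_
    show h1.isoPullback.hom ≫ pullback.fst _ _ ≫ _ = h1.isoPullback.hom ≫ pullback.snd _ _ ≫ _
    rw [h1.isoPullback_hom_fst_assoc, h1.isoPullback_hom_snd_assoc]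
    exact hcomp i j
  have hgG : ∀ i, (W i).ι ≫ gG = (g i).left := fun i => 𝒰.ι_glueMorphisms _ _ i
  refine ⟨Over.homMk gG (𝒰.hom_ext _ _ fun i => ?_), ?_⟩
  · show (W i).ι ≫ gG ≫ G.hom = (W i).ι ≫ Y.hom
    rw [reassoc_of% (hgG i)]
    exact Over.w (g i)
  refine Over.OverMorphism.ext (pullback.hom_ext ?_ ?_)
  · erw [pullback.lift_fst]
    show pullback.fst Y.hom η ≫ gG = uG
    refine Scheme.Cover.hom_ext (Scheme.openCoverOfIsOpenCover _ (fun i => pullback.fst Y.hom η ⁻¹ᵁ W i)
      (IsOpenCover.mk (eq_top_iff.mpr fun y _ => Opens.mem_iSup.mpr ⟨_, hyW (pullback.fst Y.hom η y)⟩))) _ _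
      fun i => ?_
    show (pullback.fst Y.hom η ⁻¹ᵁ W i).ι ≫ _ = (pullback.fst Y.hom η ⁻¹ᵁ W i).ι ≫ _
    let e : (pullback.fst Y.hom η ⁻¹ᵁ W i).toScheme ⟶ pullback ((W i).ι ≫ Y.hom) η :=
      pullback.lift (pullback.fst Y.hom η ∣_ W i) ((pullback.fst Y.hom η ⁻¹ᵁ W i).ι ≫ pullback.snd _ _) (by
        rw [Category.assoc, ← pullback.condition, morphismRestrict_ι_assoc])
    rw [← morphismRestrict_ι_assoc, hgG i, show pullback.fst Y.hom η ∣_ W i = e ≫ pullback.fst _ _ from
      (pullback.lift_fst _ _ _).symm, Category.assoc, hg i, ← Category.assoc]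
    congr 1
    refine pullback.hom_ext ?_ ?_
    · simp only [e, Category.assoc, pullback.lift_fst, pullback.lift_fst_assoc, morphismRestrict_ι]
    · simp only [e, Category.assoc, pullback.lift_snd]
  · erw [pullback.lift_snd]
    exact hu.symm

end Groth.Agent.H28Neron
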