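import Mathlib.AlgebraicGeometry.Morphisms.QuasiFinite
import Mathlib.RingTheory.DedekindDomain.Dvr
import Mathlib.RingTheory.Valuation.ValuationRing
import Mathlib.RingTheory.LocalRing.ResidueField.Fiber
import Mathlib.RingTheory.Flat.TorsionFree
import Mathlib.LinearAlgebra.Dimension.Finite
import Groth.Prelude.Def_Neron

/-!
# Flat schemes over a Dedekind base with quasi-finite generic fibre
-/

namespace Groth.Agent.H28Neron

open CategoryTheory CategoryTheory.Limits AlgebraicGeometry TensorProduct

universe u

variable (R : Type u) [CommRing R] [IsDedekindDomain R]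

/-- A finite family of elements has one of least order at a prime. -/
lemma exists_scaled {ι : Type*} [Fintype ι] (P : Ideal R) [P.IsPrime] (c : ι → R) (hc : ∃ i, c i ≠ 0) :
    ∃ (a : ι → R) (i : ι) (s : R), c i ≠ 0 ∧ a i ∉ P ∧ ∀ j, s * c j = a j * c i ∧ a i = s := by
  classical
  set Rp := Localization.AtPrime P with hRp
  have hpir : IsPrincipalIdealRing Rp := by
    rcases eq_or_ne P ⊥ with h | h
    · subst h
      exact (IsPrincipalIdealRing.of_surjective (RingHom.id Rp) Function.surjective_id :)
    · have := IsLocalization.AtPrime.isDiscreteValuationRing_of_dedekind_domain R h Rp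
      infer_instance
  have : ValuationRing Rp := inferInstance
  set φ := algebraMap R Rp with hφ
  have hinj : Function.Injective φ := IsLocalization.injective Rp P.primeCompl_le_nonZeroDivisors
  obtain ⟨i₀, hi₀⟩ := hc
  obtain ⟨i, -, hi⟩ := (Finset.univ : Finset ι).exists_maximalFor
    (fun i => Ideal.span ({φ (c i)} : Set Rp)) ⟨i₀, Finset.mem_univ _⟩
  have hdvd : ∀ j, φ (c i) ∣ φ (c j) := fun j => by
    rcases ValuationRing.dvd_total (φ (c i)) (φ (c j)) with h | h
    · exact h
    · rw [← Ideal.span_singleton_le_span_singleton]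
      exact hi (Finset.mem_univ j) (Ideal.span_singleton_le_span_singleton.2 h)
  have hci : c i ≠ 0 := fun h0 => hi₀ (hinj (by
    have := hdvd i₀
    rw [h0, map_zero, zero_dvd_iff] at this
    rw [this, map_zero]))
  choose x hx using hdvd
  obtain ⟨b, hb⟩ := IsLocalization.exist_integer_multiples_of_finite P.primeCompl x
  choose a ha using hb
  have ha' : ∀ j, φ (a j) = φ (b : R) * x j := fun j => (ha j).trans (Algebra.smul_def _ _)
  have hai : a i = b := hinj (by
    have h1 : x i = 1 := mul_left_cancel₀ (fun h0 => hci (hinj (h0.trans (map_zero φ).symm))) ((hx i).symm.trans (mul_one _).symm)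
    rw [ha', h1, mul_one])
  refine ⟨a, i, b, hci, hai ▸ b.2, fun j => ⟨hinj ?_, hai⟩⟩
  rw [map_mul, map_mul, ha', hx j]
  ring

variable (B : Type u) [CommRing B] [Algebra R B] [Module.Flat R B]

theorem quasiFinite_of_flat [Module.Finite (FractionRing R) (FractionRing R ⊗[R] B)] :
    Algebra.QuasiFinite R B := by
  classical
  set K := FractionRing R
  have htf : Module.IsTorsionFree R B := inferInstance
  refine ⟨fun P _ => ?_⟩
  set d := Module.finrank K (K ⊗[R] B)
  suffices hrank : Module.rank P.ResidueField (P.Fiber B) ≤ d from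
    Module.rank_lt_aleph0_iff.1 (hrank.trans_lt Cardinal.natCast_lt_aleph0)
  refine rank_le fun t ht => ?_
  by_contra hlt
  push Not at hlt
  choose r hr b hb using fun x : t => Ideal.Fiber.exists_smul_eq_one_tmul P (x : P.Fiber B)
  have hr0 : ∀ x, algebraMap R P.ResidueField (r x) ≠ 0 := fun x h0 =>
    hr x (Ideal.algebraMap_residueField_eq_zero.1 h0)
  let ι : B →ₗ[R] K ⊗[R] B := (TensorProduct.mk R K B 1)
  have hι : Function.Injective ι := Algebra.TensorProduct.includeRight_injective (IsFractionRing.injective R K)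
  have hdep : ¬ LinearIndependent R b := fun h => by
    have h2 := (LinearIndependent.iff_fractionRing (R := R) (K := K)).1 (h.map' ι (LinearMap.ker_eq_bot.2 hι))
    have h3 := h2.fintype_card_le_finrank
    rw [Fintype.card_coe] at h3
    omega
  rw [Fintype.linearIndependent_iff] at hdep
  push Not at hdep
  obtain ⟨c, hc, hne⟩ := hdep
  obtain ⟨a, i, s, hci, hai, ha⟩ := exists_scaled R P c hne
  have hsum : ∑ j, a j • b j = 0 := by
    have h0 : c i • ∑ j, a j • b j = 0 := by
      rw [Finset.smul_sum]
      calc ∑ j, c i • a j • b j = ∑ j, s • c j • b j :=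
            Finset.sum_congr rfl fun j _ => by rw [smul_smul, smul_smul, (ha j).1, mul_comm (a j)]
        _ = 0 := by rw [← Finset.smul_sum, hc, smul_zero]
    exact (smul_eq_zero.1 h0).resolve_left hci
  have hz : ∑ j, algebraMap R P.ResidueField (a j * r j) • (j : P.Fiber B) = 0 := by
    have e : ∀ j : t, algebraMap R P.ResidueField (a j * r j) • (j : P.Fiber B) =
        (1 : P.ResidueField) ⊗ₜ[R] (a j • b j) := fun j => by
      rw [algebraMap_smul, mul_smul, hb, TensorProduct.tmul_smul]
    rw [Finset.sum_congr rfl fun j _ => e j, ← TensorProduct.tmul_sum, hsum, TensorProduct.tmul_zero]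
  have := Fintype.linearIndependent_iff.1 ht _ hz i
  rw [map_mul, mul_eq_zero] at this
  exact this.elim (fun h0 => hai (Ideal.algebraMap_residueField_eq_zero.1 h0)) (hr0 i)

theorem locallyQuasiFinite_of_generic (R : Type u) [CommRing R] [IsDedekindDomain R]
    (H : Over (Spec (CommRingCat.of R))) [Flat H.hom]
    (hgen : LocallyQuasiFinite ((Neron.genericFibre R).obj H).hom) : LocallyQuasiFinite H.hom := by
  rw [IsZariskiLocalAtSource.iff_of_openCover (P := @LocallyQuasiFinite) H.left.affineCover]
  suffices key : ∀ (B : CommRingCat.{u}) (j : Spec B ⟶ H.left), IsOpenImmersion j →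
      LocallyQuasiFinite (j ≫ H.hom) from fun i => key _ _ (H.left.affineCover.map_prop i)
  intro B j hj
  obtain ⟨φ, hφ⟩ := Spec.map_surjective (j ≫ H.hom)
  have hflat : φ.hom.Flat := (HasRingHomProperty.Spec_iff (P := @Flat)).1 (hφ ▸ inferInstance)
  show LocallyQuasiFinite (j ≫ H.hom)
  rw [← hφ, HasRingHomProperty.Spec_iff (P := @LocallyQuasiFinite)]
  let := φ.hom.toAlgebra
  have : Module.Flat R B := hflat
  let K := FractionRing R
  let g := Neron.genPt R
  have hsnd : LocallyQuasiFinite (pullback.snd H.hom g) := hgen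
  let m : pullback (j ≫ H.hom) g ⟶ pullback H.hom g :=
    pullback.map _ _ _ _ j (𝟙 _) (𝟙 _) (by simp) (by simp)
  have hm : IsOpenImmersion m := inferInstance
  have h1 : LocallyQuasiFinite (pullback.snd (j ≫ H.hom) g) := by
    have : pullback.snd (j ≫ H.hom) g = m ≫ pullback.snd H.hom g :=
      ((pullback.lift_snd _ _ _).trans (Category.comp_id _)).symm
    rw [this]
    infer_instance
  have h2 : LocallyQuasiFinite (pullback.snd (Spec.map φ) g) := by rw [hφ]; exact h1
  have h3 : LocallyQuasiFinite (Spec.map (CommRingCat.ofHom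
      (Algebra.TensorProduct.includeLeftRingHom : K →+* K ⊗[R] B))) := by
    rw [← pullbackSpecIso_inv_fst R K]
    have h4 : LocallyQuasiFinite (pullback.fst g (Spec.map φ)) := by
      rw [← pullbackSymmetry_hom_comp_snd]
      infer_instance
    exact MorphismProperty.comp_mem _ _ _ inferInstance h4
  rw [HasRingHomProperty.Spec_iff (P := @LocallyQuasiFinite)] at h3
  have h5 : Algebra.QuasiFinite K (K ⊗[R] B) := RingHom.quasiFinite_algebraMap.1 h3
  have : Module.Finite K (K ⊗[R] B) := Algebra.QuasiFinite.iff_of_isArtinianRing.1 h5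
  exact quasiFinite_of_flat R B

end Groth.Agent.H28Neron
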