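import Mathlib
import Groth.Agent.H14AlgSt.SliceRing
import Groth.Agent.H8Props.EtalePrescribedResidue

/-!
# Étale quasi-sections of smooth algebras through fibrewise closed points in characteristic zero
-/

set_option autoImplicit false
set_option linter.style.haveILetI false
universe u
open TensorProduct
set_option synthInstance.maxHeartbeats 200000

namespace Groth.Agent.H28Neron

/-- A point of a smooth algebra with values in a finite separable extension of the residue field of a
point of the base lies on an étale quasi-section. -/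
theorem exists_etale_quasiSection_aux {B A K L : Type u} [CommRing B] [CommRing A] [Algebra B A]
    [Algebra.Smooth B A] [Field K] [Field L] [Algebra B K] [Algebra B L] [Algebra K L]
    [IsScalarTower B K L] [FiniteDimensional K L] [Algebra.IsSeparable K L]
    (hfrac : ∀ x : K, ∃ a b : B, algebraMap B K b ≠ 0 ∧ algebraMap B K b * x = algebraMap B K a)
    (ρ : A →+* L) (hρB : ∀ b, ρ (algebraMap B A b) = algebraMap B L b) :
    ∃ (E : Type u) (_ : CommRing E) (_ : Algebra B E) (_ : Algebra.Etale B E) (φ : A →ₐ[B] E)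
      (P : Ideal E) (_ : P.IsPrime), P.comap φ.toRingHom = RingHom.ker ρ := by
  classical
  haveI : (RingHom.ker ρ).IsPrime := RingHom.ker_isPrime ρ
  obtain ⟨κ, hκ, v, g, hg, het⟩ :=
    H14AlgSt.exists_etale_coordinates (B := B) (id : A → A) (KaehlerDifferential.span_range_derivation B A)
      (RingHom.ker ρ)
  obtain ⟨R', _, _, _, ψ, hψ⟩ :=
    H8Props.EtalePrescribedResidue.exists_etale_generating (R := B) (K := K) (L := L) hfrac
  haveI := hκ
  haveI : Fintype κ := Fintype.ofFinite κ
  have hlift : ∀ i : κ, ∃ c e : R', ψ e ≠ 0 ∧ ρ (v i) * ψ e = ψ c := by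
    intro i
    have hmem : ρ (v i) ∈ Subfield.closure (Set.range ψ) := hψ ▸ Subfield.mem_top _
    obtain ⟨y, hy, z, hz, hyz⟩ := Subfield.mem_closure_iff.mp hmem
    have hsub : Subring.closure (Set.range ψ) ≤ ψ.toRingHom.range :=
      Subring.closure_le.mpr (by rintro _ ⟨r, rfl⟩; exact ⟨r, rfl⟩)
    obtain ⟨c, rfl⟩ := hsub hy
    obtain ⟨e, rfl⟩ := hsub hz
    by_cases he : ψ e = 0
    · refine ⟨0, 1, by simp, ?_⟩
      rw [← hyz]
      simp [he]
    · exact ⟨c, e, he, by rw [← hyz]; exact div_mul_cancel₀ _ he⟩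
  choose c e he hce using hlift
  let d : R' := ∏ i, e i
  have hd : IsUnit (ψ d) := by
    rw [isUnit_iff_ne_zero, map_prod, Finset.prod_ne_zero_iff]
    exact fun i _ => he i
  let E₀ := Localization.Away d
  haveI : Algebra.Etale R' E₀ := Algebra.Etale.of_isLocalizationAway d
  haveI : Algebra.Etale B E₀ := Algebra.Etale.comp B R' E₀
  let ψ₀ : E₀ →+* L := IsLocalization.Away.lift d (g := ψ.toRingHom) hd
  have hψ₀ : ∀ r, ψ₀ (algebraMap R' E₀ r) = ψ r := fun r => IsLocalization.Away.lift_eq d hd r
  have hψ₀B : ∀ b, ψ₀ (algebraMap B E₀ b) = algebraMap B _ b := fun b => by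
    rw [IsScalarTower.algebraMap_apply B R' E₀, hψ₀, ψ.commutes]
  have heu : ∀ i, IsUnit (algebraMap R' E₀ (e i)) := fun i =>
    isUnit_of_dvd_unit (map_dvd _ (Finset.dvd_prod_of_mem e (Finset.mem_univ i)))
      (IsLocalization.Away.algebraMap_isUnit d)
  let x : κ → E₀ := fun i => algebraMap R' E₀ (c i) * ↑(heu i).unit⁻¹
  have hx : ∀ i, ψ₀ (x i) = ρ (v i) := fun i => by
    refine mul_right_cancel₀ (he i) ?_
    rw [hce, ← hψ₀ (e i), ← map_mul, ← hψ₀ (c i)]
    simp only [x, mul_assoc, IsUnit.val_inv_mul, mul_one]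
  let P := MvPolynomial κ B
  let fE : P →+* E₀ := (MvPolynomial.aeval (R := B) x).toRingHom
  let fA : P →+* Localization.Away g :=
    (MvPolynomial.aeval (R := B) fun i => algebraMap A (Localization.Away g) (id (v i))).toRingHom
  let ρg : Localization.Away g →+* L :=
    IsLocalization.Away.lift g (g := ρ) (isUnit_iff_ne_zero.mpr hg)
  have hρg : ∀ a, ρg (algebraMap A _ a) = ρ a := fun a => IsLocalization.Away.lift_eq g _ a
  have hcomp : ψ₀.comp fE = ρg.comp fA := by
    refine MvPolynomial.ringHom_ext (fun b => ?_) (fun i => ?_)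
    · show ψ₀ (fE (MvPolynomial.C b)) = ρg (fA (MvPolynomial.C b))
      simp only [fE, fA, AlgHom.toRingHom_eq_coe, RingHom.coe_coe]
      erw [MvPolynomial.aeval_C, MvPolynomial.aeval_C]
      rw [hψ₀B, IsScalarTower.algebraMap_apply B A (Localization.Away g), hρg, hρB]
    · show ψ₀ (fE (MvPolynomial.X i)) = ρg (fA (MvPolynomial.X i))
      simp only [fE, fA, AlgHom.toRingHom_eq_coe, RingHom.coe_coe]
      erw [MvPolynomial.aeval_X, MvPolynomial.aeval_X]
      rw [hx, hρg]
      rfl
  letI : Algebra P E₀ := fE.toAlgebra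
  letI : Algebra P (Localization.Away g) := fA.toAlgebra
  letI : Algebra P (L) := (ψ₀.comp fE).toAlgebra
  haveI : Algebra.Etale P (Localization.Away g) := het
  let E := E₀ ⊗[P] Localization.Away g
  haveI : Algebra.Etale E₀ E := inferInstance
  haveI : IsScalarTower B E₀ E := inferInstance
  haveI : Algebra.Etale B E := Algebra.Etale.comp B E₀ E
  let a₀ : E₀ →ₐ[P] L := { ψ₀ with commutes' := fun q => rfl }
  let a₁ : Localization.Away g →ₐ[P] L :=
    { ρg with commutes' := fun q => (RingHom.congr_fun hcomp q).symm }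
  let χ : E →ₐ[P] L := Algebra.TensorProduct.lift a₀ a₁ fun _ _ => mul_comm _ _
  let φ : A →ₐ[B] E :=
    { ((Algebra.TensorProduct.includeRight (R := P) (A := E₀) (B := Localization.Away g)).toRingHom).comp
        (algebraMap A (Localization.Away g)) with
      commutes' := fun b => by
        show (1 : E₀) ⊗ₜ[P] algebraMap A (Localization.Away g) (algebraMap B A b) = algebraMap B E b
        have h1 : algebraMap A (Localization.Away g) (algebraMap B A b) = fA (MvPolynomial.C b) := by
          simp only [fA, AlgHom.toRingHom_eq_coe, RingHom.coe_coe]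
          erw [MvPolynomial.aeval_C]
          rw [IsScalarTower.algebraMap_apply B A (Localization.Away g)]
        have h2 : algebraMap B E₀ b = fE (MvPolynomial.C b) := by
          simp only [fE, AlgHom.toRingHom_eq_coe, RingHom.coe_coe]
          erw [MvPolynomial.aeval_C]
        rw [h1, IsScalarTower.algebraMap_apply B E₀ E, h2]
        exact ((Algebra.TensorProduct.includeRight (R := P) (A := E₀) (B := Localization.Away g)).commutes _).trans
          (Algebra.TensorProduct.algebraMap_apply _) }
  refine ⟨E, inferInstance, inferInstance, inferInstance, φ, RingHom.ker χ.toRingHom, RingHom.ker_isPrime _, ?_⟩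
  rw [RingHom.comap_ker]
  congr 1
  refine RingHom.ext fun a => ?_
  show a₀ 1 * a₁ (algebraMap A (Localization.Away g) a) = ρ a
  rw [map_one, one_mul]
  exact hρg a

/-- A closed point of a fibre of a smooth algebra lies on an étale quasi-section, in residue
characteristic zero. -/
theorem exists_etale_quasiSection {B A : Type u} [CommRing B] [CommRing A] [Algebra B A] [Algebra.Smooth B A]
    (p : Ideal B) [p.IsPrime] [CharZero p.ResidueField] (M : Ideal (p.Fiber A)) [M.IsMaximal]
    (ρ : A →+* p.Fiber A ⧸ M) (hρ : ∀ a, ρ a = Ideal.Quotient.mk M ((1 : p.ResidueField) ⊗ₜ a)) :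
    ∃ (E : Type u) (_ : CommRing E) (_ : Algebra B E) (_ : Algebra.Etale B E) (φ : A →ₐ[B] E)
      (P : Ideal E) (_ : P.IsPrime), P.comap φ.toRingHom = RingHom.ker ρ := by
  letI : Field (p.Fiber A ⧸ M) := Ideal.Quotient.field M
  haveI : Module.Finite p.ResidueField (p.Fiber A ⧸ M) :=
    finite_of_finite_type_of_isJacobsonRing p.ResidueField (p.Fiber A ⧸ M)
  have hfrac : ∀ x : p.ResidueField, ∃ a b : B, algebraMap B p.ResidueField b ≠ 0 ∧
      algebraMap B p.ResidueField b * x = algebraMap B p.ResidueField a := by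
    intro x
    obtain ⟨⟨a, b⟩, rfl⟩ : ∃ q : B × p.primeCompl, x = algebraMap B p.ResidueField q.1 / algebraMap B p.ResidueField q.2 := by
      obtain ⟨y, rfl⟩ := IsLocalRing.residue_surjective (R := Localization.AtPrime p) x
      obtain ⟨a, b, rfl⟩ := IsLocalization.exists_mk'_eq p.primeCompl y
      refine ⟨(a, b), ?_⟩
      have hb : algebraMap B p.ResidueField b ≠ 0 := fun h0 =>
        b.2 (by rwa [← RingHom.mem_ker, Ideal.ker_algebraMap_residueField] at h0)
      rw [eq_div_iff hb]
      have := congrArg (IsLocalRing.residue (Localization.AtPrime p)) (IsLocalization.mk'_spec (Localization.AtPrime p) a b)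
      rw [map_mul] at this
      exact this
    have hb : algebraMap B p.ResidueField b ≠ 0 := fun h0 =>
      b.2 (by rwa [← RingHom.mem_ker, Ideal.ker_algebraMap_residueField] at h0)
    exact ⟨a, b, hb, by rw [mul_div_cancel₀ _ hb]⟩
  refine exists_etale_quasiSection_aux hfrac ρ fun b => ?_
  rw [hρ, IsScalarTower.algebraMap_apply B (p.Fiber A) (p.Fiber A ⧸ M)]
  congr 1
  exact ((Algebra.TensorProduct.includeRight (R := B) (A := p.ResidueField) (B := A)).commutes b)

end Groth.Agent.H28Neron
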