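import Groth.Agent.H7Lim.MaximalPoints
import Mathlib

/-!
# Quasi-finite flat separated morphisms of generic rank at most one are open immersions
-/

set_option autoImplicit false
set_option linter.style.haveILetI false
universe u
open CategoryTheory Limits AlgebraicGeometry

namespace Groth.Agent.H28Neron

open Groth.Agent.H7Lim (IsMaxPoint exists_isMaxPoint_specializes)

lemma isMaxPoint_image {X Y : Scheme.{u}} (f : X ⟶ Y) [Flat f] {x : X} (hx : IsMaxPoint x) :
    IsMaxPoint (f x) := by
  intro t ht
  obtain ⟨x', hx', rfl⟩ := Flat.generalizingMap f ht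
  rw [hx x' hx']

variable {T S : Scheme.{u}} (g : T ⟶ S)

/-- Base change of a fibre to a larger field. -/
lemma prop_snd_fromSpec_comp {P : MorphismProperty Scheme.{u}} [P.IsStableUnderBaseChange]
    {U : Scheme.{u}} (φ : U ⟶ S) (w : U) (h : P (pullback.snd g (S.fromSpecResidueField (φ w)))) :
    P (pullback.snd g (U.fromSpecResidueField w ≫ φ)) := by
  rw [← Scheme.Hom.SpecMap_residueFieldMap_fromSpecResidueField φ w]
  refine MorphismProperty.of_isPullback (P := P) (f := Spec.map (φ.residueFieldMap w))
    (f' := pullback.lift (pullback.fst _ _) (pullback.snd _ _ ≫ Spec.map (φ.residueFieldMap w))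
      (by rw [Category.assoc]; exact pullback.condition)) ?_ h
  refine IsPullback.of_right ?_ (pullback.lift_snd _ _ _) (IsPullback.of_hasPullback _ _)
  rw [pullback.lift_fst]
  exact IsPullback.of_hasPullback _ _

variable [Flat g] [IsSeparated g]
  (hmax : ∀ s : S, IsMaxPoint s → IsOpenImmersion (pullback.snd g (S.fromSpecResidueField s)))

include hmax in
lemma universallyInjective_of_generic : UniversallyInjective g := by
  rw [UniversallyInjective.iff_diagonal]
  refine ⟨fun z => ?_⟩
  obtain ⟨z₀, hz₀, hsp⟩ := exists_isMaxPoint_specializes z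
  suffices h : z₀ ∈ Set.range (pullback.diagonal g) from
    hsp.mem_closed (pullback.diagonal g).isClosedEmbedding.isClosed_range h
  let π := pullback.fst g g ≫ g
  haveI := hmax _ (isMaxPoint_image π hz₀)
  let c := (pullback g g).fromSpecResidueField z₀
  let K := Spec.map (π.residueFieldMap z₀)
  have hK : K ≫ S.fromSpecResidueField (π z₀) = c ≫ π :=
    Scheme.Hom.SpecMap_residueFieldMap_fromSpecResidueField π z₀
  have h1 : (c ≫ pullback.fst g g) ≫ g = K ≫ S.fromSpecResidueField (π z₀) := by
    rw [hK, Category.assoc]
  have h2 : (c ≫ pullback.snd g g) ≫ g = K ≫ S.fromSpecResidueField (π z₀) := by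
    rw [hK, Category.assoc, ← pullback.condition]
  have e : pullback.lift _ _ h1 = pullback.lift _ _ h2 := by
    rw [← cancel_mono (pullback.snd g (S.fromSpecResidueField (π z₀))), pullback.lift_snd, pullback.lift_snd]
  have e' : c ≫ pullback.fst g g = c ≫ pullback.snd g g := by
    have h3 := congrArg (· ≫ pullback.fst g (S.fromSpecResidueField (π z₀))) e
    simp only at h3
    erw [pullback.lift_fst, pullback.lift_fst] at h3
    exact h3
  have hc : c = (c ≫ pullback.fst g g) ≫ pullback.diagonal g := by
    apply pullback.hom_ext <;> simp [e']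
  obtain ⟨pt⟩ : Nonempty ↥(Spec ((pullback g g).residueField z₀)) := inferInstance
  refine ⟨(c ≫ pullback.fst g g) pt, ?_⟩
  rw [← Scheme.Hom.comp_apply, ← hc]
  exact Scheme.fromSpecResidueField_apply _ _

include hmax in
/-- Every fibre of a quasi-finite flat separated morphism with trivial generic fibres is empty or trivial. -/
theorem isEmpty_or_isIso_fibre [LocallyQuasiFinite g] [LocallyOfFinitePresentation g] (s : S) :
    IsEmpty ↥(pullback g (S.fromSpecResidueField s)) ∨ IsIso (pullback.snd g (S.fromSpecResidueField s)) := by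
  haveI := universallyInjective_of_generic g hmax
  by_cases hne : ∃ x, g x = s
  swap
  · left
    refine ⟨fun p => hne ⟨pullback.fst g _ p, ?_⟩⟩
    rw [← Scheme.Hom.comp_apply, pullback.condition, Scheme.Hom.comp_apply,
      Scheme.fromSpecResidueField_apply]
  right
  obtain ⟨x, rfl⟩ := hne
  obtain ⟨U, φ, hφ, -, V, W, v, -, hfin, hvx⟩ :=
    exists_etale_isCompl_of_quasiFiniteAt g (x := x) (s := g x) rfl (g.quasiFiniteAt x)
  let r := V.ι ≫ pullback.snd g φ
  haveI : IsFinite r := hfin
  let u := r v
  have hu : φ u = g x := by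
    have h := congrArg (fun m : (V : Scheme.{u}) ⟶ S => m v)
      (show (V.ι ≫ pullback.fst g φ) ≫ g = r ≫ φ by simp [r, pullback.condition])
    simp only [Scheme.Hom.comp_apply] at h
    rw [← hvx]
    exact h.symm
  -- fibres of `r` over points of `U`
  let a := fun w : U => U.fromSpecResidueField w
  let q := fun w : U => pullback.snd (pullback.snd g φ) (a w)
  have hq : ∀ {P : MorphismProperty Scheme.{u}} [P.IsStableUnderBaseChange] (w : U),
      P (pullback.snd g (S.fromSpecResidueField (φ w))) → P (q w) := fun {P} _ w h => by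
    haveI : P.RespectsIso := MorphismProperty.IsStableUnderBaseChange.respectsIso
    show P (pullback.snd (pullback.snd g φ) (a w))
    rw [← pullbackLeftPullbackSndIso_hom_snd g φ (a w), P.cancel_left_of_respectsIso]
    exact prop_snd_fromSpec_comp g φ w h
  let j := fun w : U => pullback.map r (a w) (pullback.snd g φ) (a w) V.ι (𝟙 _) (𝟙 _)
    (by simp [r]) (by simp)
  have hj : ∀ w : U, IsPullback (pullback.fst r (a w)) (j w) V.ι (pullback.fst (pullback.snd g φ) (a w)) :=
    fun w => by
      refine IsPullback.of_bot ?_ (pullback.lift_fst _ _ _).symm (IsPullback.of_hasPullback _ _)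
      simp only [j, pullback.map, pullback.lift_snd, Category.comp_id]
      exact IsPullback.of_hasPullback r (a w)
  have hjq : ∀ w, j w ≫ q w = pullback.snd r (a w) := fun w => (pullback.lift_snd _ _ _).trans (Category.comp_id _)
  have hrank : ∀ (w : U) (p : ↥(Spec (U.residueField w))), (pullback.snd r (a w)).finrank p = r.finrank w :=
    fun w p => by rw [Scheme.Hom.finrank_pullback_snd, Scheme.fromSpecResidueField_apply]
  have hone : r.finrank u = 1 := by
    obtain ⟨η, hη, hηu⟩ := exists_isMaxPoint_specializes u
    obtain ⟨O, hO, huO, hconst⟩ := (IsLocallyConstant.iff_exists_open _).mp r.isLocallyConstant_finrank u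
    rw [← hconst η (hηu.mem_open hO huO), ← hrank η default]
    haveI : IsOpenImmersion (q η) := hq η (hmax _ (isMaxPoint_image φ hη))
    haveI : IsOpenImmersion (j η) := MorphismProperty.of_isPullback (P := @IsOpenImmersion) (hj η) inferInstance
    haveI : IsOpenImmersion (pullback.snd r (a η)) := by rw [← hjq]; infer_instance
    haveI : Surjective (pullback.snd r (a η)) := by
      rw [← Scheme.Hom.one_le_finrank_iff_surjective]
      intro p
      rw [Pi.one_apply, hrank, hconst η (hηu.mem_open hO huO)]
      exact r.one_le_finrank_map v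
    haveI : IsIso (pullback.snd r (a η)) := IsOpenImmersion.isIso _
    rw [Scheme.Hom.finrank_eq_one_of_isIso]
    rfl
  haveI : IsIso (pullback.snd r (a u)) := (Scheme.Hom.isIso_iff_finrank_eq _).mpr (funext fun p => by
    rw [hrank, hone, Pi.one_apply])
  haveI : IsOpenImmersion (j u) := MorphismProperty.of_isPullback (P := @IsOpenImmersion) (hj u) inferInstance
  haveI : UniversallyInjective (q u) := hq u (MorphismProperty.of_isPullback (P := @UniversallyInjective) (IsPullback.of_hasPullback _ _) ‹_›)
  haveI : IsIso (j u) := by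
    haveI : Surjective (j u) := ⟨fun y => ⟨(inv (pullback.snd r (a u))) default,
      (q u).injective (Subsingleton.elim _ _)⟩⟩
    exact IsOpenImmersion.isIso _
  haveI hqu : IsIso (q u) := by
    rw [← isIso_comp_left_iff (j u), hjq]
    infer_instance
  -- descend along the extension of residue fields
  have hiso : IsIso (pullback.snd g (a u ≫ φ)) := by
    rw [← isIso_comp_left_iff (pullbackLeftPullbackSndIso g φ (a u)).hom, pullbackLeftPullbackSndIso_hom_snd]
    exact hqu
  rw [← hu]
  rw [← Scheme.Hom.SpecMap_residueFieldMap_fromSpecResidueField φ u] at hiso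
  let K := Spec.map (φ.residueFieldMap u)
  haveI : Surjective K := ⟨fun x => ⟨default, Subsingleton.elim _ _⟩⟩
  haveI : Flat K := by
    rw [Flat.SpecMap_iff]
    letI := (φ.residueFieldMap u).hom.toAlgebra
    exact RingHom.flat_algebraMap_iff.mpr inferInstance
  haveI : QuasiCompact K := inferInstance
  refine MorphismProperty.of_pullback_snd_of_descendsAlong (P := MorphismProperty.isomorphisms Scheme)
    (Q := @Surjective ⊓ @Flat ⊓ @QuasiCompact) (g := K) ⟨⟨‹_›, ‹_›⟩, ‹_›⟩ ?_
  show IsIso (pullback.snd (pullback.snd g (S.fromSpecResidueField (φ u))) K)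
  rw [← pullbackLeftPullbackSndIso_hom_snd g (S.fromSpecResidueField (φ u)) K]
  infer_instance

end Groth.Agent.H28Neron
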