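import Groth.Agent.H28Neron.UnitClasses
import Groth.Agent.H19Grp.PuncturedLineLaw
import Mathlib

/-!
# Units on a product trivial on the axes
-/

set_option autoImplicit false
set_option linter.style.haveILetI false
set_option backward.isDefEq.respectTransparency false
universe u
open CategoryTheory CategoryTheory.Limits MonoidalCategory CartesianMonoidalCategory MonObj AlgebraicGeometry
open Topology
open scoped TensorProduct

namespace Groth.Agent.H28Neron.UnitProduct

open H19Grp.AffineLineLaw (T Tmap)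
open H19Grp.PuncturedLineLaw (val val_comp val_injective pt val_pt)

variable {k : Type u} [Field k]

lemma Tmap_comp {R R' R'' : Type u} [CommRing R] [Algebra k R] [CommRing R'] [Algebra k R'] [CommRing R''] [Algebra k R'']
    (φ : R →ₐ[k] R') (ψ : R' →ₐ[k] R'') : Tmap (ψ.comp φ) = Tmap ψ ≫ Tmap φ := by
  refine Over.OverMorphism.ext ?_
  show Spec.map _ = Spec.map _ ≫ Spec.map _
  rw [← Spec.map_comp]
  rfl

lemma Tmap_id (R : Type u) [CommRing R] [Algebra k R] : Tmap (AlgHom.id k R) = 𝟙 (T k R) :=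
  Over.OverMorphism.ext (Spec.map_id _)

/-- The closed set where the values of a function are proportional to a given element. -/
theorem closed_classes {A B : Type u} [CommRing A] [Algebra k A] [CommRing B] [Algebra k B]
    (F : A ⊗[k] B) :
    ∃ V : Submodule k B, FiniteDimensional k V ∧
      (∀ φ : A →ₐ[k] k, Algebra.TensorProduct.productMap ((Algebra.ofId k B).comp φ) (AlgHom.id k B) F ∈ V) ∧
      ∀ h : B, h ≠ 0 → ∃ s : Set A, ∀ φ : A →ₐ[k] k,
        ((∃ c : k, Algebra.TensorProduct.productMap ((Algebra.ofId k B).comp φ) (AlgHom.id k B) F = c • h) ↔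
          ∀ a ∈ s, φ a = 0) := by
  classical
  let b := Module.Free.chooseBasis k B
  let e := TensorProduct.equivFinsuppOfBasisRight (M := A) b
  let f := e F
  have hev : ∀ φ : A →ₐ[k] k, Algebra.TensorProduct.productMap ((Algebra.ofId k B).comp φ) (AlgHom.id k B) F =
      ∑ i ∈ f.support, φ (f i) • b i := by
    intro φ
    conv_lhs => rw [← e.symm_apply_apply F]
    rw [TensorProduct.equivFinsuppOfBasisRight_symm_apply, Finsupp.sum, map_sum]
    refine Finset.sum_congr rfl fun i _ => ?_
    rw [Algebra.TensorProduct.productMap_apply_tmul, Algebra.smul_def]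
    rfl
  refine ⟨Submodule.span k (b '' (f.support : Set _)), ?_, fun φ => ?_, fun h hh => ?_⟩
  · exact FiniteDimensional.span_of_finite k (f.support.finite_toSet.image _)
  · rw [hev]
    exact Submodule.sum_mem _ fun i hi => Submodule.smul_mem _ _ (Submodule.subset_span ⟨i, hi, rfl⟩)
  · refine ⟨Set.range fun ij : _ × _ => f ij.1 * algebraMap k A (b.repr h ij.2) - f ij.2 * algebraMap k A (b.repr h ij.1),
      fun φ => ?_⟩
    have hrepr : ∀ i, b.repr (Algebra.TensorProduct.productMap ((Algebra.ofId k B).comp φ) (AlgHom.id k B) F) i =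
        φ (f i) := by
      intro i
      rw [hev, map_sum, Finsupp.finset_sum_apply]
      simp only [map_smul, Module.Basis.repr_self, Finsupp.smul_apply, Finsupp.single_apply, smul_eq_mul,
        mul_ite, mul_one, mul_zero, Finset.sum_ite_eq']
      split_ifs with hi
      · simp
      · rw [Finsupp.notMem_support_iff.1 hi, map_zero]
    constructor
    · rintro ⟨c, hc⟩ _ ⟨⟨i, j⟩, rfl⟩
      have h1 : ∀ i, φ (f i) = c * b.repr h i := fun i => by
        rw [← hrepr i, hc, map_smul, Finsupp.smul_apply, smul_eq_mul]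
      simp only [map_sub, map_mul, h1, AlgHom.commutes, Algebra.algebraMap_self, RingHom.id_apply]
      ring
    · intro hs
      obtain ⟨j, hj⟩ : ∃ j, b.repr h j ≠ 0 := by
        by_contra hall
        push Not at hall
        exact hh (b.repr.map_eq_zero_iff.1 (Finsupp.ext hall))
      refine ⟨φ (f j) / b.repr h j, b.ext_elem fun i => ?_⟩
      rw [hrepr, map_smul, Finsupp.smul_apply, smul_eq_mul]
      have := hs _ ⟨(i, j), rfl⟩
      simp only [map_sub, map_mul, AlgHom.commutes, Algebra.algebraMap_self, RingHom.id_apply, sub_eq_zero] at this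
      field_simp
      linear_combination this

lemma eq_cp (x : (Spec (CommRingCat.of k) : Scheme.{u})) : x = IsLocalRing.closedPoint k :=
  Subsingleton.elim _ _

variable [IsAlgClosed k]

local notation "S" => Spec (CommRingCat.of k)

/-- The algebra structure and chart of an affine open. -/
theorem exists_chart {X : Over S} [LocallyOfFiniteType X.hom] {U : X.left.Opens} (hU : IsAffineOpen U) :
    ∃ (_ : Algebra k Γ(X.left, U)) (i : T k Γ(X.left, U) ⟶ X),
      Algebra.FiniteType k Γ(X.left, U) ∧ i.left = hU.fromSpec := by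
  obtain ⟨φ, hφ⟩ : ∃ φ : CommRingCat.of k ⟶ Γ(X.left, U), Spec.map φ = hU.fromSpec ≫ X.hom :=
    ⟨_, Spec.map_preimage _⟩
  letI : Algebra k Γ(X.left, U) := φ.hom.toAlgebra
  refine ⟨inferInstance, Over.homMk hU.fromSpec hφ.symm, ?_, rfl⟩
  exact (HasRingHomProperty.Spec_iff (P := @LocallyOfFiniteType)).1 (by rw [hφ]; infer_instance)

/-- A rational point inside a chart. -/
theorem exists_algHom {X : Over S} {A : Type u} [CommRing A] [Algebra k A] (i : T k A ⟶ X)
    [IsOpenImmersion i.left] (p : T k k ⟶ X) (h : p.left (IsLocalRing.closedPoint k) ∈ Set.range i.left) :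
    ∃ φ : A →ₐ[k] k, Tmap φ ≫ i = p := by
  have hr : Set.range p.left ⊆ Set.range i.left := by
    rintro _ ⟨y, rfl⟩
    rwa [eq_cp y]
  let ψ := IsOpenImmersion.lift i.left p.left hr
  obtain ⟨χ, hχ⟩ : ∃ χ : CommRingCat.of A ⟶ CommRingCat.of k, Spec.map χ = ψ := ⟨_, Spec.map_preimage _⟩
  have hcomm : CommRingCat.ofHom (algebraMap k A) ≫ χ = CommRingCat.ofHom (algebraMap k k) := by
    apply Spec.map_injective
    rw [Spec.map_comp, hχ]
    have hi : i.left ≫ X.hom = Spec.map (CommRingCat.ofHom (algebraMap k A)) := Over.w i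
    rw [← hi, ← Category.assoc, IsOpenImmersion.lift_fac]
    exact Over.w p
  refine ⟨⟨χ.hom, fun c => congrArg (fun m => m.hom c) hcomm⟩, Over.OverMorphism.ext ?_⟩
  show Spec.map (CommRingCat.ofHom χ.hom) ≫ i.left = p.left
  rw [CommRingCat.ofHom_hom, hχ, IsOpenImmersion.lift_fac]

/-- The rational point at a closed point. -/
noncomputable def point {X : Over S} [LocallyOfFiniteType X.hom] (x : X.left) (hx : IsClosed ({x} : Set X.left)) :
    T k k ⟶ X :=
  Over.homMk (pointOfClosedPoint X.hom x hx) (by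
    show _ = Spec.map (CommRingCat.ofHom (algebraMap k k))
    rw [pointOfClosedPoint_comp, Algebra.algebraMap_self]
    exact (Spec.map_id _).symm)

lemma closed_point {X : Over S} [LocallyOfFiniteType X.hom] (p : T k k ⟶ X) :
    IsClosed ({p.left (IsLocalRing.closedPoint k)} : Set X.left) := by
  have h : p.left ≫ X.hom = 𝟙 _ := (Over.w p).trans (by
    show Spec.map (CommRingCat.ofHom (algebraMap k k)) = _
    rw [Algebra.algebraMap_self]; exact Spec.map_id _)
  exact (pointEquivClosedPoint X.hom ⟨p.left, h⟩).2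

lemma point_eq {X : Over S} [LocallyOfFiniteType X.hom] (p : T k k ⟶ X) :
    point _ (closed_point p) = p := by
  refine Over.OverMorphism.ext (ext_of_apply_closedPoint_eq X.hom ?_ ?_ (by simp [point]))
  · simp [point]
  · refine (Over.w p).trans ?_
    show Spec.map (CommRingCat.ofHom (algebraMap k k)) = _
    rw [Algebra.algebraMap_self]; exact Spec.map_id _

local notation "Gm'" => Red.Gm (Spec (CommRingCat.of k))

/-- On an integral affine piece the function is constant in the second variable. -/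
theorem const_on_chart {X Y : Over S} [LocallyOfFiniteType X.hom] [QuasiCompact X.hom] [ConnectedSpace X.left]
    (eX : 𝟙_ (Over S) ⟶ X) (u : X ⊗ Y ⟶ Gm')
    (huY : lift (toUnit Y ≫ eX) (𝟙 Y) ≫ u = 1)
    {B : Type u} [CommRing B] [IsDomain B] [Algebra k B] [Algebra.FiniteType k B] (j : T k B ⟶ Y)
    (p : T k k ⟶ X) :
    ∃ g : T k k ⟶ Gm', lift (Tmap (Algebra.ofId k B) ≫ p) j ≫ u = Tmap (Algebra.ofId k B) ≫ g := by
  classical
  haveI : JacobsonSpace X.left := LocallyOfFiniteType.jacobsonSpace X.hom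
  haveI : CompactSpace X.left := QuasiCompact.compactSpace_of_compactSpace X.hom
  let c : (T k k ⟶ X) → B := fun q => (val (lift (Tmap (Algebra.ofId k B) ≫ q) j ≫ u) : Bˣ)
  have hcu : ∀ q, IsUnit (c q) := fun q => Units.isUnit _
  -- the behaviour on a chart
  have hchart : ∀ U : X.left.affineOpens, ∃ Sset : Set B, Sset.Finite ∧
      (∀ q : T k k ⟶ X, q.left (IsLocalRing.closedPoint k) ∈ U.1 → ∃ s ∈ Sset, ∃ a : k, c q = a • s) ∧
      ∀ h : B, h ≠ 0 → ∃ C : Set X.left, IsClosed C ∧ ∀ q : T k k ⟶ X, q.left (IsLocalRing.closedPoint k) ∈ U.1 →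
        ((∃ a : k, c q = a • h) ↔ q.left (IsLocalRing.closedPoint k) ∈ C) := by
    intro U
    obtain ⟨_, i, hft, hi⟩ := exists_chart U.2
    haveI : IsOpenImmersion i.left := by rw [hi]; infer_instance
    let A := Γ(X.left, U.1)
    let F : A ⊗[k] B := (val (lift (Tmap Algebra.TensorProduct.includeLeft ≫ i)
      (Tmap Algebra.TensorProduct.includeRight ≫ j) ≫ u) : (A ⊗[k] B)ˣ)
    obtain ⟨V, hVfin, hVmem, hVcl⟩ := closed_classes F
    have hc : ∀ φ : A →ₐ[k] k, c (Tmap φ ≫ i) =
        Algebra.TensorProduct.productMap ((Algebra.ofId k B).comp φ) (AlgHom.id k B) F := by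
      intro φ
      let ψ := Algebra.TensorProduct.productMap ((Algebra.ofId k B).comp φ) (AlgHom.id k B)
      have e := congrArg Units.val (val_comp ψ (lift (Tmap Algebra.TensorProduct.includeLeft ≫ i)
        (Tmap Algebra.TensorProduct.includeRight ≫ j) ≫ u))
      rw [← Category.assoc, comp_lift, ← Category.assoc, ← Category.assoc, ← Tmap_comp, ← Tmap_comp,
        Algebra.TensorProduct.productMap_left, Algebra.TensorProduct.productMap_right, Tmap_id, Category.id_comp,
        Tmap_comp, Category.assoc] at e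
      exact e
    have hin : ∀ q : T k k ⟶ X, q.left (IsLocalRing.closedPoint k) ∈ U.1 → ∃ φ : A →ₐ[k] k, Tmap φ ≫ i = q :=
      fun q hq => exists_algHom i q (by rw [hi]; erw [U.2.range_fromSpec]; exact hq)
    obtain ⟨Sset, hSfin, hS⟩ := UnitClasses.finite_classes V
    refine ⟨Sset, hSfin, fun q hq => ?_, fun h hh => ?_⟩
    · obtain ⟨φ, rfl⟩ := hin q hq
      exact hS _ (by rw [hc]; exact hVmem φ) (hcu _)
    · obtain ⟨s, hs⟩ := hVcl h hh
      obtain ⟨C, hC, hCeq⟩ := i.left.isOpenEmbedding.isInducing.isClosed_iff.1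
        (PrimeSpectrum.isClosed_zeroLocus s : IsClosed (PrimeSpectrum.zeroLocus s))
      refine ⟨C, hC, fun q hq => ?_⟩
      obtain ⟨φ, rfl⟩ := hin q hq
      rw [hc, hs]
      show _ ↔ i.left ((Tmap φ).left (IsLocalRing.closedPoint k)) ∈ C
      rw [← Set.mem_preimage, hCeq]
      show _ ↔ s ⊆ (Ideal.comap φ.toRingHom (IsLocalRing.maximalIdeal k) : Set A)
      refine forall₂_congr fun a _ => ?_
      rw [SetLike.mem_coe, Ideal.mem_comap, IsLocalRing.mem_maximalIdeal, mem_nonunits_iff, isUnit_iff_ne_zero, not_not]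
      rfl
  choose Sset hSfin hSmem hCl using hchart
  obtain ⟨t, ht⟩ := isCompact_univ.elim_finite_subcover (fun U : X.left.affineOpens => (U.1 : Set X.left))
    (fun U => U.1.2) (fun x _ => by
      obtain ⟨U, hU, hxU, -⟩ := exists_isAffineOpen_mem_and_subset (X := X.left) (x := x) (U := ⊤) trivial
      exact Set.mem_iUnion.2 ⟨⟨U, hU⟩, hxU⟩)
  let G : B → Set X.left := fun h =>
    {x | ∃ hx : IsClosed ({x} : Set X.left), ∃ a : k, c (point x hx) = a • h}
  have hGmem : ∀ (q : T k k ⟶ X) (h : B),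
      (∃ a : k, c q = a • h) ↔ q.left (IsLocalRing.closedPoint k) ∈ G h := by
    intro q h
    constructor
    · exact fun hh => ⟨closed_point q, by rwa [point_eq]⟩
    · rintro ⟨hx, hh⟩
      rwa [point_eq] at hh
  have hpt : ∀ x (hx : IsClosed ({x} : Set X.left)), (point x hx).left (IsLocalRing.closedPoint k) = x :=
    fun x hx => pointOfClosedPoint_apply X.hom x hx _
  have hclosure : ∀ (h : B), h ≠ 0 → ∀ x, IsClosed ({x} : Set X.left) → x ∈ closure (G h) → x ∈ G h := by
    intro h hh x hx hxc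
    obtain ⟨U, hU, hxU, -⟩ := exists_isAffineOpen_mem_and_subset (X := X.left) (x := x) (U := ⊤) trivial
    obtain ⟨C, hC, hCiff⟩ := hCl ⟨U, hU⟩ h hh
    have hsub : G h ∩ (U : Set X.left) ⊆ C := by
      rintro y ⟨⟨hy, hyh⟩, hyU⟩
      have := (hCiff (point y hy) (by rw [hpt]; exact hyU)).1 hyh
      rwa [hpt] at this
    have hxC : x ∈ C := hC.closure_subset_iff.2 hsub
      (U.2.inter_closure ⟨hxU, hxc⟩ |> fun h' => by rwa [Set.inter_comm] at h')
    exact ⟨hx, (hCiff (point x hx) (by rw [hpt]; exact hxU)).2 (by rwa [hpt])⟩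
  let p₀ : T k k ⟶ X := toUnit _ ≫ eX
  have hu0 : lift (Tmap (Algebra.ofId k B) ≫ p₀) j ≫ u = Tmap (Algebra.ofId k B) ≫ (1 : T k k ⟶ Gm') := by
    have : lift (Tmap (Algebra.ofId k B) ≫ p₀) j = j ≫ lift (toUnit Y ≫ eX) (𝟙 Y) := by
      rw [comp_lift, Category.comp_id]
      congr 1
      simp only [p₀, ← Category.assoc]
      congr 1
      exact toUnit_unique _ _
    rw [this, Category.assoc, huY, MonObj.comp_one, MonObj.comp_one]
  let h₀ : B := c p₀
  have hh₀ : h₀ ≠ 0 := (hcu _).ne_zero
  let bad : Set B := {s ∈ ⋃ U ∈ t, Sset U | s ≠ 0 ∧ ∀ a : k, s ≠ a • h₀}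
  have hbad : bad.Finite := ((t.finite_toSet.biUnion fun U _ => hSfin U)).subset fun s hs => hs.1
  let C₀ := closure (G h₀)
  let C₁ := ⋃ s ∈ bad, closure (G s)
  have hC₁ : IsClosed C₁ := hbad.isClosed_biUnion fun _ _ => isClosed_closure
  have hdisj : C₀ ∩ C₁ = ∅ := by
    by_contra hne
    obtain ⟨x, ⟨hx0, hx1⟩, hx⟩ := nonempty_inter_closedPoints (Set.nonempty_iff_ne_empty.2 hne)
      (isClosed_closure.inter hC₁).isLocallyClosed
    obtain ⟨s, hs, hxs⟩ := Set.mem_iUnion₂.1 hx1
    obtain ⟨_, a, ha⟩ := hclosure _ hh₀ x hx hx0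
    obtain ⟨_, b, hb⟩ := hclosure s hs.2.1 x hx hxs
    have hb0 : b ≠ 0 := fun h0 => (hcu _).ne_zero (by rw [hb, h0, zero_smul])
    refine hs.2.2 (b⁻¹ * a) ?_
    rw [mul_smul, ← ha, hb, inv_smul_smul₀ hb0]
  have hcov : C₀ ∪ C₁ = Set.univ := by
    refine Set.eq_univ_of_univ_subset ?_
    rw [← closure_closedPoints]
    refine (isClosed_closure.union hC₁).closure_subset_iff.2 fun x hx => ?_
    obtain ⟨U, hUt, hxU⟩ := Set.mem_iUnion₂.1 (ht (Set.mem_univ x))
    obtain ⟨s, hs, a, ha⟩ := hSmem U (point x hx) (by rw [hpt]; exact hxU)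
    have hs0 : s ≠ 0 := fun h0 => (hcu _).ne_zero (by rw [ha, h0, smul_zero])
    by_cases hsb : ∀ b : k, s ≠ b • h₀
    · exact Or.inr (Set.mem_iUnion₂.2 ⟨s, ⟨Set.mem_iUnion₂.2 ⟨U, hUt, hs⟩, hs0, hsb⟩,
        subset_closure ⟨hx, a, ha⟩⟩)
    · push Not at hsb
      obtain ⟨b, hb⟩ := hsb
      exact Or.inl (subset_closure ⟨hx, a * b, by rw [ha, hb, mul_smul]⟩)
  have hclopen : IsClopen C₀ := ⟨isClosed_closure, by
    rw [show C₀ = C₁ᶜ from (IsCompl.of_eq hdisj hcov).eq_compl]
    exact hC₁.isOpen_compl⟩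
  have hall : C₀ = Set.univ := (isClopen_iff.1 hclopen).resolve_left
    (Set.Nonempty.ne_empty ⟨_, subset_closure ((hGmem p₀ h₀).1 ⟨1, (one_smul k _).symm⟩)⟩)
  obtain ⟨a, ha⟩ := (hGmem p h₀).2 (hclosure h₀ hh₀ _ (closed_point p) (show _ ∈ C₀ by rw [hall]; trivial))
  have h1 : h₀ = algebraMap k B ((val (1 : T k k ⟶ Gm') : kˣ) : k) := by
    show ((val _ : Bˣ) : B) = _
    rw [hu0, val_comp]
    rfl
  have ha0 : a ≠ 0 := fun h0 => (hcu p).ne_zero (by rw [ha, h0, zero_smul])
  refine ⟨pt (Units.mk0 a ha0 * val (1 : T k k ⟶ Gm')), val_injective (Units.ext ?_)⟩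
  show c p = _
  rw [val_comp, val_pt, ha, h1, Algebra.smul_def, ← map_mul]
  rfl

/-- A function on the product which is trivial on both axes is trivial. -/
theorem eq_one {X Y : Over S} [LocallyOfFiniteType X.hom] [QuasiCompact X.hom] [ConnectedSpace X.left]
    [LocallyOfFiniteType Y.hom] [QuasiCompact Y.hom] [ConnectedSpace Y.left] [IsReduced Y.left]
    [IsReduced (X ⊗ Y).left] [LocallyOfFiniteType (Gm').hom]
    (eX : 𝟙_ (Over S) ⟶ X) (eY : 𝟙_ (Over S) ⟶ Y) (u : X ⊗ Y ⟶ Gm')
    (huX : lift (𝟙 X) (toUnit X ≫ eY) ≫ u = 1) (huY : lift (toUnit Y ≫ eX) (𝟙 Y) ≫ u = 1) :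
    u = 1 := by
  classical
  haveI : LocallyOfFiniteType (X ⊗ Y).hom :=
    inferInstanceAs (LocallyOfFiniteType (pullback.fst X.hom Y.hom ≫ X.hom))
  haveI : IsNoetherian Y.left := by
    haveI := LocallyOfFiniteType.isLocallyNoetherian Y.hom
    haveI : CompactSpace Y.left := QuasiCompact.compactSpace_of_compactSpace Y.hom
    exact {}
  haveI : IsSeparated (Gm').hom := by
    show IsSeparated (pullback.snd _ _)
    haveI : IsAffineHom (Red.diag (ULift.{u} ℤ) ℤ).hom := by
      show IsAffineHom (Spec.map _)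
      infer_instance
    infer_instance
  haveI : LocallyOfFiniteType (u.left ≫ (Gm').hom) := by rw [Over.w u]; infer_instance
  let one := (η[Gm']).left (IsLocalRing.closedPoint k)
  have hconst : ∀ {W : Over S} (w : W.left), (1 : W ⟶ Gm').left w = one := fun {W} w => by
    show (η[Gm']).left ((toUnit W).left w) = _
    rw [eq_cp ((toUnit W).left w)]
  refine Over.OverMorphism.ext (ext_of_apply_eq (Gm').hom Set.univ isClosed_univ.isLocallyClosed dense_univ
    (fun z _ hz => ?_) ((Over.w u).trans (Over.w (1 : X ⊗ Y ⟶ Gm')).symm))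
  let q := point z hz
  let p := q ≫ fst X Y
  let v : Y ⟶ Gm' := lift (toUnit Y ≫ (Over.homMk p.left (by
    rw [Over.w p]
    show Spec.map (CommRingCat.ofHom (algebraMap k k)) = 𝟙 _
    rw [Algebra.algebraMap_self]; exact Spec.map_id _) : 𝟙_ (Over S) ⟶ X)) (𝟙 Y) ≫ u
  -- `v` is constant on every irreducible component
  have hcomp : ∀ Z ∈ irreducibleComponents Y.left, ∃ g : (Gm').left, IsClosed ({g} : Set (Gm').left) ∧
      Z ⊆ v.left ⁻¹' {g} := by
    intro Z hZ
    have hfin := TopologicalSpace.NoetherianSpace.finite_irreducibleComponents (α := Y.left)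
    let R := ⋃ Z' ∈ irreducibleComponents Y.left \ {Z}, Z'
    have hR : IsClosed R := (hfin.subset Set.diff_subset).isClosed_biUnion
      fun Z' hZ' => isClosed_of_mem_irreducibleComponents Z' hZ'.1
    have hZc := isClosed_of_mem_irreducibleComponents Z hZ
    let η' := hZ.1.genericPoint
    have hgen : IsGenericPoint η' Z := hZ.1.isGenericPoint_genericPoint hZc
    have hηR : η' ∉ R := by
      intro h
      obtain ⟨Z', hZ', hη⟩ := Set.mem_iUnion₂.1 h
      have hle : Z ⊆ Z' := by
        rw [← hgen.def]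
        exact (isClosed_of_mem_irreducibleComponents Z' hZ'.1).closure_subset_iff.2 (Set.singleton_subset_iff.2 hη)
      exact hZ'.2 (subset_antisymm (hZ.2 hZ'.1.1 hle) hle)
    obtain ⟨W, hW, hηW, hWR⟩ := exists_isAffineOpen_mem_and_subset (X := Y.left) (x := η')
      (U := ⟨Rᶜ, hR.isOpen_compl⟩) hηR
    have hWZ : (W : Set Y.left) ⊆ Z := by
      intro y hy
      by_contra hyZ
      exact hWR hy (Set.mem_iUnion₂.2 ⟨irreducibleComponent y, ⟨irreducibleComponent_mem_irreducibleComponents y,
        fun h => hyZ (h ▸ mem_irreducibleComponent)⟩, mem_irreducibleComponent⟩)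
    haveI : IrreducibleSpace (W : Scheme.{u}) := by
      have hWirr : IsIrreducible (W : Set Y.left) := by
        refine ⟨⟨η', hηW⟩, ?_⟩
        have := hZ.1.2.open_subset W.2 hWZ
        exact this
      exact isIrreducible_iff_irreducibleSpace.1 hWirr
    haveI : IsReduced (W : Scheme.{u}) := isReduced_of_isOpenImmersion W.ι
    haveI : AlgebraicGeometry.IsIntegral (W : Scheme.{u}) := isIntegral_of_irreducibleSpace_of_isReduced _
    haveI : Nonempty W := ⟨⟨η', hηW⟩⟩
    haveI : IsDomain Γ(Y.left, W) := W.topIso.symm.commRingCatIsoToRingEquiv.toMulEquiv.isDomain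
    obtain ⟨_, i, hft, hi⟩ := exists_chart hW
    obtain ⟨g, hg⟩ := const_on_chart eX u huY i p
    refine ⟨g.left (IsLocalRing.closedPoint k), closed_point g, ?_⟩
    have hpre : (W : Set Y.left) ⊆ v.left ⁻¹' {g.left (IsLocalRing.closedPoint k)} := by
      intro y hy
      rw [← hW.range_fromSpec, ← hi] at hy
      obtain ⟨y', rfl⟩ := hy
      have hiv : i ≫ v = Tmap (Algebra.ofId k Γ(Y.left, W)) ≫ g := by
        rw [← hg]
        simp only [v, ← Category.assoc, comp_lift, Category.comp_id]
        congr 2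
        refine Over.OverMorphism.ext ?_
        simp only [Over.comp_left, Over.homMk_left]
        congr 1
        exact Over.w i
      show v.left (i.left y') = _
      rw [← Scheme.Hom.comp_apply, ← Over.comp_left, hiv, Over.comp_left, Scheme.Hom.comp_apply,
        eq_cp ((Tmap (Algebra.ofId k Γ(Y.left, W))).left y')]
    calc Z = closure {η'} := hgen.def.symm
      _ ⊆ v.left ⁻¹' {g.left (IsLocalRing.closedPoint k)} :=
        ((closed_point g).preimage v.left.continuous).closure_subset_iff.2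
          (Set.singleton_subset_iff.2 (hpre hηW))
  choose g hgcl hg using hcomp
  have hfinZ := TopologicalSpace.NoetherianSpace.finite_irreducibleComponents (α := Y.left)
  let C₁ := ⋃ Z ∈ {Z : irreducibleComponents Y.left | g Z.1 Z.2 ≠ one}, Z.1
  have hC₁ : IsClosed C₁ := by
    haveI := hfinZ.to_subtype
    exact (Set.toFinite _).isClosed_biUnion fun Z _ => isClosed_of_mem_irreducibleComponents Z.1 Z.2
  have hsub : v.left ⁻¹' {one} = C₁ᶜ := by
    ext y
    constructor
    · intro hy hy1
      obtain ⟨Z, hZ, hyZ⟩ := Set.mem_iUnion₂.1 hy1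
      exact hZ ((Set.mem_singleton_iff.1 (hg Z.1 Z.2 hyZ)).symm.trans hy)
    · intro hy
      have hZ := irreducibleComponent_mem_irreducibleComponents y
      have := Set.mem_singleton_iff.1 (hg _ hZ (mem_irreducibleComponent (x := y)))
      refine this.trans ?_
      by_contra hne
      exact hy (Set.mem_iUnion₂.2 ⟨⟨_, hZ⟩, hne, mem_irreducibleComponent⟩)
  have honecl : IsClosed ({one} : Set (Gm').left) := by
    have := closed_point (toUnit (T k k) ≫ η[Gm'])
    rwa [Over.comp_left, Scheme.Hom.comp_apply, eq_cp ((toUnit (T k k)).left _)] at this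
  have hclopen : IsClopen (v.left ⁻¹' {one}) :=
    ⟨honecl.preimage v.left.continuous, by rw [hsub]; exact hC₁.isOpen_compl⟩
  have hev : eY ≫ v = 1 := by
    rw [show eY ≫ v = (Over.homMk p.left (by
      rw [Over.w p]
      show Spec.map (CommRingCat.ofHom (algebraMap k k)) = 𝟙 _
      rw [Algebra.algebraMap_self]; exact Spec.map_id _) : 𝟙_ (Over S) ⟶ X) ≫ lift (𝟙 X) (toUnit X ≫ eY) ≫ u from ?_,
      huX, MonObj.comp_one]
    simp only [v, ← Category.assoc, comp_lift, Category.comp_id]
    congr 2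
    · rw [toUnit_unique (eY ≫ toUnit Y) (𝟙 _), Category.id_comp]
    · rw [toUnit_unique (_ ≫ toUnit X) (𝟙 _), Category.id_comp]
  have hall : v.left ⁻¹' {one} = Set.univ := (isClopen_iff.1 hclopen).resolve_left
    (Set.Nonempty.ne_empty ⟨eY.left (IsLocalRing.closedPoint k), by
      show v.left (eY.left _) = one
      rw [← Scheme.Hom.comp_apply, ← Over.comp_left, hev]
      exact hconst _⟩)
  rw [hconst z]
  have hz' : u.left z = v.left ((snd X Y).left z) := by
    have hqv : q ≫ u = (q ≫ snd X Y) ≫ v := by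
      simp only [v, ← Category.assoc, comp_lift, Category.comp_id]
      congr 1
      refine CartesianMonoidalCategory.hom_ext _ _ ?_ ?_
      · rw [lift_fst]
        refine Over.OverMorphism.ext ?_
        show p.left = ((q ≫ snd X Y) ≫ toUnit Y).left ≫ p.left
        rw [show ((q ≫ snd X Y) ≫ toUnit Y).left = 𝟙 _ from (Over.w (q ≫ snd X Y)).trans (by
          show Spec.map (CommRingCat.ofHom (algebraMap k k)) = 𝟙 _
          rw [Algebra.algebraMap_self]; exact Spec.map_id _)]
        exact (Category.id_comp _).symm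
      · rw [lift_snd]
    have := congrArg (fun m => m.left (IsLocalRing.closedPoint k)) hqv
    simpa [q, point] using this
  rw [hz']
  exact Set.eq_univ_iff_forall.1 hall _

end Groth.Agent.H28Neron.UnitProduct
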